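import Mathlib.RingTheory.MvPolynomial.Expand
import Mathlib.Algebra.Polynomial.Expand
import Mathlib.Algebra.CharP.Lemmas
import Mathlib.Algebra.Polynomial.AlgebraMap
import Mathlib.Algebra.DualNumber
import Mathlib.Data.ZMod.Units
import Mathlib.Algebra.Polynomial.Taylor
import Mathlib.RingTheory.MvPolynomial.Homogeneous
import Mathlib.Algebra.MvPolynomial.Eval

/-!
# Additive classes modulo the image of `psi`

Let `R` be a ring of characteristic `p` which is free over its subring of `p`-th powers on `1, t, ..., t^(p-1)`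
(`PB p R t`). For an `R`-algebra `A` let `psi a = sum a_i^p t^i - a_(p-1)`; for `A` of the form `A' -> A`,
`A' = A[tau]/(tau^p - t)`, this is `D^(p-1) a + a^p` for `a = sum a_i tau^i` and `D = d/dtau`.

* `eq_zero_of_mem`: an element of the image of `psi` on `R[X_1, ..., X_n]` all of whose monomials are not `p`-th powers
  is zero.
* `eq_zero_of_C_mul_X_mem`: `c X` lies in the image of `psi` on `R[X]` only if `c = 0`.
* `exists_linear`: if `c(X + Y) - c(X) - c(Y)` lies in the image of `psi` on `R[X, Y]`, then `c` is congruent to a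
  linear monomial modulo the image of `psi` on `R[X]`.
-/

set_option autoImplicit false
universe u v

open Finset

namespace K770.PsiPrim

/-- `R` is free over its subring of `p`-th powers on `1, t, ..., t^(p-1)`. -/
structure PB (p : ℕ) (R : Type u) [CommRing R] (t : R) : Prop where
  gen : ∀ r : R, ∃ a : ℕ → R, r = ∑ i ∈ range p, a i ^ p * t ^ i
  ind : ∀ a : ℕ → R, ∑ i ∈ range p, a i ^ p * t ^ i = 0 → ∀ i < p, a i = 0

section Psi

variable {p : ℕ} {A : Type u} [CommRing A]

/-- The map `psi`. -/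
def psi (p : ℕ) (t : A) (a : ℕ → A) : A := ∑ i ∈ range p, a i ^ p * t ^ i - a (p - 1)

theorem psi_add [hp : Fact p.Prime] [CharP A p] (t : A) (a b : ℕ → A) :
    psi p t (a + b) = psi p t a + psi p t b := by
  simp only [psi, Pi.add_apply]
  rw [Finset.sum_congr rfl (fun i _ => by rw [add_pow_char (a i) (b i) p, add_mul])]
  rw [Finset.sum_add_distrib]
  ring

theorem psi_zero [hp : Fact p.Prime] (t : A) : psi p t (0 : ℕ → A) = 0 := by
  simp only [psi, Pi.zero_apply, sub_zero]
  exact Finset.sum_eq_zero fun i _ => by rw [zero_pow hp.out.ne_zero, zero_mul]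

theorem psi_neg [hp : Fact p.Prime] [CharP A p] (t : A) (a : ℕ → A) : psi p t (-a) = -psi p t a := by
  rw [eq_neg_iff_add_eq_zero, ← psi_add, neg_add_cancel, psi_zero]

/-- The image of `psi`. -/
def psiRange (p : ℕ) [Fact p.Prime] [CharP A p] (t : A) : AddSubgroup A where
  carrier := Set.range (psi p t)
  zero_mem' := ⟨0, psi_zero t⟩
  add_mem' := by
    rintro _ _ ⟨a, rfl⟩ ⟨b, rfl⟩
    exact ⟨a + b, psi_add t a b⟩
  neg_mem' := by
    rintro _ ⟨a, rfl⟩
    exact ⟨-a, psi_neg t a⟩

theorem mem_psiRange [Fact p.Prime] [CharP A p] {t c : A} :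
    c ∈ psiRange p t ↔ ∃ a : ℕ → A, psi p t a = c := Iff.rfl

theorem psi_mem [Fact p.Prime] [CharP A p] (t : A) (a : ℕ → A) : psi p t a ∈ psiRange p t := ⟨a, rfl⟩

theorem map_psi {B : Type v} [CommRing B] (f : A →+* B) (t : A) (a : ℕ → A) :
    f (psi p t a) = psi p (f t) (fun i => f (a i)) := by
  simp only [psi, map_sub, map_sum, map_mul, map_pow]

theorem map_mem [Fact p.Prime] [CharP A p] {B : Type v} [CommRing B] [CharP B p] (f : A →+* B) {t c : A}
    (hc : c ∈ psiRange p t) : f c ∈ psiRange p (f t) := by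
  obtain ⟨a, rfl⟩ := hc
  exact ⟨fun i => f (a i), (map_psi f t a).symm⟩

/-- `psi` of a vector with one nonzero coordinate. -/
theorem psi_single [hp : Fact p.Prime] (t : A) (i : ℕ) (hi : i < p) (x : A) :
    psi p t (Pi.single i x) = x ^ p * t ^ i - (if i = p - 1 then x else 0) := by
  rw [psi, Finset.sum_eq_single i]
  · rw [Pi.single_eq_same]
    congr 1
    split_ifs with h
    · rw [h, Pi.single_eq_same]
    · rw [Pi.single_eq_of_ne (Ne.symm h)]
  · intro j _ hj
    rw [Pi.single_eq_of_ne hj, zero_pow hp.out.ne_zero, zero_mul]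
  · intro h
    exact absurd (Finset.mem_range.2 hi) h

end Psi

section Mv

open MvPolynomial

variable {p : ℕ} [hp : Fact p.Prime] {R : Type u} [CommRing R] [CharP R p] {σ : Type v} {t : R}

theorem coeff_pow_smul (f : MvPolynomial σ R) (n : σ →₀ ℕ) : coeff (p • n) (f ^ p) = coeff n f ^ p := by
  rw [← map_frobenius_expand, coeff_map, coeff_expand_smul _ hp.out.ne_zero, frobenius_def]

theorem coeff_pow_of_not_dvd (f : MvPolynomial σ R) {m : σ →₀ ℕ} {i : σ} (h : ¬ p ∣ m i) : coeff m (f ^ p) = 0 := by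
  rw [← map_frobenius_expand, coeff_map, coeff_expand_of_not_dvd _ h, map_zero]

theorem coeff_psi_smul (a : ℕ → MvPolynomial σ R) (n : σ →₀ ℕ) :
    coeff (p • n) (psi p (C t) a) = ∑ i ∈ range p, coeff n (a i) ^ p * t ^ i - coeff (p • n) (a (p - 1)) := by
  rw [psi, coeff_sub, coeff_sum]
  congr 1
  refine Finset.sum_congr rfl fun i _ => ?_
  rw [← map_pow, mul_comm, coeff_C_mul, coeff_pow_smul, mul_comm]

theorem coeff_psi_of_not_dvd (a : ℕ → MvPolynomial σ R) {m : σ →₀ ℕ} {j : σ} (h : ¬ p ∣ m j) :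
    coeff m (psi p (C t) a) = - coeff m (a (p - 1)) := by
  rw [psi, coeff_sub, coeff_sum, Finset.sum_eq_zero, zero_sub]
  intro i _
  rw [← map_pow, mul_comm, coeff_C_mul, coeff_pow_of_not_dvd _ h, mul_zero]

theorem coeff_eq_zero (hPB : PB p R t) (a : ℕ → MvPolynomial σ R)
    (h : ∀ n : σ →₀ ℕ, n ≠ 0 → coeff (p • n) (psi p (C t) a) = 0) (n : σ →₀ ℕ) (hn : n ≠ 0) (i : ℕ) (hi : i < p) :
    coeff n (a i) = 0 := by
  -- a non-zero coefficient at `n` gives one of `a (p-1)` at `p n`
  have step : ∀ (m : σ →₀ ℕ), m ≠ 0 → ∀ j < p, coeff m (a j) ≠ 0 → coeff (p • m) (a (p - 1)) ≠ 0 := by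
    intro m hm j hj h1 h2
    have h3 := h m hm
    rw [coeff_psi_smul, h2, sub_zero] at h3
    exact h1 (hPB.ind (fun i => coeff m (a i)) h3 j hj)
  by_contra hne
  have hlt : p - 1 < p := Nat.sub_lt hp.out.pos one_pos
  have hall : ∀ k : ℕ, coeff (p ^ (k + 1) • n) (a (p - 1)) ≠ 0 := by
    intro k
    induction k with
    | zero => rw [zero_add, pow_one]; exact step n hn i hi hne
    | succ k ih =>
      have h4 : (p ^ (k + 1)) • n ≠ 0 := by
        intro h5
        exact hn ((smul_eq_zero.1 h5).resolve_left (pow_ne_zero _ hp.out.ne_zero))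
      have h5 := step _ h4 (p - 1) hlt ih
      rwa [smul_smul, ← pow_succ'] at h5
  have hinj : Function.Injective (fun k : ℕ => p ^ (k + 1) • n) := by
    intro k l hkl
    obtain ⟨s, hs⟩ := Finsupp.ne_iff.1 hn
    rw [Finsupp.zero_apply] at hs
    have h6 := DFunLike.congr_fun hkl s
    simp only [Finsupp.smul_apply, smul_eq_mul] at h6
    have h7 := Nat.eq_of_mul_eq_mul_right (Nat.pos_of_ne_zero hs) h6
    have h8 := Nat.pow_right_injective hp.out.two_le h7
    exact Nat.succ_injective h8
  have hfin : (Set.range (fun k : ℕ => p ^ (k + 1) • n)).Finite :=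
    (a (p - 1)).support.finite_toSet.subset (by
      rintro _ ⟨k, rfl⟩
      exact Finset.mem_coe.2 (mem_support_iff.2 (hall k)))
  exact Set.infinite_range_of_injective hinj hfin

/-- Normal form: an element of the image of `psi` none of whose monomials is a `p`-th power is zero. -/
theorem eq_zero_of_mem (hPB : PB p R t) {d : MvPolynomial σ R} (hd : d ∈ psiRange p (C t : MvPolynomial σ R))
    (h : ∀ n : σ →₀ ℕ, coeff (p • n) d = 0) : d = 0 := by
  classical
  obtain ⟨a, rfl⟩ := hd
  have h1 := coeff_eq_zero hPB a (fun n _ => h n)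
  have h2 : ∀ i < p, a i = C (coeff 0 (a i)) := by
    intro i hi
    ext m
    rw [coeff_C]
    split_ifs with h3
    · rw [← h3]
    · exact h1 m (Ne.symm h3) i hi
  ext m
  rw [coeff_zero]
  by_cases hm : m = 0
  · rw [hm, ← smul_zero p]
    exact h 0
  · have h4 : psi p (C t) a = psi p (C t) (fun i => C (coeff 0 (a i))) := by
      rw [psi, psi, ← h2 (p - 1) (Nat.sub_lt hp.out.pos one_pos)]
      congr 1
      refine Finset.sum_congr rfl fun i hi => ?_
      rw [← h2 i (Finset.mem_range.1 hi)]
    rw [h4, ← map_psi (C : R →+* MvPolynomial σ R), coeff_C, if_neg (Ne.symm hm)]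

end Mv

section One

open Polynomial

variable {p : ℕ} [hp : Fact p.Prime] {R : Type u} [CommRing R] [CharP R p] {t : R}

/-- Reduction of a monomial modulo the image of `psi`. -/
theorem exists_reduced_monomial (hPB : PB p R t) (n : ℕ) : ∀ r : R, ∃ (c : R[X]) (r' : R),
    (∀ k : ℕ, c.coeff (p * k) = 0) ∧ monomial n r - c - C r' ∈ psiRange p (C t : R[X]) := by
  induction n using Nat.strong_induction_on with
  | _ n ih =>
    intro r
    by_cases hn : n = 0
    · refine ⟨0, r, fun k => coeff_zero _, ?_⟩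
      rw [hn, monomial_zero_left, sub_zero, sub_self]
      exact zero_mem _
    · by_cases hdvd : p ∣ n
      · obtain ⟨m, hm⟩ := hdvd
        have hm0 : 0 < m := by
          rcases Nat.eq_zero_or_pos m with h | h
          · exact absurd (by rw [hm, h, mul_zero]) hn
          · exact h
        have hlt : m < n := by
          rw [hm]
          exact lt_mul_left hm0 hp.out.one_lt
        obtain ⟨a, ha⟩ := hPB.gen r
        obtain ⟨c, r', hc, hmem⟩ := ih m hlt (a (p - 1))
        refine ⟨c, r', hc, ?_⟩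
        have h1 : psi p (C t) (fun i => monomial m (a i)) = monomial n r - monomial m (a (p - 1)) := by
          rw [psi, ha, map_sum, hm]
          congr 1
          refine Finset.sum_congr rfl fun i _ => ?_
          rw [monomial_pow, ← C_pow, monomial_mul_C, mul_comm p m]
        have h2 : (monomial n r - c - C r' : R[X]) = psi p (C t) (fun i => monomial m (a i)) +
            (monomial m (a (p - 1)) - c - C r') := by
          rw [h1]; ring
        rw [h2]
        exact add_mem (psi_mem _ _) hmem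
      · refine ⟨monomial n r, 0, fun k => ?_, ?_⟩
        · rw [coeff_monomial, if_neg]
          intro h
          exact hdvd ⟨k, h⟩
        · rw [sub_self, map_zero, sub_zero]
          exact zero_mem _

/-- Reduction of a polynomial modulo the image of `psi`. -/
theorem exists_reduced (hPB : PB p R t) (f : R[X]) : ∃ (c : R[X]) (r' : R),
    (∀ k : ℕ, c.coeff (p * k) = 0) ∧ f - c - C r' ∈ psiRange p (C t : R[X]) := by
  induction f using Polynomial.induction_on' with
  | add f g hf hg =>
    obtain ⟨c, r, hc, hm⟩ := hf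
    obtain ⟨c', r', hc', hm'⟩ := hg
    refine ⟨c + c', r + r', fun k => by rw [coeff_add, hc, hc', add_zero], ?_⟩
    have h : (f + g - (c + c') - C (r + r') : R[X]) = (f - c - C r) + (g - c' - C r') := by
      rw [C_add]; ring
    rw [h]
    exact add_mem hm hm'
  | monomial n r => exact exists_reduced_monomial hPB n r

/-- The defect of additivity. -/
noncomputable def defect (f : R[X]) : MvPolynomial (Fin 2) R :=
  aeval (MvPolynomial.X 0 + MvPolynomial.X 1) f - aeval (MvPolynomial.X 0) f - aeval (MvPolynomial.X 1) f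

omit hp [CharP R p] in
theorem defect_add (f g : R[X]) : defect (f + g) = defect f + defect g := by
  simp only [defect, map_add]
  ring

omit hp [CharP R p] in
theorem defect_sub (f g : R[X]) : defect (f - g) = defect f - defect g := by
  simp only [defect, map_sub]
  ring

omit hp [CharP R p] in
theorem defect_C (r : R) : defect (C r) = - MvPolynomial.C r := by
  simp only [defect, aeval_C, MvPolynomial.algebraMap_eq]
  ring

theorem defect_mem {f : R[X]} (hf : f ∈ psiRange p (C t : R[X])) :
    defect f ∈ psiRange p (MvPolynomial.C t : MvPolynomial (Fin 2) R) := by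
  have key : ∀ y : MvPolynomial (Fin 2) R, aeval (R := R) y f ∈ psiRange p (MvPolynomial.C t : MvPolynomial (Fin 2) R) := by
    intro y
    have h := map_mem (aeval (R := R) y : R[X] →ₐ[R] MvPolynomial (Fin 2) R).toRingHom hf
    have h2 : (aeval (R := R) y : R[X] →ₐ[R] MvPolynomial (Fin 2) R).toRingHom (C t) = MvPolynomial.C t := by
      change aeval (R := R) y (C t) = _
      rw [aeval_C, MvPolynomial.algebraMap_eq]
    rw [h2] at h
    exact h
  exact sub_mem (sub_mem (key _) (key _)) (key _)

omit hp [CharP R p] in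
theorem defect_eq_sum (f : R[X]) : defect f = ∑ n ∈ f.support, MvPolynomial.C (f.coeff n) *
    ((MvPolynomial.X 0 + MvPolynomial.X 1) ^ n - MvPolynomial.X 0 ^ n - MvPolynomial.X 1 ^ n) := by
  have key : ∀ y : MvPolynomial (Fin 2) R, aeval y f = ∑ n ∈ f.support, MvPolynomial.C (f.coeff n) * y ^ n := by
    intro y
    rw [aeval_def, eval₂_eq_sum, Polynomial.sum_def, MvPolynomial.algebraMap_eq]
  rw [defect, key, key, key, ← Finset.sum_sub_distrib, ← Finset.sum_sub_distrib]
  refine Finset.sum_congr rfl fun n _ => ?_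
  ring

omit hp [CharP R p] in
theorem coeff_defect (f : R[X]) (hf : ∀ k : ℕ, f.coeff (p * k) = 0) (n : Fin 2 →₀ ℕ) :
    MvPolynomial.coeff (p • n) (defect f) = 0 := by
  rw [defect_eq_sum, MvPolynomial.coeff_sum]
  refine Finset.sum_eq_zero fun k hk => ?_
  rw [MvPolynomial.coeff_C_mul]
  have h1 : ((MvPolynomial.X 0 + MvPolynomial.X 1) ^ k - MvPolynomial.X 0 ^ k - MvPolynomial.X 1 ^ k :
      MvPolynomial (Fin 2) R).IsHomogeneous k := by
    have h0 := MvPolynomial.isHomogeneous_X R (0 : Fin 2)
    have h1 := MvPolynomial.isHomogeneous_X R (1 : Fin 2)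
    have h2 := (((h0.add h1).pow k).sub (h0.pow k)).sub (h1.pow k)
    rwa [one_mul] at h2
  rw [h1.coeff_eq_zero, mul_zero]
  intro h2
  rw [Polynomial.mem_support_iff] at hk
  apply hk
  rw [← h2, map_nsmul, smul_eq_mul]
  exact hf _

omit [CharP R p] in
/-- An additive polynomial without exponents divisible by `p` is linear. -/
theorem eq_linear [CharP R p] {c : R[X]} (hc : ∀ k : ℕ, c.coeff (p * k) = 0) (hd : defect c = 0) :
    c = C (c.coeff 1) * X := by
  let φ : MvPolynomial (Fin 2) R →ₐ[R] DualNumber R[X] :=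
    MvPolynomial.aeval ![TrivSqZeroExt.inl X, DualNumber.eps]
  have h0 : φ (defect c) = 0 := by rw [hd, map_zero]
  have h1 : ∀ y : MvPolynomial (Fin 2) R, φ (aeval y c) = aeval (φ y) c := fun y =>
    (Polynomial.aeval_algHom_apply φ y c).symm
  have h2 : φ (MvPolynomial.X 0) = TrivSqZeroExt.inl X := by
    change MvPolynomial.aeval _ _ = _
    rw [MvPolynomial.aeval_X]; rfl
  have h3 : φ (MvPolynomial.X 1) = DualNumber.eps := by
    change MvPolynomial.aeval _ _ = _
    rw [MvPolynomial.aeval_X]; rfl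
  have h4 : (DualNumber.eps : DualNumber R[X]) ^ 2 = 0 := by
    rw [pow_two, DualNumber.eps_mul_eps]
  rw [defect, map_sub, map_sub, h1, h1, h1, map_add, h2, h3, aeval_add_of_sq_eq_zero _ _ _ h4] at h0
  have h5 := aeval_add_of_sq_eq_zero c (0 : DualNumber R[X]) _ h4
  rw [zero_add] at h5
  rw [h5] at h0
  have h6 : ∀ (y : DualNumber R[X]) (g : R[X]), TrivSqZeroExt.fst (aeval y g) = aeval (TrivSqZeroExt.fst y) g := by
    intro y g
    exact (Polynomial.aeval_algHom_apply (TrivSqZeroExt.fstHom R R[X] R[X]) y g).symm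
  have h7 := congrArg TrivSqZeroExt.snd h0
  have h8 : TrivSqZeroExt.snd (aeval (0 : DualNumber R[X]) c) = 0 := by
    have : aeval (0 : DualNumber R[X]) c = algebraMap R _ (c.coeff 0) := by
      rw [← Polynomial.coeff_zero_eq_aeval_zero']
    rw [this]
    rfl
  simp only [TrivSqZeroExt.snd_sub, TrivSqZeroExt.snd_add, DualNumber.snd_mul, DualNumber.fst_eps,
    DualNumber.snd_eps, mul_one, mul_zero, add_zero, h6, h8, TrivSqZeroExt.fst_inl, TrivSqZeroExt.fst_zero,
    TrivSqZeroExt.snd_zero, zero_add] at h7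
  rw [aeval_X_left_apply, ← coeff_zero_eq_aeval_zero', add_sub_cancel_left, sub_eq_zero, algebraMap_eq] at h7
  have hunit : ∀ n : ℕ, ¬ p ∣ n → ∀ r : R, r * (n : R) = 0 → r = 0 := by
    intro n hn r hr
    have hcop : Nat.Coprime n p := (Nat.Coprime.symm ((Nat.Prime.coprime_iff_not_dvd hp.out).2 hn))
    have hu : IsUnit (n : R) := by
      have h := ((ZMod.isUnit_iff_coprime n p).2 hcop).map (ZMod.castHom (dvd_refl p) R)
      rwa [map_natCast] at h
    exact hu.mul_left_eq_zero.1 hr
  ext n
  rw [coeff_C_mul, coeff_X]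
  split_ifs with hn1
  · rw [← hn1, mul_one]
  · rw [mul_zero]
    by_cases hdvd : p ∣ n
    · obtain ⟨k, rfl⟩ := hdvd
      exact hc k
    · rcases n with _ | n
      · exact absurd (dvd_zero p) hdvd
      · refine hunit _ hdvd _ ?_
        have h9 := congrArg (fun q => coeff q n) h7
        simp only [coeff_derivative, coeff_C] at h9
        rw [if_neg (by omega)] at h9
        rw [← h9, Nat.cast_succ]

/-- The constant term. -/
theorem psiRange_of_C_add (c : R[X]) (r : R) (hc : ∀ k : ℕ, c.coeff (p * k) = 0)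
    (h : defect c - MvPolynomial.C r ∈ psiRange p (MvPolynomial.C t : MvPolynomial (Fin 2) R)) :
    r ∈ psiRange p t := by
  have h1 := map_mem (MvPolynomial.aeval (fun _ : Fin 2 => (0 : R)) : MvPolynomial (Fin 2) R →ₐ[R] R).toRingHom h
  have h2 : ∀ y : MvPolynomial (Fin 2) R, MvPolynomial.aeval (fun _ : Fin 2 => (0 : R)) y = 0 →
      MvPolynomial.aeval (fun _ : Fin 2 => (0 : R)) (aeval y c) = 0 := by
    intro y hy
    have := hc 0
    rw [mul_zero] at this
    rw [← Polynomial.aeval_algHom_apply, hy, ← coeff_zero_eq_aeval_zero', this, map_zero]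
  have h3 : (MvPolynomial.aeval (fun _ : Fin 2 => (0 : R)) : MvPolynomial (Fin 2) R →ₐ[R] R).toRingHom
      (defect c - MvPolynomial.C r) = -r := by
    change MvPolynomial.aeval _ _ = _
    rw [defect, map_sub, map_sub, map_sub, h2, h2, h2, MvPolynomial.aeval_C]
    · change (0 - 0 - 0 - r : R) = -r
      ring
    · rw [MvPolynomial.aeval_X]
    · rw [MvPolynomial.aeval_X]
    · rw [map_add, MvPolynomial.aeval_X, MvPolynomial.aeval_X, add_zero]
  have h4 : (MvPolynomial.aeval (fun _ : Fin 2 => (0 : R)) : MvPolynomial (Fin 2) R →ₐ[R] R).toRingHom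
      (MvPolynomial.C t) = t := by
    change MvPolynomial.aeval _ _ = _
    rw [MvPolynomial.aeval_C]; rfl
  rw [h3, h4] at h1
  exact neg_mem_iff.1 h1

/-- **Additive classes are linear**: if `c(X + Y) - c(X) - c(Y)` lies in the image of `psi` on `R[X, Y]`, then `c`
is congruent to `c₁ X` modulo the image of `psi` on `R[X]`. -/
theorem exists_linear (hPB : PB p R t) {c : R[X]}
    (hc : defect c ∈ psiRange p (MvPolynomial.C t : MvPolynomial (Fin 2) R)) :
    ∃ c₁ : R, c - C c₁ * X ∈ psiRange p (C t : R[X]) := by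
  obtain ⟨c', r, hc', hm⟩ := exists_reduced hPB c
  have h1 : defect c' - MvPolynomial.C r ∈ psiRange p (MvPolynomial.C t : MvPolynomial (Fin 2) R) := by
    have h2 := defect_mem hm
    rw [defect_sub, defect_sub, defect_C] at h2
    have h3 := sub_mem hc h2
    have h4 : defect c - (defect c - defect c' - -MvPolynomial.C r) = defect c' - MvPolynomial.C r := by ring
    rwa [h4] at h3
  have h2 := psiRange_of_C_add c' r hc' h1
  have h3 : (C r : R[X]) ∈ psiRange p (C t : R[X]) := map_mem C h2
  have h4 : (MvPolynomial.C r : MvPolynomial (Fin 2) R) ∈ psiRange p (MvPolynomial.C t : MvPolynomial (Fin 2) R) :=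
    map_mem MvPolynomial.C h2
  have h5 : defect c' ∈ psiRange p (MvPolynomial.C t : MvPolynomial (Fin 2) R) := by
    have := add_mem h1 h4
    rwa [sub_add_cancel] at this
  have h6 : defect c' = 0 := eq_zero_of_mem hPB h5 (coeff_defect c' hc')
  have h7 := eq_linear hc' h6
  refine ⟨c'.coeff 1, ?_⟩
  rw [← h7]
  have h8 := add_mem hm h3
  rwa [sub_add_cancel] at h8

/-- The class of `c X` is trivial only for `c = 0`. -/
theorem eq_zero_of_C_mul_X_mem (hPB : PB p R t) {c : R} (hc : (C c * X : R[X]) ∈ psiRange p (C t : R[X])) :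
    c = 0 := by
  have h1 := map_mem (aeval (MvPolynomial.X 0) : R[X] →ₐ[R] MvPolynomial (Fin 1) R).toRingHom hc
  have h2 : ∀ a : R, (aeval (MvPolynomial.X 0) : R[X] →ₐ[R] MvPolynomial (Fin 1) R).toRingHom (C a) =
      MvPolynomial.C a := by
    intro a
    change aeval _ _ = _
    rw [aeval_C, MvPolynomial.algebraMap_eq]
  have h3 : (aeval (MvPolynomial.X 0) : R[X] →ₐ[R] MvPolynomial (Fin 1) R).toRingHom X = MvPolynomial.X 0 := by
    change aeval _ _ = _
    rw [aeval_X]
  rw [map_mul, h2, h2, h3] at h1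
  have h4 := eq_zero_of_mem hPB h1 (fun n => by
    rw [MvPolynomial.coeff_C_mul, MvPolynomial.coeff_X, if_neg, mul_zero]
    intro h
    have h5 := DFunLike.congr_fun h 0
    rw [Finsupp.single_eq_same, Finsupp.smul_apply, smul_eq_mul] at h5
    exact hp.out.one_lt.ne' (Nat.eq_one_of_mul_eq_one_right h5.symm))
  have h5 := congrArg (MvPolynomial.coeff (Finsupp.single 0 1)) h4
  rw [MvPolynomial.coeff_C_mul, MvPolynomial.coeff_X, if_pos rfl, mul_one, MvPolynomial.coeff_zero] at h5
  exact h5

end One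

end K770.PsiPrim
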