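import Groth.Agent.GaDual.K770.Coeff
import Mathlib.Algebra.Polynomial.Expand
import Mathlib.Algebra.CharP.Lemmas
import Mathlib.Algebra.Field.ZMod
import Mathlib.Data.Nat.Prime.Factorial
import Mathlib.Algebra.MvPolynomial.Expand

/-!
# Characters of the additive group in characteristic `p`

* `expp p a n` = `Σ_{j<p} a^j X^(j p^n) / j!`.
* `aeval_add_prod`: `P = ∏_{i<n} expp p (a i) i` with `a_i^p = 0` satisfies `P(X+Y) = P(X) P(Y)`.
* `coeff_eq_prod`: a sequence `c` with `c 0 = 1` and `binom(i+j,i) c_{i+j} = c_i c_j` for `i, j < p^n` agrees with the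
  coefficients of `∏_{i<n} expp p (c (p^i)) i` below `p^n`; `pow_eq_zero`: `(c (p^i))^p = 0`.
-/

set_option autoImplicit false
universe u

namespace K770.Char

open K770.Coeff

variable (p : ℕ) {A : Type u} [CommRing A]

/-- The `j`-th coefficient of the truncated exponential of `a T`. -/
noncomputable def e (a : A) (j : ℕ) : A := if j < p then Ring.inverse (j.factorial : A) * a ^ j else 0

/-- The truncated exponential of `a X^(p^n)`. -/
noncomputable def expp (a : A) (n : ℕ) : Polynomial A :=
  ∑ j ∈ Finset.range p, Polynomial.C (Ring.inverse (j.factorial : A) * a ^ j) * Polynomial.X ^ (j * p ^ n)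

/-- The product of truncated exponentials. -/
noncomputable def P (a : ℕ → A) (n : ℕ) : Polynomial A := ∏ i ∈ Finset.range n, expp p (a i) i

theorem P_def (a : ℕ → A) (n : ℕ) : P p a n = ∏ i ∈ Finset.range n, ∑ j ∈ Finset.range p,
    Polynomial.C (Ring.inverse (j.factorial : A) * a i ^ j) * Polynomial.X ^ (j * p ^ i) := rfl

theorem P_succ (a : ℕ → A) (n : ℕ) : P p a (n + 1) = P p a n * expp p (a n) n := Finset.prod_range_succ _ _

theorem coeff_mul_expp {Q : Polynomial A} {n : ℕ} (hQ : ∀ m, p ^ n ≤ m → Q.coeff m = 0) (a : A) (q r : ℕ)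
    (hr : r < p ^ n) : (Q * expp p a n).coeff (q * p ^ n + r) = Q.coeff r * e p a q := by
  rw [expp, Finset.mul_sum, Polynomial.finsetSum_coeff]
  have h1 : ∀ j, (Q * (Polynomial.C (Ring.inverse (j.factorial : A) * a ^ j) * Polynomial.X ^ (j * p ^ n))).coeff
      (q * p ^ n + r) = if q = j then Q.coeff r * (Ring.inverse (j.factorial : A) * a ^ j) else 0 := by
    intro j
    rw [mul_left_comm, Polynomial.coeff_C_mul, Polynomial.coeff_mul_X_pow']
    split_ifs with h2 h3 h3
    · subst h3
      rw [Nat.add_sub_cancel_left, mul_comm]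
    · have h4 : j < q := by
        by_contra h5
        have h6 : q < j := by omega
        have h7 : (q + 1) * p ^ n ≤ j * p ^ n := Nat.mul_le_mul_right _ h6
        rw [add_mul, one_mul] at h7
        omega
      rw [hQ, mul_zero]
      obtain ⟨k, rfl⟩ := Nat.exists_eq_add_of_lt h4
      have : (j + k + 1) * p ^ n + r - j * p ^ n = (k + 1) * p ^ n + r := by
        rw [show j + k + 1 = j + (k + 1) by ring, add_mul, add_assoc, Nat.add_sub_cancel_left]
      rw [this, add_mul, one_mul]
      omega
    · subst h3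
      omega
    · rw [mul_zero]
  simp only [h1, Finset.sum_ite_eq, Finset.mem_range, e, mul_ite, mul_zero]

variable [hp : Fact p.Prime]

theorem P_coeff_of_le (a : ℕ → A) (n m : ℕ) (h : p ^ n ≤ m) : (P p a n).coeff m = 0 := by
  induction n generalizing m with
  | zero =>
    rw [P, Finset.prod_range_zero, Polynomial.coeff_one, if_neg]
    rw [pow_zero] at h
    omega
  | succ n ih =>
    have hpn : 0 < p ^ n := pow_pos hp.out.pos n
    rw [P_succ]
    have h1 : m = (m / p ^ n) * p ^ n + m % p ^ n := (Nat.div_add_mod' m (p ^ n)).symm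
    rw [h1, coeff_mul_expp p ih _ _ _ (Nat.mod_lt _ hpn)]
    have h2 : ¬ m / p ^ n < p := by
      rw [not_lt, Nat.le_div_iff_mul_le hpn, ← pow_succ']
      exact h
    rw [e, if_neg h2, mul_zero]

theorem P_coeff_succ (a : ℕ → A) (n q r : ℕ) (hr : r < p ^ n) :
    (P p a (n + 1)).coeff (q * p ^ n + r) = (P p a n).coeff r * e p (a n) q := by
  rw [P_succ, coeff_mul_expp p (fun m hm => P_coeff_of_le p a n m hm) _ _ _ hr]

theorem P_coeff_zero (a : ℕ → A) (n : ℕ) : (P p a n).coeff 0 = 1 := by
  have hp0 := hp.out.pos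
  induction n with
  | zero => rw [P, Finset.prod_range_zero, Polynomial.coeff_one_zero]
  | succ n ih =>
    have h := P_coeff_succ p a n 0 0 (pow_pos hp0 n)
    rw [zero_mul, zero_add] at h
    rw [h, ih, e, if_pos hp0]
    simp

section CharP

variable [CharP A p]

theorem isUnit_natCast {m : ℕ} (h : ¬ p ∣ m) : IsUnit (m : A) := by
  have h1 : (m : ZMod p) ≠ 0 := by rwa [Ne, ZMod.natCast_eq_zero_iff]
  have h2 := (IsUnit.mk0 _ h1).map (ZMod.castHom (dvd_refl p) A)
  simpa using h2

theorem isUnit_factorial {j : ℕ} (h : j < p) : IsUnit (j.factorial : A) :=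
  isUnit_natCast p (fun h' => absurd ((Nat.Prime.dvd_factorial hp.out).1 h') (by omega))

theorem inverse_factorial_mul {j : ℕ} (h : j < p) : Ring.inverse (j.factorial : A) * (j.factorial : A) = 1 :=
  Ring.inverse_mul_cancel _ (isUnit_factorial p h)

theorem factorial_mul_e (a : A) {j : ℕ} (h : j < p) : (j.factorial : A) * e p a j = a ^ j := by
  rw [e, if_pos h, ← mul_assoc, mul_comm (j.factorial : A), inverse_factorial_mul p h, one_mul]

theorem choose_mul_e {a : A} (ha : a ^ p = 0) (i j : ℕ) :
    ((i + j).choose i : A) * e p a (i + j) = e p a i * e p a j := by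
  by_cases h : i + j < p
  · have hi : i < p := by omega
    have hj : j < p := by omega
    have h1 : ((i.factorial : A) * (j.factorial : A)) * (((i + j).choose i : A) * e p a (i + j)) =
        ((i.factorial : A) * (j.factorial : A)) * (e p a i * e p a j) := by
      have h2 : ((i + j).choose i : A) * (i.factorial : A) * (j.factorial : A) = ((i + j).factorial : A) := by
        have := Nat.choose_mul_factorial_mul_factorial (Nat.le_add_right i j)
        rw [Nat.add_sub_cancel_left] at this
        exact_mod_cast congrArg (Nat.cast (R := A)) this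
      calc _ = (((i + j).choose i : A) * (i.factorial : A) * (j.factorial : A)) * e p a (i + j) := by ring
        _ = a ^ (i + j) := by rw [h2, factorial_mul_e p a h]
        _ = (i.factorial : A) * e p a i * ((j.factorial : A) * e p a j) := by
          rw [factorial_mul_e p a hi, factorial_mul_e p a hj, pow_add]
        _ = _ := by ring
    exact ((isUnit_factorial (A := A) p hi).mul (isUnit_factorial p hj)).mul_left_cancel h1
  · have h0 : e p a (i + j) = 0 := if_neg h
    rw [h0, mul_zero]
    by_cases hi : i < p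
    · by_cases hj : j < p
      · rw [e, e, if_pos hi, if_pos hj]
        have h1 : a ^ (i + j) = 0 := by
          rw [not_lt] at h
          obtain ⟨k, hk⟩ := Nat.exists_eq_add_of_le h
          rw [hk, pow_add, ha, zero_mul]
        calc (0 : A) = Ring.inverse (i.factorial : A) * Ring.inverse (j.factorial : A) * a ^ (i + j) := by
              rw [h1, mul_zero]
          _ = _ := by ring
      · rw [e, e, if_neg hj, mul_zero]
    · rw [e, if_neg hi, zero_mul]

omit hp [CharP A p] in
theorem coeff_expp_zero (a : A) (m : ℕ) : (expp p a 0).coeff m = e p a m := by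
  rw [expp, Polynomial.finsetSum_coeff]
  simp only [pow_zero, mul_one, Polynomial.coeff_C_mul, Polynomial.coeff_X_pow, mul_ite, mul_zero, Finset.sum_ite_eq,
    Finset.mem_range, e]

theorem aeval_add_expp_zero {a : A} (ha : a ^ p = 0) :
    Polynomial.aeval (MvPolynomial.X 0 + MvPolynomial.X 1 : MvPolynomial (Fin 2) A) (expp p a 0) =
        Polynomial.aeval (MvPolynomial.X 0 : MvPolynomial (Fin 2) A) (expp p a 0) *
          Polynomial.aeval (MvPolynomial.X 1 : MvPolynomial (Fin 2) A) (expp p a 0) := by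
  rw [poly_iff]
  intro i j
  rw [coeff_expp_zero, coeff_expp_zero, coeff_expp_zero, choose_mul_e p ha]

omit hp [CharP A p] in
theorem expp_eq_expand (a : A) (n : ℕ) : expp p a n = Polynomial.expand A (p ^ n) (expp p a 0) := by
  rw [expp, expp, map_sum]
  refine Finset.sum_congr rfl fun j _ => ?_
  rw [map_mul (Polynomial.expand A (p ^ n)), map_pow (Polynomial.expand A (p ^ n)), Polynomial.expand_C,
    Polynomial.expand_X, pow_zero, mul_one, ← pow_mul, mul_comm j]

/-- `exp_p(a (x + y)^(p^n)) = exp_p(a x^(p^n)) exp_p(a y^(p^n))` in every `A`-algebra. -/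
theorem aeval_add_expp {B : Type*} [CommRing B] [Algebra A B] {a : A} (ha : a ^ p = 0) (n : ℕ) (x y : B) :
    Polynomial.aeval (x + y) (expp p a n) = Polynomial.aeval x (expp p a n) * Polynomial.aeval y (expp p a n) := by
  rw [expp_eq_expand, Polynomial.expand_aeval, Polynomial.expand_aeval, Polynomial.expand_aeval]
  have h1 : (x + y) ^ p ^ n = x ^ p ^ n + y ^ p ^ n := by
    have h2 : ((MvPolynomial.X 0 + MvPolynomial.X 1 : MvPolynomial (Fin 2) A)) ^ p ^ n =
        MvPolynomial.X 0 ^ p ^ n + MvPolynomial.X 1 ^ p ^ n := add_pow_char_pow _ _ _ _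
    have h3 := congrArg (MvPolynomial.aeval ![x, y]) h2
    simpa using h3
  rw [h1]
  have h4 := congrArg (MvPolynomial.aeval ![x ^ p ^ n, y ^ p ^ n]) (aeval_add_expp_zero p ha)
  simp only [map_mul, ← Polynomial.aeval_algHom_apply, map_add, MvPolynomial.aeval_X] at h4
  simpa using h4

theorem aeval_add_P {B : Type*} [CommRing B] [Algebra A B] {a : ℕ → A} (ha : ∀ n, a n ^ p = 0) (n : ℕ) (x y : B) :
    Polynomial.aeval (x + y) (P p a n) = Polynomial.aeval x (P p a n) * Polynomial.aeval y (P p a n) := by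
  rw [P, map_prod, map_prod, map_prod, ← Finset.prod_mul_distrib]
  exact Finset.prod_congr rfl fun i _ => aeval_add_expp p (ha i) i x y

theorem choose_mul_coeff_P {a : ℕ → A} (ha : ∀ n, a n ^ p = 0) (n i j : ℕ) :
    ((i + j).choose i : A) * (P p a n).coeff (i + j) = (P p a n).coeff i * (P p a n).coeff j :=
  (poly_iff _).1 (aeval_add_P p ha n _ _) i j

section Main

variable {p}
variable {c : ℕ → A} {n : ℕ} (h0 : c 0 = 1)
  (hc : ∀ i j, i < p ^ n → j < p ^ n → ((i + j).choose i : A) * c (i + j) = c i * c j)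

include h0 hc

theorem c_mul {k : ℕ} (hk : k < n) : ∀ q, q < p → (q.factorial : A) * c (q * p ^ k) = c (p ^ k) ^ q := by
  have hkn : p ^ (k + 1) ≤ p ^ n := Nat.pow_le_pow_right hp.out.pos hk
  have hpk : 0 < p ^ k := pow_pos hp.out.pos k
  intro q
  induction q with
  | zero => intro _; rw [Nat.factorial_zero, zero_mul, h0]; simp
  | succ q ih =>
    intro hq
    have h1 : q * p ^ k < p ^ n := by
      refine lt_of_lt_of_le ?_ hkn
      rw [pow_succ']
      exact Nat.mul_lt_mul_of_pos_right (by omega) hpk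
    have h2 : p ^ k < p ^ n := by
      refine lt_of_lt_of_le ?_ hkn
      rw [pow_succ']
      exact lt_mul_of_one_lt_left hpk hp.out.one_lt
    have h3 := hc _ _ h1 h2
    have h4 : ((q * p ^ k + p ^ k).choose (q * p ^ k) : A) = ((q + 1 : ℕ) : A) := by
      have h5 := choose_add_mul_cast (p := p) (A := A) k (q + 1) 0 q 0 hpk hpk
      rw [add_zero, add_zero, add_mul, one_mul] at h5
      rw [h5]
      simp
    rw [h4] at h3
    rw [Nat.factorial_succ, add_mul q 1 (p ^ k), one_mul]
    push_cast
    calc ((q : A) + 1) * (q.factorial : A) * c (q * p ^ k + p ^ k) =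
        (q.factorial : A) * (((q + 1 : ℕ) : A) * c (q * p ^ k + p ^ k)) := by push_cast; ring
      _ = (q.factorial : A) * (c (q * p ^ k) * c (p ^ k)) := by rw [h3]
      _ = (q.factorial : A) * c (q * p ^ k) * c (p ^ k) := by ring
      _ = c (p ^ k) ^ (q + 1) := by rw [ih (by omega), pow_succ]

theorem c_eq_e {k : ℕ} (hk : k < n) {q : ℕ} (hq : q < p) : c (q * p ^ k) = e p (c (p ^ k)) q := by
  apply (isUnit_factorial (A := A) p hq).mul_left_cancel
  rw [factorial_mul_e p _ hq, c_mul h0 hc hk q hq]

theorem pow_eq_zero {k : ℕ} (hk : k < n) : c (p ^ k) ^ p = 0 := by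
  have hkn : p ^ (k + 1) ≤ p ^ n := Nat.pow_le_pow_right hp.out.pos hk
  have hpk : 0 < p ^ k := pow_pos hp.out.pos k
  have hp1 := hp.out.one_lt
  have h1 : (p - 1) * p ^ k < p ^ n := by
    refine lt_of_lt_of_le ?_ hkn
    rw [pow_succ']
    exact Nat.mul_lt_mul_of_pos_right (by omega) hpk
  have h2 : p ^ k < p ^ n := by
    refine lt_of_lt_of_le ?_ hkn
    rw [pow_succ']
    exact lt_mul_of_one_lt_left hpk hp1
  have h3 := hc _ _ h1 h2
  have h4 : (((p - 1) * p ^ k + p ^ k).choose ((p - 1) * p ^ k) : A) = 0 := by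
    have h5 := choose_add_mul_cast (p := p) (A := A) k p 0 (p - 1) 0 hpk hpk
    have h6 : p * p ^ k + 0 = (p - 1) * p ^ k + p ^ k := by
      obtain ⟨q, hq⟩ : ∃ q, p = q + 1 := ⟨p - 1, by omega⟩
      rw [hq]
      simp only [Nat.add_sub_cancel]
      ring
    rw [h6, add_zero] at h5
    rw [h5]
    obtain ⟨q, hq⟩ : ∃ q, p = q + 1 := ⟨p - 1, by omega⟩
    have h7 : p.choose (p - 1) = p := by
      rw [hq, Nat.add_sub_cancel, Nat.choose_succ_self_right]
    rw [h7, CharP.cast_eq_zero, zero_mul]
  rw [h4, zero_mul] at h3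
  have h8 := c_mul h0 hc hk (p - 1) (by omega)
  calc c (p ^ k) ^ p = c (p ^ k) ^ (p - 1) * c (p ^ k) := by
        rw [← pow_succ, Nat.sub_add_cancel (by omega)]
    _ = ((p - 1).factorial : A) * (c ((p - 1) * p ^ k) * c (p ^ k)) := by rw [← h8]; ring
    _ = 0 := by rw [← h3, mul_zero]

theorem coeff_eq_prod {k : ℕ} (hk : k ≤ n) : ∀ m, m < p ^ k → (P p (fun i => c (p ^ i)) k).coeff m = c m := by
  induction k with
  | zero =>
    intro m hm
    rw [pow_zero, Nat.lt_one_iff] at hm
    rw [hm, P_coeff_zero, h0]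
  | succ k ih =>
    intro m hm
    have hkn : p ^ (k + 1) ≤ p ^ n := Nat.pow_le_pow_right hp.out.pos hk
    have hpk : 0 < p ^ k := pow_pos hp.out.pos k
    have h1 : m = (m / p ^ k) * p ^ k + m % p ^ k := (Nat.div_add_mod' m (p ^ k)).symm
    have h2 : m % p ^ k < p ^ k := Nat.mod_lt _ hpk
    have h3 : m / p ^ k < p := by
      rw [Nat.div_lt_iff_lt_mul hpk, ← pow_succ']
      exact hm
    have h4 : (m / p ^ k) * p ^ k < p ^ n := by
      have := Nat.div_mul_le_self m (p ^ k)
      omega
    have h5 : m % p ^ k < p ^ n := by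
      have := Nat.mod_le m (p ^ k)
      omega
    have h6 := hc _ _ h4 h5
    have h7 : (((m / p ^ k) * p ^ k + m % p ^ k).choose ((m / p ^ k) * p ^ k) : A) = 1 := by
      have h8 := choose_add_mul_cast (p := p) (A := A) k (m / p ^ k) (m % p ^ k) (m / p ^ k) 0 h2 hpk
      rw [add_zero] at h8
      rw [h8]
      simp
    rw [h7, one_mul, ← h1] at h6
    have h9 := P_coeff_succ p (fun i => c (p ^ i)) k (m / p ^ k) (m % p ^ k) h2
    rw [← h1] at h9
    rw [h9, ih (by omega) _ h2, h6, c_eq_e h0 hc (by omega) h3, mul_comm]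

end Main

/-- A polynomial character of degree `< p ^ n` is a product of truncated exponentials. -/
theorem eq_P {f : Polynomial A} {n : ℕ} (hd : f.natDegree < p ^ n) (h0 : f.coeff 0 = 1)
    (hc : ∀ i j, i < p ^ n → j < p ^ n → ((i + j).choose i : A) * f.coeff (i + j) = f.coeff i * f.coeff j) :
    f = P p (fun i => f.coeff (p ^ i)) n := by
  ext m
  by_cases hm : m < p ^ n
  · exact (coeff_eq_prod (c := f.coeff) h0 hc le_rfl m hm).symm
  · rw [P_coeff_of_le p _ n m (by omega), Polynomial.coeff_eq_zero_of_natDegree_lt (by omega)]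

end CharP

end K770.Char
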