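import Groth.Agent.GaDual.K770.DZero
import Groth.Agent.S2466
import Mathlib.RingTheory.DiscreteValuationRing.Basic
import Mathlib.LinearAlgebra.FiniteDimensional.Lemmas
import Mathlib.RingTheory.Kaehler.Basic

/-!
# Discrete valuation rings with `[k : k^p] = p`
-/

set_option autoImplicit false
universe u

namespace K770.DvrP

open Polynomial TensorProduct

variable (p : ℕ) [hp : Fact p.Prime]

section Field

variable {K : Type u} [Field K] [CharP K p]

theorem linInd {s : K} (hs : ¬ ∃ y, y ^ p = s) :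
    LinearIndependent (frobenius K p).fieldRange (fun i : Fin p => s ^ (i : ℕ)) := by
  set kp := (frobenius K p).fieldRange with hkp
  let a : kp := ⟨s ^ p, ⟨s, rfl⟩⟩
  have hirr : Irreducible (X ^ p - C a : kp[X]) := by
    apply X_pow_sub_C_irreducible_of_prime hp.out
    intro b hb
    apply hs
    obtain ⟨y, hy⟩ := b.2
    refine ⟨y, ?_⟩
    have h1 : (b : K) ^ p = s ^ p := congrArg Subtype.val hb
    rw [← hy] at h1
    exact frobenius_inj K p h1
  have hmin : minpoly kp s = X ^ p - C a := by
    symm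
    apply minpoly.eq_of_irreducible_of_monic hirr
    · simp [a]
      exact sub_self _
    · exact monic_X_pow_sub_C a hp.out.ne_zero
  have hdeg : (minpoly kp s).natDegree = p := by
    rw [hmin, natDegree_X_pow_sub_C]
  have hli := linearIndependent_pow (K := kp) s
  rwa [hdeg] at hli

theorem exists_coeff {s : K} (hs : ¬ ∃ y, y ^ p = s)
    (hdeg : Module.finrank (frobenius K p).fieldRange K = p) (x : K) :
    ∃ y : Fin p → K, x = ∑ i : Fin p, s ^ (i : ℕ) * y i ^ p := by
  have hli := linInd p hs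
  have : Module.Finite (frobenius K p).fieldRange K := by
    apply Module.finite_of_finrank_pos
    rw [hdeg]
    exact hp.out.pos
  have hspan := hli.span_eq_top_of_card_eq_finrank (by rw [Fintype.card_fin, hdeg])
  have hx : x ∈ Submodule.span (frobenius K p).fieldRange (Set.range fun i : Fin p => s ^ (i : ℕ)) := by
    rw [hspan]; trivial
  rw [Submodule.mem_span_range_iff_exists_fun] at hx
  obtain ⟨c, hc⟩ := hx
  choose y hy using fun i => (c i).2
  refine ⟨y, ?_⟩
  rw [← hc]
  refine Finset.sum_congr rfl fun i _ => ?_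
  have h1 : ((c i : (frobenius K p).fieldRange) : K) = y i ^ p := (hy i).symm
  rw [Subfield.smul_def, h1, smul_eq_mul, mul_comm]

theorem coeff_unique {s : K} (hs : ¬ ∃ y, y ^ p = s) {y y' : Fin p → K}
    (h : ∑ i : Fin p, s ^ (i : ℕ) * y i ^ p = ∑ i : Fin p, s ^ (i : ℕ) * y' i ^ p) : y = y' := by
  have hli := linInd p hs
  rw [Fintype.linearIndependent_iff] at hli
  let d : Fin p → (frobenius K p).fieldRange := fun i => ⟨(y i - y' i) ^ p, ⟨y i - y' i, rfl⟩⟩
  have h1 : ∑ i, d i • s ^ (i : ℕ) = 0 := by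
    rw [← sub_eq_zero, ← Finset.sum_sub_distrib] at h
    rw [← h]
    refine Finset.sum_congr rfl fun i _ => ?_
    rw [Subfield.smul_def, smul_eq_mul]
    change (y i - y' i) ^ p * _ = _
    rw [sub_pow_char]
    ring
  funext i
  have h2 := congrArg Subtype.val (hli d h1 i)
  have h3 : (y i - y' i) ^ p = 0 := h2
  exact sub_eq_zero.1 (pow_eq_zero_iff hp.out.ne_zero |>.1 h3)

end Field

section DVR

variable {R : Type u} [CommRing R] [IsDomain R] [IsDiscreteValuationRing R] [CharP R p] {π : R} (hπ : Irreducible π)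

include hπ

omit hp [CharP R p] in
theorem dvd_all {r : R} {c : Fin p → R} (h : π ^ p * r = ∑ i : Fin p, π ^ (i : ℕ) * c i ^ p) :
    ∀ i, π ∣ c i := by
  have hprime : Prime π := hπ.prime
  have key : ∀ (n : ℕ) (hn : n < p), π ∣ c ⟨n, hn⟩ := by
    intro n
    induction n using Nat.strong_induction_on with
    | _ n ih =>
      intro hn
      have h1 : π ^ (n + 1) ∣ ∑ i : Fin p, π ^ (i : ℕ) * c i ^ p := by
        rw [← h]
        exact Dvd.dvd.mul_right (pow_dvd_pow π (by omega)) _
      rw [← Finset.add_sum_erase _ _ (Finset.mem_univ (⟨n, hn⟩ : Fin p))] at h1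
      have h2 : π ^ (n + 1) ∣ ∑ i ∈ Finset.univ.erase (⟨n, hn⟩ : Fin p), π ^ (i : ℕ) * c i ^ p := by
        refine Finset.dvd_sum fun i hi => ?_
        have hi' : (i : ℕ) ≠ n := fun h => (Finset.ne_of_mem_erase hi) (Fin.ext h)
        rcases Nat.lt_or_gt_of_ne hi' with h3 | h3
        · obtain ⟨d, hd⟩ := ih i h3 i.2
          have h4 : c i = π * d := hd
          rw [h4, mul_pow, ← mul_assoc, ← pow_add]
          exact Dvd.dvd.mul_right (pow_dvd_pow π (by omega)) _
        · exact Dvd.dvd.mul_right (pow_dvd_pow π (by omega)) _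
      have h4 : π ^ (n + 1) ∣ π ^ n * c ⟨n, hn⟩ ^ p := (dvd_add_left h2).1 h1
      rw [pow_succ] at h4
      have h5 : π ∣ c ⟨n, hn⟩ ^ p := (mul_dvd_mul_iff_left (pow_ne_zero n hπ.ne_zero)).1 h4
      exact hprime.dvd_of_dvd_pow h5
  exact fun i => key i i.2

omit hp [CharP R p] in
theorem descend {r : R} : ∀ (m : ℕ) (c : Fin p → R), π ^ (p * m) * r = ∑ i : Fin p, π ^ (i : ℕ) * c i ^ p →
    ∃ c' : Fin p → R, r = ∑ i : Fin p, π ^ (i : ℕ) * c' i ^ p := by
  intro m
  induction m with
  | zero =>
    intro c h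
    exact ⟨c, by simpa using h⟩
  | succ m ih =>
    intro c h
    have h1 : π ^ p * (π ^ (p * m) * r) = ∑ i : Fin p, π ^ (i : ℕ) * c i ^ p := by
      rw [← h, ← mul_assoc, ← pow_add]
      congr 2
      ring
    choose d hd using dvd_all p hπ h1
    refine ih d ?_
    apply mul_left_cancel₀ (pow_ne_zero p hπ.ne_zero)
    rw [h1, Finset.mul_sum]
    refine Finset.sum_congr rfl fun i _ => ?_
    rw [hd i]
    ring

omit [CharP R p] in
theorem not_pow : ¬ ∃ y : FractionRing R, y ^ p = algebraMap R (FractionRing R) π := by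
  rintro ⟨y, hy⟩
  have h3 : IsIntegral R (y ^ p) := by
    rw [hy]
    exact isIntegral_algebraMap
  obtain ⟨f, hf⟩ := IsIntegrallyClosed.exists_algebraMap_eq_of_isIntegral_pow hp.out.pos h3
  rw [← hf, ← map_pow] at hy
  have h4 : f ^ p = π := IsFractionRing.injective R (FractionRing R) hy
  have h5 : π = f * f ^ (p - 1) := by
    rw [← h4, ← pow_succ', Nat.sub_add_cancel hp.out.pos]
  rcases hπ.isUnit_or_isUnit h5 with h6 | h6
  · exact hπ.not_isUnit (h4 ▸ h6.pow p)
  · have h7 : IsUnit f := (isUnit_pow_iff (by have := hp.out.two_le; omega)).1 h6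
    exact hπ.not_isUnit (h4 ▸ h7.pow p)

theorem exists_unique_coeff
    (hdeg : Module.finrank (frobenius (FractionRing R) p).fieldRange (FractionRing R) = p) (r : R) :
    ∃! c : Fin p → R, r = ∑ i : Fin p, π ^ (i : ℕ) * c i ^ p := by
  let K := FractionRing R
  have : CharP K p := charP_of_injective_algebraMap (IsFractionRing.injective R K) p
  have hs := not_pow p hπ
  have hex : ∃ c : Fin p → R, r = ∑ i : Fin p, π ^ (i : ℕ) * c i ^ p := by
    obtain ⟨y, hy⟩ := exists_coeff p hs hdeg (algebraMap R K r)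
    obtain ⟨⟨b, hb0⟩, hb⟩ := IsLocalization.exist_integer_multiples_of_finite (nonZeroDivisors R) y
    have hbne : b ≠ 0 := nonZeroDivisors.ne_zero hb0
    obtain ⟨m, u, hu⟩ := IsDiscreteValuationRing.associated_pow_irreducible hbne hπ
    choose c hc using hb
    have hc' : ∀ i, algebraMap R K (c i * u) = algebraMap R K π ^ m * y i := by
      intro i
      rw [map_mul, hc i, ← map_pow, ← hu, map_mul]
      change (b • y i) * _ = _
      rw [Algebra.smul_def]
      ring
    refine descend p hπ m (fun i => c i * u) (IsFractionRing.injective R K ?_)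
    rw [map_mul, hy, Finset.mul_sum, map_sum]
    refine Finset.sum_congr rfl fun i _ => ?_
    rw [map_mul, map_pow (algebraMap R K) (c i * u), hc' i, map_pow, map_pow]
    ring
  obtain ⟨c, hc⟩ := hex
  refine ⟨c, hc, fun c' hc' => ?_⟩
  have h1 := coeff_unique p hs (y := fun i => algebraMap R K (c' i)) (y' := fun i => algebraMap R K (c i)) (by
    have h2 := congrArg (algebraMap R K) (hc'.symm.trans hc)
    rw [map_sum, map_sum] at h2
    simpa only [map_mul, map_pow] using h2)
  funext i
  exact IsFractionRing.injective R K (congrFun h1 i)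

end DVR

section Kaehler

variable {R : Type u} [CommRing R] [IsDomain R] [CharP R p] {π : R}
  (h : ∀ r : R, ∃! c : Fin p → R, r = ∑ i : Fin p, π ^ (i : ℕ) * c i ^ p)

/-- The subring of `p`-th powers. -/
abbrev Rp (R : Type u) [CommRing R] [CharP R p] : Subring R := (frobenius R p).range

theorem pPower_surj : Function.Surjective (algebraMap (Rp p R) (EGA41.pPowerSubalgebra p (Rp p R) R)) := by
  rintro ⟨x, hx⟩
  have h1 : EGA41.pPowerSubalgebra p (Rp p R) R ≤ ⊥ := by
    refine Algebra.adjoin_le ?_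
    rintro _ ⟨b, rfl⟩
    exact Algebra.mem_bot.2 ⟨⟨b ^ p, ⟨b, rfl⟩⟩, rfl⟩
  obtain ⟨y, hy⟩ := Algebra.mem_bot.1 (h1 hx)
  exact ⟨y, Subtype.ext hy⟩

include h in
theorem linIndA : LinearIndependent (Rp p R) (fun i : Fin p => π ^ (i : ℕ)) := by
  rw [Fintype.linearIndependent_iff]
  intro g hg
  choose c hc using fun i => (g i).2
  have h1 : ∑ i : Fin p, π ^ (i : ℕ) * c i ^ p = 0 := by
    rw [← hg]
    refine Finset.sum_congr rfl fun i _ => ?_
    have h2 : ((g i : Rp p R) : R) = c i ^ p := (hc i).symm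
    rw [Subring.smul_def, h2, smul_eq_mul, mul_comm]
  have h2 : ∑ i : Fin p, π ^ (i : ℕ) * (0 : Fin p → R) i ^ p = 0 := by
    simp [hp.out.ne_zero]
  have h3 := (h 0).unique h1.symm h2.symm
  intro i
  apply Subtype.ext
  rw [← hc i, h3]
  simp [frobenius_def, hp.out.ne_zero]

include h in
theorem isPBasis : EGA41.IsPBasis p (Rp p R) (fun _ : PUnit.{u + 1} => π) := by
  have hmon : ∀ e : PUnit.{u + 1} →₀ ℕ, EGA41.pMonomial (fun _ : PUnit.{u + 1} => π) e = π ^ e PUnit.unit := by
    intro e
    rw [EGA41.pMonomial, Finsupp.prod_fintype _ _ (fun _ => pow_zero _), Fintype.prod_subsingleton _ PUnit.unit]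
  constructor
  · have h2 := (linIndA p h).map_of_surjective_injective (R' := EGA41.pPowerSubalgebra p (Rp p R) R)
      (algebraMap (Rp p R) (EGA41.pPowerSubalgebra p (Rp p R) R)) (AddMonoidHom.id R) (pPower_surj p)
      (fun m hm => hm) (fun r m => by
        rw [AddMonoidHom.id_apply, AddMonoidHom.id_apply, algebraMap_smul])
    let ι := {e : PUnit.{u + 1} →₀ ℕ // ∀ i, e i < p}
    let g : ι → Fin p := fun e => ⟨e.1 PUnit.unit, e.2 _⟩
    have hg : Function.Injective g := by
      rintro ⟨e, he⟩ ⟨e', he'⟩ h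
      have h3 : e PUnit.unit = e' PUnit.unit := congrArg Fin.val h
      exact Subtype.ext (Finsupp.ext fun _ => h3)
    have h3 := h2.comp g hg
    have h4 : ((AddMonoidHom.id R ∘ fun i : Fin p => π ^ (i : ℕ)) ∘ g) =
        (fun e : ι => EGA41.pMonomial (fun _ : PUnit.{u + 1} => π) e.1) := by
      funext e
      rw [hmon]
      rfl
    rw [h4] at h3
    exact h3
  · rw [EGA41.IsPGenerating, eq_top_iff]
    intro r _
    obtain ⟨c, hc, -⟩ := h r
    rw [hc]
    refine Submodule.sum_mem _ fun i _ => ?_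
    have h5 : π ^ (i : ℕ) * c i ^ p = (⟨c i ^ p, Algebra.subset_adjoin ⟨c i, rfl⟩⟩ :
        EGA41.pPowerSubalgebra p (Rp p R) R) • π ^ (i : ℕ) := by
      rw [Subalgebra.smul_def, smul_eq_mul, mul_comm]
    rw [h5]
    refine Submodule.smul_mem _ _ (Submodule.subset_span ⟨⟨Finsupp.single PUnit.unit (i : ℕ), ?_⟩, ?_⟩)
    · intro j
      simp
    · dsimp only
      rw [hmon]
      simp

theorem map_injective : Function.Injective (KaehlerDifferential.map ℤ (Rp p R) R R) := by
  rw [injective_iff_map_eq_zero]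
  intro x hx
  obtain ⟨y, rfl⟩ := (KaehlerDifferential.exact_mapBaseChange_map ℤ (Rp p R) R x).1 hx
  have hD : ∀ a : Rp p R, (1 : R) ⊗ₜ[Rp p R] KaehlerDifferential.D ℤ (Rp p R) a ∈
      LinearMap.ker (KaehlerDifferential.mapBaseChange ℤ (Rp p R) R) := by
    rintro ⟨a, c, hc⟩
    rw [LinearMap.mem_ker, KaehlerDifferential.mapBaseChange_tmul, one_smul, KaehlerDifferential.map_D]
    have h1 : algebraMap (Rp p R) R ⟨a, c, hc⟩ = c ^ p := hc.symm
    rw [h1, Derivation.leibniz_pow, ← Nat.cast_smul_eq_nsmul R, CharP.cast_eq_zero, zero_smul]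
  have h0 : ∀ z, KaehlerDifferential.mapBaseChange ℤ (Rp p R) R z = 0 := by
    intro z
    induction z with
    | zero => exact map_zero _
    | add x y hx hy => rw [map_add, hx, hy, add_zero]
    | tmul r w =>
      have hw : w ∈ Submodule.span (Rp p R) (Set.range (KaehlerDifferential.D ℤ (Rp p R))) := by
        rw [KaehlerDifferential.span_range_derivation]; trivial
      induction hw using Submodule.span_induction with
      | mem w hw =>
        obtain ⟨a, rfl⟩ := hw
        have h2 := hD a
        rw [LinearMap.mem_ker] at h2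
        have h3 : r ⊗ₜ[Rp p R] KaehlerDifferential.D ℤ (Rp p R) a = r • ((1 : R) ⊗ₜ[Rp p R] KaehlerDifferential.D ℤ (Rp p R) a) := by
          rw [TensorProduct.smul_tmul', smul_eq_mul, mul_one]
        rw [h3, map_smul, h2, smul_zero]
      | zero => rw [TensorProduct.tmul_zero, map_zero]
      | add x y _ _ hx hy => rw [TensorProduct.tmul_add, map_add, hx, hy, add_zero]
      | smul a x _ hx =>
        rw [TensorProduct.tmul_smul, ← algebraMap_smul R a, map_smul, hx, smul_zero]
  exact h0 y

include h in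
theorem bijective_smul : Function.Bijective (fun r : R => r • KaehlerDifferential.D ℤ R π) := by
  obtain ⟨b, hb⟩ := Groth.Agent.S2466.result p _ (isPBasis p h)
  have hF := map_injective p (R := R)
  set F := KaehlerDifferential.map ℤ (Rp p R) R R with hFdef
  have hFD : F (KaehlerDifferential.D ℤ R π) = b PUnit.unit := by
    rw [hFdef, KaehlerDifferential.map_D, hb]
    rfl
  constructor
  · intro r r' hr
    have h1 := congrArg F hr
    dsimp only at h1
    rw [map_smul, map_smul, hFD] at h1
    have h2 := congrArg (fun z => b.repr z PUnit.unit) h1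
    simpa using h2
  · intro w
    refine ⟨b.repr (F w) PUnit.unit, hF ?_⟩
    dsimp only
    rw [map_smul, hFD]
    conv_rhs => rw [← b.sum_repr (F w)]
    rw [Fintype.sum_subsingleton _ PUnit.unit]

end Kaehler

end K770.DvrP
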