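import Groth.Agent.GaDual.K770.Coeff
import Mathlib.RingTheory.Ideal.Quotient.Defs
import Mathlib.RingTheory.Ideal.Span

/-!
# Coefficients modulo `(X^P, Y^P)`

`coeff_eq_of_mk_eq`: two polynomials in `X, Y` which agree modulo `(X^P, Y^P)` have the same coefficients at `(i, j)`
for `i, j < P`; `mk_eq_of_coeff_eq` is the converse.
-/

set_option autoImplicit false
universe u

namespace K770.CoeffQuot

open K770.Coeff

variable {A : Type u} [CommRing A] (P : ℕ)

/-- The ideal `(X^P, Y^P)`. -/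
noncomputable abbrev I : Ideal (MvPolynomial (Fin 2) A) :=
  Ideal.span {(MvPolynomial.X 0 ^ P : MvPolynomial (Fin 2) A), MvPolynomial.X 1 ^ P}

theorem coeff_mul_X_pow_eq_zero (F : MvPolynomial (Fin 2) A) (s : Fin 2) (e : Fin 2 →₀ ℕ) (he : e s < P) :
    MvPolynomial.coeff e (F * MvPolynomial.X s ^ P) = 0 := by
  classical
  rw [MvPolynomial.X_pow_eq_monomial, MvPolynomial.coeff_mul_monomial', if_neg]
  intro h
  have := h s
  simp only [Finsupp.single_eq_same] at this
  omega

theorem coeff_eq_zero_of_mem {F : MvPolynomial (Fin 2) A} (hF : F ∈ I (A := A) P) {i j : ℕ} (hi : i < P)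
    (hj : j < P) : MvPolynomial.coeff (ee i j) F = 0 := by
  rw [Ideal.mem_span_pair] at hF
  obtain ⟨a, b, rfl⟩ := hF
  rw [MvPolynomial.coeff_add, coeff_mul_X_pow_eq_zero P a 0 _ (by simpa using hi),
    coeff_mul_X_pow_eq_zero P b 1 _ (by simpa using hj), add_zero]

theorem coeff_eq_of_mk_eq {F G : MvPolynomial (Fin 2) A}
    (h : Ideal.Quotient.mk (I (A := A) P) F = Ideal.Quotient.mk (I (A := A) P) G) {i j : ℕ} (hi : i < P)
    (hj : j < P) : MvPolynomial.coeff (ee i j) F = MvPolynomial.coeff (ee i j) G := by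
  rw [Ideal.Quotient.eq] at h
  have h1 := coeff_eq_zero_of_mem P h hi hj
  rwa [MvPolynomial.coeff_sub, sub_eq_zero] at h1

theorem mem_of_coeff {F : MvPolynomial (Fin 2) A}
    (h : ∀ i j, i < P → j < P → MvPolynomial.coeff (ee i j) F = 0) : F ∈ I (A := A) P := by
  classical
  rw [F.as_sum]
  refine Ideal.sum_mem _ fun e _ => ?_
  by_cases h0 : e 0 < P
  · by_cases h1 : e 1 < P
    · rw [eq_ee e, h _ _ h0 h1, MvPolynomial.monomial_zero]
      exact Ideal.zero_mem _
    · obtain ⟨k, hk⟩ := Nat.exists_eq_add_of_le (not_lt.1 h1)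
      rw [MvPolynomial.monomial_fin_two, hk, pow_add]
      exact Ideal.mul_mem_left _ _ (Ideal.mul_mem_right _ _ (Ideal.subset_span (by simp)))
  · obtain ⟨k, hk⟩ := Nat.exists_eq_add_of_le (not_lt.1 h0)
    rw [MvPolynomial.monomial_fin_two, hk, pow_add]
    exact Ideal.mul_mem_right _ _ (Ideal.mul_mem_left _ _ (Ideal.mul_mem_right _ _ (Ideal.subset_span (by simp))))

theorem mk_eq_of_coeff_eq {F G : MvPolynomial (Fin 2) A}
    (h : ∀ i j, i < P → j < P → MvPolynomial.coeff (ee i j) F = MvPolynomial.coeff (ee i j) G) :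
    Ideal.Quotient.mk (I (A := A) P) F = Ideal.Quotient.mk (I (A := A) P) G := by
  rw [Ideal.Quotient.eq]
  refine mem_of_coeff P fun i j hi hj => ?_
  rw [MvPolynomial.coeff_sub, h i j hi hj, sub_self]

/-- `f(X+Y) = f(X) f(Y)` modulo `(X^P, Y^P)` iff `binom(i+j,i) c_{i+j} = c_i c_j` for `i, j < P`. -/
theorem quot_iff (f : Polynomial A) :
    Ideal.Quotient.mk (I (A := A) P)
        (Polynomial.aeval (MvPolynomial.X 0 + MvPolynomial.X 1 : MvPolynomial (Fin 2) A) f) =
      Ideal.Quotient.mk (I (A := A) P)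
        (Polynomial.aeval (MvPolynomial.X 0 : MvPolynomial (Fin 2) A) f *
          Polynomial.aeval (MvPolynomial.X 1 : MvPolynomial (Fin 2) A) f) ↔
      ∀ i j : ℕ, i < P → j < P → ((i + j).choose i : A) * f.coeff (i + j) = f.coeff i * f.coeff j := by
  constructor
  · intro h i j hi hj
    rw [← coeff_aeval_add, coeff_eq_of_mk_eq P h hi hj, coeff_aeval_mul]
  · intro h
    refine mk_eq_of_coeff_eq P fun i j hi hj => ?_
    rw [coeff_aeval_add, coeff_aeval_mul, h i j hi hj]

end K770.CoeffQuot
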