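import Groth.Agent.GaDual.K770.Frob
import Groth.Agent.GaDual.K770.CoeffQuot
import Groth.Agent.GaDual.K771.Char
import Groth.Agent.FlatA.FiniteFreeSplit
import Mathlib.RingTheory.AdjoinRoot
import Mathlib.AlgebraicGeometry.Morphisms.Flat
import Mathlib.AlgebraicGeometry.Morphisms.FinitePresentation

/-!
# The Frobenius twist of an extension of `G_a` by `G_m` splits on sections

`exists_lift_tw`: `0 → G_m → I → Q → 0` exact over `X` of characteristic `p`, `f : G_a → Q`, `T` affine over `X`,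
`y` a function on `T`: then the value `f y ∈ Q (tw p T)` lifts to `I (tw p T)`.
-/

set_option autoImplicit false
universe u
open CategoryTheory CategoryTheory.Limits AlgebraicGeometry Opposite Polynomial

noncomputable section

namespace K770.Frob

open Groth.Agent.Etdl.H432.Sec K771.Pts K771.Aff K771.DDAlg

/-- A truncated polynomial which is multiplicative on elements with `x ^ P = 0` is a character. -/
theorem isChar_of_trunc {A : Type u} [CommRing A] (P : ℕ) (f : A[X]) (hf : ∀ i, P ≤ i → f.coeff i = 0)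
    (h0 : f.coeff 0 = 1)
    (h : ∀ (B : Type u) [CommRing B] (φ : A →+* B) (x y : B), x ^ P = 0 → y ^ P = 0 →
      f.eval₂ φ (x + y) = f.eval₂ φ x * f.eval₂ φ y) : IsChar f := by
  have h1 := h (MvPolynomial (Fin 2) A ⧸ K770.CoeffQuot.I (A := A) P)
    ((Ideal.Quotient.mk _).comp MvPolynomial.C) (Ideal.Quotient.mk _ (MvPolynomial.X 0)) (Ideal.Quotient.mk _ (MvPolynomial.X 1))
    (by
      rw [← map_pow, Ideal.Quotient.eq_zero_iff_mem]
      exact Ideal.subset_span (by simp))
    (by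
      rw [← map_pow, Ideal.Quotient.eq_zero_iff_mem]
      exact Ideal.subset_span (by simp))
  have h2 := (K770.CoeffQuot.quot_iff P f).1 (by
    rw [map_mul]
    simp only [aeval_def, hom_eval₂]
    rw [← map_add] at h1
    exact h1)
  refine ⟨h0, fun i j => ?_⟩
  by_cases hi : i < P
  · by_cases hj : j < P
    · exact (h2 i j hi hj).symm
    · rw [hf j (not_lt.1 hj), hf (i + j) (by omega), mul_zero, mul_zero]
  · rw [hf i (not_lt.1 hi), hf (i + j) (by omega), zero_mul, mul_zero]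

variable {X : Scheme.{u}} (p : ℕ) [hp : Fact p.Prime] [FrobSch.IsCharP X p]

section Ext

variable {I Q : EtFppf.AbF X} (α : Gm X ⟶ I) (β : I ⟶ Q) (f : Ga X ⟶ Q)
  (hinj : ∀ (U : Over X), Function.Injective (m α U))
  (hex : ∀ (U : Over X) (e : Γs I U), m β U e = 0 → ∃ c : Γs (Gm X) U, m α U c = e)
  (hαβ : ∀ (U : Over X) (c : Γs (Gm X) U), m β U (m α U c) = 0)
  (G : ∀ T : Over X, O T → Γs I (tw p T))
  (hG1 : ∀ T x y, G T (x + y) = G T x + G T y)
  (hG2 : ∀ {T V : Over X} (h : V ⟶ T) x, r I (tm p h) (G T x) = G V (ro h x))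
  (hG3 : ∀ T x, m β (tw p T) (G T x) = m f (tw p T) (gas (tf p (x ^ p))))

include hinj hex hG1 hG2 hG3 in
theorem exists_char (T : Over X) [IsAffine T.left] : ∃ φ : (O T)[X], IsChar φ ∧
    ∀ (W : Over X) (h : W ⟶ T) (x : O W), x ^ p = 0 → ∃ c : Γs (Gm X) (tw p W),
      gm c = tf p (φ.eval₂ (ro h) x) ∧ m α (tw p W) c = G W x := by
  let P0 : (O T)[X] := Polynomial.X ^ p
  have hmon : P0.Monic := monic_X_pow p
  let A1 := AdjoinRoot P0
  let a : O T →+* A1 := AdjoinRoot.of P0
  let x0 : O (aff a) := e a (AdjoinRoot.root _)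
  have hx0 : x0 ^ p = 0 := by
    have h1 : (AdjoinRoot.root P0) ^ p = 0 := by
      have h2 := AdjoinRoot.eval₂_root P0
      rwa [eval₂_pow, eval₂_X] at h2
    change (e a _) ^ p = 0
    rw [← map_pow, h1, map_zero]
  have h0 : m β _ (G (aff a) x0) = 0 := by
    rw [hG3, hx0, map_zero, gas_zero, map_zero]
  obtain ⟨c0, hc0⟩ := hex _ _ h0
  obtain ⟨φ0, hφ0⟩ := AdjoinRoot.mk_surjective ((e a).symm ((tf p).symm (gm c0)))
  let φ := φ0 %ₘ P0
  have hφ : AdjoinRoot.mk P0 φ = (e a).symm ((tf p).symm (gm c0)) := by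
    rw [← hφ0, AdjoinRoot.mk_eq_mk]
    refine ⟨- (φ0 /ₘ P0), ?_⟩
    have := modByMonic_add_div φ0 P0
    linear_combination this
  have key : ∀ (W : Over X) (h : W ⟶ T) (x : O W), x ^ p = 0 → ∃ c : Γs (Gm X) (tw p W),
      gm c = tf p (φ.eval₂ (ro h) x) ∧ m α (tw p W) c = G W x := by
    intro W h x hx
    obtain ⟨k, hk1, hk2⟩ := exists_hom a h (AdjoinRoot.lift (ro h) x (by rw [eval₂_pow, eval₂_X, hx]))
      (fun y => AdjoinRoot.lift_of _)
    refine ⟨r (Gm X) (tm p k) c0, ?_, ?_⟩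
    · rw [gm_r]
      have h1 : gm c0 = tf p (e a (AdjoinRoot.mk P0 φ)) := by
        rw [hφ, RingEquiv.apply_symm_apply, RingEquiv.apply_symm_apply]
      rw [h1, ro_tm, hk2, AdjoinRoot.lift_mk]
    · rw [m_r, hc0, hG2, hk2, AdjoinRoot.lift_root]
  have hG0 : ∀ T : Over X, G T 0 = 0 := by
    intro T
    have := hG1 T 0 0
    rwa [add_zero, left_eq_add] at this
  refine ⟨φ, isChar_of_trunc p φ (fun i hi => ?_) ?_ ?_, key⟩
  · rcases subsingleton_or_nontrivial (O T) with hn | hn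
    · exact Subsingleton.elim _ _
    · refine coeff_eq_zero_of_degree_lt ((degree_modByMonic_lt φ0 hmon).trans_le ?_)
      rw [degree_X_pow]
      exact_mod_cast hi
  · obtain ⟨c, hc, hc'⟩ := key T (𝟙 T) 0 (zero_pow hp.out.ne_zero)
    rw [hG0] at hc'
    have h1 : c = 0 := hinj _ (hc'.trans (map_zero _).symm)
    rw [h1, gm_zero, eval₂_at_zero, ro_id] at hc
    have h2 := congrArg (tf p).symm hc
    rw [map_one, RingEquiv.symm_apply_apply] at h2
    exact h2.symm
  · intro B _ b x y hx hy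
    have hev : ∀ z : B, φ.eval₂ (ro (π b)) (e b z) = e b (φ.eval₂ b z) := by
      intro z
      have h2 : ro (π b) = (e b : B →+* O (aff b)).comp b := by
        ext a
        exact ro_π b a
      have h3 := hom_eval₂ φ b (e b : B →+* O (aff b)) z
      rw [h2]
      exact h3.symm
    have hpow : ∀ z : B, z ^ p = 0 → (e b z) ^ p = 0 := fun z hz => by rw [← map_pow, hz, map_zero]
    have hchar : ((p : ℕ) : B) = 0 := by
      apply (e b).injective
      rw [map_natCast, map_zero]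
      exact (isCharP p (aff b)).natCast_eq_zero
    have hxy : (x + y) ^ p = 0 := by
      have := (FrobSch.powHom p B hchar).map_add x y
      rw [FrobSch.powHom_apply, FrobSch.powHom_apply, FrobSch.powHom_apply, hx, hy, add_zero] at this
      exact this
    obtain ⟨c, hc, hc'⟩ := key (aff b) (π b) (e b (x + y)) (hpow _ hxy)
    obtain ⟨c1, hc1, hc1'⟩ := key (aff b) (π b) (e b x) (hpow _ hx)
    obtain ⟨c2, hc2, hc2'⟩ := key (aff b) (π b) (e b y) (hpow _ hy)
    have h1 : c = c1 + c2 := by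
      apply hinj
      rw [map_add, hc', hc1', hc2', map_add, hG1]
    rw [h1, gm_add, hc1, hc2, ← map_mul, hev, hev, hev, ← map_mul] at hc
    exact ((e b).injective ((tf p).injective hc)).symm

end Ext

/-- Adjoining a root of a monic polynomial of positive degree is a covering. -/
theorem isCov_adjoinRoot {X : Scheme.{u}} {T : Over X} [IsAffine T.left] (P0 : (O T)[X]) (hmon : P0.Monic)
    (hdeg : 0 < P0.natDegree) : IsCov (fun _ : PUnit.{u + 1} => π (AdjoinRoot.of P0) (T := T)) := by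
  intro t
  have hn : Nontrivial (O T) := by
    have h1 : Nonempty T.left := ⟨t⟩
    have h2 : Nonempty (Spec Γ(T.left, ⊤)) := ⟨T.left.isoSpec.hom t⟩
    exact PrimeSpectrum.nonempty_iff_nontrivial.1 h2
  have hff : Module.FaithfullyFlat (O T) (AdjoinRoot P0) :=
    Groth.Agent.FlatA.FiniteFreeSplit.faithfullyFlat_adjoinRoot hmon (by
      rintro rfl
      rw [natDegree_one] at hdeg
      exact lt_irrefl _ hdeg)
  have h1 : (AdjoinRoot.of P0).FaithfullyFlat := by
    rw [← AdjoinRoot.algebraMap_eq, RingHom.faithfullyFlat_algebraMap_iff]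
    exact hff
  have h2 := (flat_and_surjective_SpecMap_iff (CommRingCat.ofHom (AdjoinRoot.of P0))).2 h1
  have h3 : LocallyOfFinitePresentation (Spec.map (CommRingCat.ofHom (AdjoinRoot.of P0))) := by
    rw [LocallyOfFinitePresentation.SpecMap_iff]
    change (AdjoinRoot.of P0).FinitePresentation
    rw [← AdjoinRoot.algebraMap_eq, RingHom.finitePresentation_algebraMap]
    infer_instance
  have h4 := h2.1
  have h5 := h2.2
  refine ⟨PUnit.unit, ?_, ?_, ?_⟩
  · change Flat (Spec.map _ ≫ T.left.isoSpec.inv)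
    infer_instance
  · change LocallyOfFinitePresentation (Spec.map _ ≫ T.left.isoSpec.inv)
    infer_instance
  · have h6 : Surjective (Spec.map (CommRingCat.ofHom (AdjoinRoot.of P0)) ≫ T.left.isoSpec.inv) := inferInstance
    exact h6.surj t

theorem nontrivial_or_isEmpty {X : Scheme.{u}} (T : Over X) [IsAffine T.left] : Nontrivial (O T) ∨ IsEmpty T.left := by
  by_cases h : Nontrivial (O T)
  · exact Or.inl h
  · refine Or.inr ⟨fun t => h ?_⟩
    have h2 : Nonempty (Spec Γ(T.left, ⊤)) := ⟨T.left.isoSpec.hom t⟩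
    exact PrimeSpectrum.nonempty_iff_nontrivial.1 h2

/-- A `p`-th root exists on a covering. -/
theorem exists_root {X : Scheme.{u}} (n : ℕ) (hn : n ≠ 0) (T : Over X) [IsAffine T.left] (y : O T) :
    ∃ (T1 : Over X) (h1 : T1 ⟶ T) (x1 : O T1), x1 ^ n = ro h1 y ∧ IsCov (fun _ : PUnit.{u + 1} => h1) := by
  have h2 := AdjoinRoot.eval₂_root (Polynomial.X ^ n - Polynomial.C y : (O T)[X])
  rw [eval₂_sub, eval₂_pow, eval₂_X, eval₂_C, sub_eq_zero] at h2
  refine ⟨aff (AdjoinRoot.of (Polynomial.X ^ n - Polynomial.C y : (O T)[X])), π _, e _ (AdjoinRoot.root _), ?_, ?_⟩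
  · rw [← map_pow, h2, ro_π]
  · rcases nontrivial_or_isEmpty T with hT | hT
    · refine isCov_adjoinRoot _ (monic_X_pow_sub_C y hn) ?_
      rw [natDegree_X_pow_sub_C]
      exact Nat.pos_of_ne_zero hn
    · exact fun t => (hT.false t).elim

theorem isCov_tm {T V : Over X} {h : V ⟶ T} (hc : IsCov (fun _ : PUnit.{u + 1} => h)) :
    IsCov (fun _ : PUnit.{u + 1} => tm p h) := fun t => hc t

section Main

variable {I Q : EtFppf.AbF X} (α : Gm X ⟶ I) (β : I ⟶ Q) [Epi β] (f : Ga X ⟶ Q)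
  (hinj : ∀ (U : Over X), Function.Injective (m α U))
  (hex : ∀ (U : Over X) (e : Γs I U), m β U e = 0 → ∃ c : Γs (Gm X) U, m α U c = e)
  (hαβ : ∀ (U : Over X) (c : Γs (Gm X) U), m β U (m α U c) = 0)

include hinj hex hαβ in
theorem exists_G' (T : Over X) [IsAffine T.left] :
    ∃ G' : ∀ (W : Over X) (_ : W ⟶ T), O W → Γs I (tw p W),
      (∀ (W V : Over X) (h : W ⟶ T) (k : V ⟶ W) (x : O W), r I (tm p k) (G' W h x) = G' V (k ≫ h) (ro k x)) ∧
      (∀ (W : Over X) (h : W ⟶ T) (x y : O W), x ^ p = y ^ p → G' W h x = G' W h y) ∧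
      (∀ (W : Over X) (h : W ⟶ T) (x : O W), m β (tw p W) (G' W h x) = m f (tw p W) (gas (tf p (x ^ p)))) := by
  obtain ⟨G, hG1, hG2, hG3⟩ := exists_G p α β f hinj hex hαβ
  obtain ⟨φ, hφ, hchar⟩ := exists_char p α β f hinj hex G hG1 hG2 hG3 T
  obtain ⟨ψ, hψ⟩ : ∃ ψ : ∀ (W : Over X) (_ : W ⟶ T), O W → Γs (Gm X) (tw p W),
      ∀ (W : Over X) (h : W ⟶ T) (x : O W), gm (ψ W h x) = tf p (φ.eval₂ (ro h) x) := by
    refine ⟨fun W h x => cg p (K771.Char.ofCharAt φ hφ W h (gas x)), fun W h x => ?_⟩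
    dsimp only
    rw [gm_cg, K771.Char.gm_ofCharAt, ga_gas]
  have hψadd : ∀ (W : Over X) (h : W ⟶ T) (x y : O W), ψ W h (x + y) = ψ W h x + ψ W h y := by
    intro W h x y
    apply gm_injective
    rw [gm_add, hψ, hψ, hψ, hφ.eval₂_add, map_mul]
  have hψr : ∀ (W V : Over X) (h : W ⟶ T) (k : V ⟶ W) (x : O W), r (Gm X) (tm p k) (ψ W h x) = ψ V (k ≫ h) (ro k x) := by
    intro W V h k x
    apply gm_injective
    rw [gm_r, hψ, hψ, ro_tm, hom_eval₂]
    congr 2
  have hadd : ∀ (W : Over X) (h : W ⟶ T) (x y : O W), G W (x + y) - m α (tw p W) (ψ W h (x + y)) =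
      (G W x - m α (tw p W) (ψ W h x)) + (G W y - m α (tw p W) (ψ W h y)) := by
    intro W h x y
    rw [hG1, hψadd, map_add]
    abel
  have h0 : ∀ (W : Over X) (h : W ⟶ T) (x : O W), x ^ p = 0 → G W x - m α (tw p W) (ψ W h x) = 0 := by
    intro W h x hx
    obtain ⟨c, hc, hc'⟩ := hchar W h x hx
    have h1 : c = ψ W h x := by
      apply gm_injective
      rw [hc, hψ]
    rw [← hc', h1, sub_self]
  refine ⟨fun W h x => G W x - m α (tw p W) (ψ W h x), ?_, ?_, ?_⟩
  · intro W V h k x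
    dsimp only
    rw [map_sub, hG2, ← m_r, hψr]
  · intro W h x y hxy
    dsimp only
    have hchar := (isCharP p W).natCast_eq_zero
    have h1 : (x - y) ^ p = 0 := by
      have := (FrobSch.powHom p (O W) hchar).map_sub x y
      rw [FrobSch.powHom_apply, FrobSch.powHom_apply, FrobSch.powHom_apply, hxy, sub_self] at this
      exact this
    have h2 := hadd W h (x - y) y
    rw [h0 W h _ h1, zero_add, sub_add_cancel] at h2
    exact h2
  · intro W h x
    dsimp only
    rw [map_sub, hαβ, sub_zero, hG3]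

include hinj hex hαβ in
/-- Values of `f : G_a → Q` on Frobenius twists of affine objects lift to `I`. -/
theorem exists_lift_tw (T : Over X) [IsAffine T.left] (y : O T) :
    ∃ e : Γs I (tw p T), m β (tw p T) e = m f (tw p T) (gas (tf p y)) := by
  obtain ⟨G', hr, heq, hβ⟩ := exists_G' p α β f hinj hex hαβ T
  obtain ⟨T1, h1, x1, hx1, hc⟩ := exists_root p hp.out.ne_zero T y
  have hcov := isCov_tm p hc
  obtain ⟨v, hv⟩ := glue I hcov (fun _ => G' T1 h1 x1) (fun i j Z b c hbc => by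
    obtain ⟨Z', k, b', c', rfl, rfl, h⟩ := exists_tw p h1 h1 b c hbc
    rw [← r_r, ← r_r, hr, hr, h]
    congr 1
    apply heq
    rw [← map_pow, ← map_pow, hx1, ro_ro, ro_ro, h])
  refine ⟨v, sep Q hcov _ _ fun i => ?_⟩
  rw [← m_r, ← m_r, hv i, r_gas, ro_tm, hβ, hx1]

end Main

end K770.Frob
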