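import Mathlib.AlgebraicGeometry.AffineSpace
import Mathlib.AlgebraicGeometry.Cover.Open
import Mathlib.Algebra.MvPolynomial.Nilpotent
import Mathlib.AlgebraicGeometry.Properties

/-!
# Invertible functions on affine space over a reduced scheme
-/

set_option autoImplicit false
universe u
open CategoryTheory CategoryTheory.Limits AlgebraicGeometry

namespace K770.AffUnit

variable (n : Type u)

/-- The zero section. -/
noncomputable def zs (X : Scheme.{u}) : X ⟶ 𝔸(n; X) := AffineSpace.homOfVector (𝟙 X) 0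

@[reassoc]
theorem zs_over (X : Scheme.{u}) : zs n X ≫ (𝔸(n; X) ↘ X) = 𝟙 X := AffineSpace.homOfVector_over _ _

@[reassoc]
theorem zs_map {X Y : Scheme.{u}} (f : Y ⟶ X) : f ≫ zs n X = zs n Y ≫ AffineSpace.map n f := by
  rw [zs, zs, AffineSpace.comp_homOfVector, AffineSpace.map, AffineSpace.comp_homOfVector]
  rw [AffineSpace.homOfVector_over_assoc, Category.comp_id, Category.id_comp]
  congr 1
  funext i
  simp

theorem exists_C {R : CommRingCat.{u}} (hR : IsReduced R) (w : Γ(𝔸(n; Spec R), ⊤)) (hw : IsUnit w) :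
    ∃ r : Γ(Spec R, ⊤), (𝔸(n; Spec R) ↘ Spec R).appTop r = w := by
  let e := AffineSpace.SpecIso n R
  let w' : MvPolynomial n R := (Scheme.ΓSpecIso (CommRingCat.of (MvPolynomial n R))).hom (e.inv.appTop w)
  have hw' : IsUnit w' := (hw.map e.inv.appTop.hom).map (Scheme.ΓSpecIso (CommRingCat.of (MvPolynomial n R))).hom.hom
  obtain ⟨r, -, hr⟩ := MvPolynomial.isUnit_iff_eq_C_of_isReduced.1 hw'
  refine ⟨(Scheme.ΓSpecIso R).inv r, ?_⟩
  have h1 : e.hom ≫ Spec.map (CommRingCat.ofHom MvPolynomial.C) = (𝔸(n; Spec R) ↘ Spec R) := by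
    rw [← AffineSpace.SpecIso_inv_over, Iso.hom_inv_id_assoc]
  rw [← h1, Scheme.Hom.comp_appTop, CommRingCat.comp_apply]
  have h2 : (Spec.map (CommRingCat.ofHom (MvPolynomial.C (σ := n) (R := R)))).appTop ((Scheme.ΓSpecIso R).inv r) =
      (Scheme.ΓSpecIso (CommRingCat.of (MvPolynomial n R))).inv (MvPolynomial.C r) := by
    have := Scheme.ΓSpecIso_inv_naturality (CommRingCat.ofHom (MvPolynomial.C (σ := n) (R := R)))
    exact (ConcreteCategory.congr_hom this r).symm
  rw [h2, ← hr]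
  change e.hom.appTop ((Scheme.ΓSpecIso (CommRingCat.of (MvPolynomial n R))).inv
    ((Scheme.ΓSpecIso (CommRingCat.of (MvPolynomial n R))).hom (e.inv.appTop w))) = w
  have h3 : (Scheme.ΓSpecIso (CommRingCat.of (MvPolynomial n R))).inv
    ((Scheme.ΓSpecIso (CommRingCat.of (MvPolynomial n R))).hom (e.inv.appTop w)) = e.inv.appTop w :=
    ConcreteCategory.congr_hom (Scheme.ΓSpecIso (CommRingCat.of (MvPolynomial n R))).hom_inv_id _
  rw [h3, ← CommRingCat.comp_apply, ← Scheme.Hom.comp_appTop, e.hom_inv_id]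
  simp

theorem aff {R : CommRingCat.{u}} (hR : IsReduced R) (w : Γ(𝔸(n; Spec R), ⊤)) (hw : IsUnit w) :
    (𝔸(n; Spec R) ↘ Spec R).appTop ((zs n (Spec R)).appTop w) = w := by
  obtain ⟨r, hr⟩ := exists_C n hR w hw
  rw [← hr]
  congr 1
  rw [← CommRingCat.comp_apply, ← Scheme.Hom.comp_appTop, zs_over]
  simp

theorem main {X : Scheme.{u}} [IsReduced X] (w : Γ(𝔸(n; X), ⊤)) (hw : IsUnit w) :
    (𝔸(n; X) ↘ X).appTop ((zs n X).appTop w) = w := by
  refine Scheme.OpenCover.ext_elem _ _ (X.affineOpenCover.openCover.pullback₁ (𝔸(n; X) ↘ X)) fun i => ?_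
  have hf : IsOpenImmersion (X.affineOpenCover.f i) := X.affineOpenCover.map_prop i
  change (pullback.fst (𝔸(n; X) ↘ X) (X.affineOpenCover.f i)).app ⊤ _ =
    (pullback.fst (𝔸(n; X) ↘ X) (X.affineOpenCover.f i)).app ⊤ _
  generalize X.affineOpenCover.f i = f at hf ⊢
  have hp := AffineSpace.isPullback_map (n := n) f
  have h1 : hp.lift (pullback.fst (𝔸(n; X) ↘ X) f) (pullback.snd _ _) pullback.condition ≫ AffineSpace.map n f =
      pullback.fst (𝔸(n; X) ↘ X) f := hp.lift_fst _ _ _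
  have h2 : ∀ a b : Γ(𝔸(n; X), ⊤), (AffineSpace.map n f).appTop a = (AffineSpace.map n f).appTop b →
      (pullback.fst (𝔸(n; X) ↘ X) f).appTop a = (pullback.fst (𝔸(n; X) ↘ X) f).appTop b := by
    intro a b hab
    rw [← h1, Scheme.Hom.comp_appTop, CommRingCat.comp_apply, CommRingCat.comp_apply, hab]
  refine h2 _ _ ?_
  have hred : _root_.IsReduced (X.affineOpenCover.X i) := by
    have : AlgebraicGeometry.IsReduced (Spec (X.affineOpenCover.X i)) := isReduced_of_isOpenImmersion f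
    exact (affine_isReduced_iff _).1 this
  have h3 := aff n hred ((AffineSpace.map n f).appTop w) (hw.map (AffineSpace.map n f).appTop.hom)
  rw [← CommRingCat.comp_apply, ← Scheme.Hom.comp_appTop, AffineSpace.map_over, Scheme.Hom.comp_appTop,
    CommRingCat.comp_apply, ← CommRingCat.comp_apply (f := (zs n X).appTop), ← Scheme.Hom.comp_appTop, zs_map,
    Scheme.Hom.comp_appTop, CommRingCat.comp_apply]
  exact h3

end K770.AffUnit
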