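import Groth.Agent.GaDual.K770.Coeff

/-!
# Coefficients of `F(X, Y+Z)`, `F(X+Y, Z)`, `F(Y, Z)`, `F(X, Y)`

`coc_iff`: the additive 2-cocycle identity in terms of coefficients.
-/

set_option autoImplicit false
universe u

namespace K770.Coc3

open K770.Coeff

variable {R : Type u} [CommRing R]

/-- The exponent `(a, b, d)`. -/
noncomputable def e3 (a b d : ℕ) : Fin 3 →₀ ℕ := Finsupp.single 0 a + Finsupp.single 1 b + Finsupp.single 2 d

@[simp] theorem e3_zero (a b d : ℕ) : e3 a b d 0 = a := by simp [e3]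
@[simp] theorem e3_one (a b d : ℕ) : e3 a b d 1 = b := by simp [e3]
@[simp] theorem e3_two (a b d : ℕ) : e3 a b d 2 = d := by simp [e3]

theorem eq_e3 (e : Fin 3 →₀ ℕ) : e = e3 (e 0) (e 1) (e 2) := by
  ext i
  fin_cases i <;> simp

theorem e3_inj {i j k i' j' k' : ℕ} : e3 i j k = e3 i' j' k' ↔ i = i' ∧ j = j' ∧ k = k' := by
  constructor
  · intro h
    exact ⟨by simpa using DFunLike.congr_fun h 0, by simpa using DFunLike.congr_fun h 1,
      by simpa using DFunLike.congr_fun h 2⟩
  · rintro ⟨rfl, rfl, rfl⟩; rfl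

theorem mon3 (i j k : ℕ) : (MvPolynomial.X 0 ^ i * MvPolynomial.X 1 ^ j * MvPolynomial.X 2 ^ k :
    MvPolynomial (Fin 3) R) = MvPolynomial.monomial (e3 i j k) 1 := by
  rw [MvPolynomial.monomial_eq, Finsupp.prod_fintype _ _ (fun _ => pow_zero _), Fin.prod_univ_three]
  simp

theorem coeff3 (i j k i' j' k' : ℕ) :
    MvPolynomial.coeff (e3 i j k) (MvPolynomial.X 0 ^ i' * MvPolynomial.X 1 ^ j' * MvPolynomial.X 2 ^ k' :
      MvPolynomial (Fin 3) R) = if i = i' ∧ j = j' ∧ k = k' then 1 else 0 := by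
  rw [mon3, MvPolynomial.coeff_monomial]
  congr 1
  rw [e3_inj]
  simp only [eq_comm]

/-- Evaluation of a monomial. -/
theorem aeval_monomial2 {B : Type*} [CommRing B] [Algebra R B] (x y : B) (i j : ℕ) (c : R) :
    MvPolynomial.aeval ![x, y] (MvPolynomial.monomial (ee i j) c : MvPolynomial (Fin 2) R) = c • (x ^ i * y ^ j) := by
  rw [MvPolynomial.monomial_fin_two, map_mul, map_mul, MvPolynomial.aeval_C, map_pow, map_pow, MvPolynomial.aeval_X,
    MvPolynomial.aeval_X, ee_zero, ee_one, Algebra.smul_def, mul_assoc]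
  rfl

theorem coeff_XY (a b d i j : ℕ) : MvPolynomial.coeff (e3 a b d)
    (MvPolynomial.X 0 ^ i * (MvPolynomial.X 1 + MvPolynomial.X 2) ^ j : MvPolynomial (Fin 3) R) =
      if a = i ∧ b + d = j then ((b + d).choose b : R) else 0 := by
  rw [add_pow, Finset.mul_sum, MvPolynomial.coeff_sum]
  have h1 : ∀ m, MvPolynomial.coeff (e3 a b d) (MvPolynomial.X 0 ^ i * (MvPolynomial.X 1 ^ m *
      MvPolynomial.X 2 ^ (j - m) * (j.choose m : MvPolynomial (Fin 3) R)) : MvPolynomial (Fin 3) R) =
        if b = m then (if a = i ∧ d = j - m then (j.choose m : R) else 0) else 0 := by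
    intro m
    have h2 : (MvPolynomial.X 0 ^ i * (MvPolynomial.X 1 ^ m *
      MvPolynomial.X 2 ^ (j - m) * (j.choose m : MvPolynomial (Fin 3) R)) : MvPolynomial (Fin 3) R) =
        MvPolynomial.C (j.choose m : R) * (MvPolynomial.X 0 ^ i * MvPolynomial.X 1 ^ m *
          MvPolynomial.X 2 ^ (j - m)) := by
      rw [← MvPolynomial.C_eq_coe_nat]
      ring
    rw [h2, MvPolynomial.coeff_C_mul, coeff3]
    by_cases h3 : b = m <;> by_cases h4 : a = i <;> by_cases h5 : d = j - m <;> simp [h3, h4, h5]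
  simp only [h1, Finset.sum_ite_eq, Finset.mem_range]
  by_cases h3 : a = i
  · by_cases h4 : b + d = j
    · rw [if_pos (by omega), if_pos ⟨h3, by omega⟩, if_pos ⟨h3, h4⟩, h4]
    · rw [if_neg (c := a = i ∧ b + d = j) (fun h => h4 h.2)]
      split_ifs with h5 h6
      · omega
      · rfl
      · rfl
  · rw [if_neg (c := a = i ∧ b + d = j) (fun h => h3 h.1)]
    split_ifs with h5 h6
    · exact absurd h6.1 h3
    · rfl
    · rfl

theorem coeff_YX (a b d i j : ℕ) : MvPolynomial.coeff (e3 a b d)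
    ((MvPolynomial.X 0 + MvPolynomial.X 1) ^ i * MvPolynomial.X 2 ^ j : MvPolynomial (Fin 3) R) =
      if a + b = i ∧ d = j then ((a + b).choose a : R) else 0 := by
  rw [add_pow, Finset.sum_mul, MvPolynomial.coeff_sum]
  have h1 : ∀ m, MvPolynomial.coeff (e3 a b d) (MvPolynomial.X 0 ^ m * MvPolynomial.X 1 ^ (i - m) *
      (i.choose m : MvPolynomial (Fin 3) R) * MvPolynomial.X 2 ^ j : MvPolynomial (Fin 3) R) =
        if a = m then (if b = i - m ∧ d = j then (i.choose m : R) else 0) else 0 := by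
    intro m
    have h2 : (MvPolynomial.X 0 ^ m * MvPolynomial.X 1 ^ (i - m) *
      (i.choose m : MvPolynomial (Fin 3) R) * MvPolynomial.X 2 ^ j : MvPolynomial (Fin 3) R) =
        MvPolynomial.C (i.choose m : R) * (MvPolynomial.X 0 ^ m * MvPolynomial.X 1 ^ (i - m) *
          MvPolynomial.X 2 ^ j) := by
      rw [← MvPolynomial.C_eq_coe_nat]
      ring
    rw [h2, MvPolynomial.coeff_C_mul, coeff3]
    by_cases h3 : a = m <;> by_cases h4 : b = i - m <;> by_cases h5 : d = j <;> simp [h3, h4, h5]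
  simp only [h1, Finset.sum_ite_eq, Finset.mem_range]
  by_cases h3 : d = j
  · by_cases h4 : a + b = i
    · rw [if_pos (by omega), if_pos ⟨by omega, h3⟩, if_pos ⟨h4, h3⟩, h4]
    · rw [if_neg (c := a + b = i ∧ d = j) (fun h => h4 h.1)]
      split_ifs with h5 h6
      · omega
      · rfl
      · rfl
  · rw [if_neg (c := a + b = i ∧ d = j) (fun h => h3 h.2)]
    split_ifs with h5 h6
    · exact absurd h6.2 h3
    · rfl
    · rfl

/-- Linear functionals on polynomials in two variables are determined by the monomials. -/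
theorem ext2 {B : Type*} [AddCommGroup B] [Module R B] {φ ψ : MvPolynomial (Fin 2) R →ₗ[R] B}
    (h : ∀ i j, φ (MvPolynomial.monomial (ee i j) 1) = ψ (MvPolynomial.monomial (ee i j) 1)) (F : MvPolynomial (Fin 2) R) :
    φ F = ψ F := by
  suffices h' : φ = ψ by rw [h']
  apply MvPolynomial.linearMap_ext
  intro e
  apply LinearMap.ext_ring
  rw [eq_ee e]
  exact h _ _

theorem coeff_aeval_gen (m : Fin 3 →₀ ℕ) (x y : MvPolynomial (Fin 3) R) (e : Fin 2 →₀ ℕ) (c : R)
    (h : ∀ i j, MvPolynomial.coeff m (x ^ i * y ^ j) = if ee i j = e then c else 0) (F : MvPolynomial (Fin 2) R) :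
    MvPolynomial.coeff m (MvPolynomial.aeval ![x, y] F) = c * MvPolynomial.coeff e F := by
  have key := ext2 (φ := (MvPolynomial.lcoeff R m).comp (MvPolynomial.aeval ![x, y]).toLinearMap)
    (ψ := c • MvPolynomial.lcoeff R e) (by
      intro i j
      simp only [LinearMap.comp_apply, AlgHom.toLinearMap_apply, LinearMap.smul_apply, MvPolynomial.lcoeff_apply]
      rw [aeval_monomial2, one_smul, h, MvPolynomial.coeff_monomial]
      split_ifs <;> simp) F
  simpa using key

theorem coeff_1 (F : MvPolynomial (Fin 2) R) (a b d : ℕ) :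
    MvPolynomial.coeff (e3 a b d) (MvPolynomial.aeval
      ![(MvPolynomial.X 0 : MvPolynomial (Fin 3) R), MvPolynomial.X 1 + MvPolynomial.X 2] F) =
      ((b + d).choose b : R) * MvPolynomial.coeff (ee a (b + d)) F := by
  apply coeff_aeval_gen
  intro i j
  rw [coeff_XY]
  congr 1
  rw [ee_inj]
  simp only [eq_comm]

theorem coeff_3 (F : MvPolynomial (Fin 2) R) (a b d : ℕ) :
    MvPolynomial.coeff (e3 a b d) (MvPolynomial.aeval
      ![(MvPolynomial.X 0 + MvPolynomial.X 1 : MvPolynomial (Fin 3) R), MvPolynomial.X 2] F) =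
      ((a + b).choose a : R) * MvPolynomial.coeff (ee (a + b) d) F := by
  apply coeff_aeval_gen
  intro i j
  rw [coeff_YX]
  congr 1
  rw [ee_inj]
  simp only [eq_comm]

theorem coeff_2 (F : MvPolynomial (Fin 2) R) (a b d : ℕ) :
    MvPolynomial.coeff (e3 a b d) (MvPolynomial.aeval
      ![(MvPolynomial.X 1 : MvPolynomial (Fin 3) R), MvPolynomial.X 2] F) =
      if a = 0 then MvPolynomial.coeff (ee b d) F else 0 := by
  have h := coeff_aeval_gen (R := R) (e3 a b d) (MvPolynomial.X 1) (MvPolynomial.X 2) (ee b d)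
    (if a = 0 then 1 else 0) (by
      intro i j
      have h1 := coeff3 (R := R) a b d 0 i j
      rw [pow_zero, one_mul] at h1
      rw [h1]
      simp only [ee_inj]
      by_cases h2 : a = 0 <;> by_cases h3 : b = i <;> by_cases h4 : d = j <;> simp [h2, h3, h4, eq_comm]) F
  rw [h]
  split_ifs <;> simp

theorem coeff_4 (F : MvPolynomial (Fin 2) R) (a b d : ℕ) :
    MvPolynomial.coeff (e3 a b d) (MvPolynomial.aeval
      ![(MvPolynomial.X 0 : MvPolynomial (Fin 3) R), MvPolynomial.X 1] F) =
      if d = 0 then MvPolynomial.coeff (ee a b) F else 0 := by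
  have h := coeff_aeval_gen (R := R) (e3 a b d) (MvPolynomial.X 0) (MvPolynomial.X 1) (ee a b)
    (if d = 0 then 1 else 0) (by
      intro i j
      have h1 := coeff3 (R := R) a b d i j 0
      rw [pow_zero, mul_one] at h1
      rw [h1]
      simp only [ee_inj]
      by_cases h2 : d = 0 <;> by_cases h3 : a = i <;> by_cases h4 : b = j <;> simp [h2, h3, h4, eq_comm]) F
  rw [h]
  split_ifs <;> simp

/-- The 2-cocycle identity in terms of the coefficients `c i j`. -/
theorem coc_iff (F : MvPolynomial (Fin 2) R) :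
    MvPolynomial.aeval ![MvPolynomial.X 0, MvPolynomial.X 1 + MvPolynomial.X 2] F
          + MvPolynomial.aeval ![MvPolynomial.X 1, MvPolynomial.X 2] F
          - MvPolynomial.aeval ![MvPolynomial.X 0 + MvPolynomial.X 1, MvPolynomial.X 2] F
          - MvPolynomial.aeval ![MvPolynomial.X 0, MvPolynomial.X 1] F = (0 : MvPolynomial (Fin 3) R) ↔
      ∀ a b d : ℕ, ((b + d).choose b : R) * MvPolynomial.coeff (ee a (b + d)) F +
        (if a = 0 then MvPolynomial.coeff (ee b d) F else 0) -
        ((a + b).choose a : R) * MvPolynomial.coeff (ee (a + b) d) F -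
        (if d = 0 then MvPolynomial.coeff (ee a b) F else 0) = 0 := by
  constructor
  · intro h a b d
    have := congrArg (MvPolynomial.coeff (e3 a b d)) h
    rw [MvPolynomial.coeff_sub, MvPolynomial.coeff_sub, MvPolynomial.coeff_add, coeff_1, coeff_2, coeff_3,
      coeff_4, MvPolynomial.coeff_zero] at this
    exact this
  · intro h
    ext e
    rw [eq_e3 e, MvPolynomial.coeff_sub, MvPolynomial.coeff_sub, MvPolynomial.coeff_add, coeff_1, coeff_2, coeff_3,
      coeff_4, MvPolynomial.coeff_zero]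
    exact h _ _ _

theorem coeff_swap (F : MvPolynomial (Fin 2) R) (i j : ℕ) :
    MvPolynomial.coeff (ee i j) (MvPolynomial.aeval
      ![(MvPolynomial.X 1 : MvPolynomial (Fin 2) R), MvPolynomial.X 0] F) = MvPolynomial.coeff (ee j i) F := by
  have key := ext2 (φ := (MvPolynomial.lcoeff R (ee i j)).comp
      (MvPolynomial.aeval ![(MvPolynomial.X 1 : MvPolynomial (Fin 2) R), MvPolynomial.X 0]).toLinearMap)
    (ψ := MvPolynomial.lcoeff R (ee j i)) (by
      intro k l
      simp only [LinearMap.comp_apply, AlgHom.toLinearMap_apply, MvPolynomial.lcoeff_apply]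
      rw [aeval_monomial2, one_smul, mul_comm, coeff_X_pow_mul, MvPolynomial.coeff_monomial]
      simp only [ee_inj]
      by_cases h1 : i = l <;> by_cases h2 : j = k <;> simp [h1, h2, eq_comm]) F
  simpa using key

theorem symm_iff (F : MvPolynomial (Fin 2) R) :
    MvPolynomial.aeval ![(MvPolynomial.X 1 : MvPolynomial (Fin 2) R), MvPolynomial.X 0] F = F ↔
      ∀ i j, MvPolynomial.coeff (ee i j) F = MvPolynomial.coeff (ee j i) F := by
  constructor
  · intro h i j
    rw [← coeff_swap, h]
  · intro h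
    ext e
    rw [eq_ee e, coeff_swap, h]

end K770.Coc3
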