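import Groth.Agent.GaDual.K770.Comb
import Groth.Agent.GaDual.K770.Coc3

/-!
# Symmetric additive 2-cocycles of the additive group in characteristic `p`

* `S p R` = `Σ_{0<j<p} (binom(p,j)/p) X^j Y^(p-j)`.
* `exists_form`: a symmetric 2-cocycle `F` is `G(X+Y) - G(X) - G(Y) + Σ r_i S(X^(p^i), Y^(p^i))`, where the
  coefficients of `G` and the `r_i` lie in every ideal containing the coefficients of `F`.
* `symm_form`, `coc_form`: such expressions are symmetric 2-cocycles.
-/

set_option autoImplicit false
universe u

namespace K770.Cocycle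

open K770.Coeff K770.Char K770.Comb K770.Coc3

/-- `((X+Y)^p - X^p - Y^p) / p`. -/
noncomputable def S (p : ℕ) (R : Type u) [CommRing R] : MvPolynomial (Fin 2) R :=
  ∑ j ∈ Finset.Ioo 0 p, MvPolynomial.C ((p.choose j / p : ℕ) : R) *
                    MvPolynomial.X 0 ^ j * MvPolynomial.X 1 ^ (p - j)

variable {p : ℕ} [hp : Fact p.Prime] {R : Type u} [CommRing R]

omit hp in
/-- The coefficients of `S(X^q, Y^q)`. -/
theorem coeff_S_pow (k i j : ℕ) (hpk : 0 < p ^ k) : MvPolynomial.coeff (ee i j)
    (MvPolynomial.aeval ![(MvPolynomial.X 0 : MvPolynomial (Fin 2) R) ^ p ^ k, MvPolynomial.X 1 ^ p ^ k] (S p R)) =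
      if i + j = p * p ^ k ∧ 0 < i ∧ 0 < j then (h p k i : R) else 0 := by
  rw [S, map_sum, MvPolynomial.coeff_sum]
  have h1 : ∀ l, MvPolynomial.coeff (ee i j) (MvPolynomial.aeval
      ![(MvPolynomial.X 0 : MvPolynomial (Fin 2) R) ^ p ^ k, MvPolynomial.X 1 ^ p ^ k]
      (MvPolynomial.C ((p.choose l / p : ℕ) : R) * MvPolynomial.X 0 ^ l * MvPolynomial.X 1 ^ (p - l))) =
        if i = l * p ^ k ∧ j = (p - l) * p ^ k then ((p.choose l / p : ℕ) : R) else 0 := by
    intro l
    have h2 : MvPolynomial.aeval
      ![(MvPolynomial.X 0 : MvPolynomial (Fin 2) R) ^ p ^ k, MvPolynomial.X 1 ^ p ^ k]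
      (MvPolynomial.C ((p.choose l / p : ℕ) : R) * MvPolynomial.X 0 ^ l * MvPolynomial.X 1 ^ (p - l)) =
        MvPolynomial.C ((p.choose l / p : ℕ) : R) *
          (MvPolynomial.X 0 ^ (l * p ^ k) * MvPolynomial.X 1 ^ ((p - l) * p ^ k)) := by
      rw [map_mul, map_mul, MvPolynomial.aeval_C, map_pow, map_pow, MvPolynomial.aeval_X, MvPolynomial.aeval_X,
        MvPolynomial.algebraMap_eq, mul_assoc, mul_comm l, mul_comm (p - l), pow_mul, pow_mul]
      rfl
    rw [h2, MvPolynomial.coeff_C_mul, coeff_X_pow_mul]
    split_ifs <;> simp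
  simp only [h1]
  split_ifs with h2
  · obtain ⟨h3, h4, h5⟩ := h2
    by_cases h6 : p ^ k ∣ i
    · obtain ⟨i', rfl⟩ := exists_eq_mul_left_of_dvd h6
      have h7 : i' < p := by
        apply Nat.lt_of_mul_lt_mul_right (a := p ^ k)
        omega
      have h8 : 0 < i' := Nat.pos_of_mul_pos_right h4
      rw [Finset.sum_eq_single i']
      · have h9 : j = (p - i') * p ^ k := by
          rw [Nat.sub_mul]
          omega
        rw [h_mul p k i' hpk, if_pos ⟨rfl, h9⟩]
      · intro l _ hl
        rw [if_neg]
        rintro ⟨h9, -⟩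
        exact hl (Nat.eq_of_mul_eq_mul_right hpk h9).symm
      · intro h9
        exfalso
        apply h9
        rw [Finset.mem_Ioo]
        exact ⟨h8, h7⟩
    · rw [Finset.sum_eq_zero]
      · rw [h, if_neg h6, Nat.cast_zero]
      · intro l _
        rw [if_neg]
        rintro ⟨h9, -⟩
        exact h6 (Dvd.intro_left l h9.symm)
  · rw [Finset.sum_eq_zero]
    intro l hl
    rw [Finset.mem_Ioo] at hl
    rw [if_neg]
    rintro ⟨h9, h10⟩
    apply h2
    refine ⟨?_, ?_, ?_⟩
    · rw [h9, h10, ← add_mul]
      congr 1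
      omega
    · rw [h9]
      exact Nat.mul_pos hl.1 hpk
    · rw [h10]
      exact Nat.mul_pos (by omega) hpk

omit hp in
theorem coeff_S (i j : ℕ) : MvPolynomial.coeff (ee i j) (S p R) =
      if i + j = p ∧ 0 < i ∧ 0 < j then (h p 0 i : R) else 0 := by
  have h1 := coeff_S_pow (p := p) (R := R) 0 i j (by simp)
  rw [pow_zero, pow_one, pow_one, mul_one] at h1
  rw [← h1]
  congr 1
  have h2 : (![(MvPolynomial.X 0 : MvPolynomial (Fin 2) R), MvPolynomial.X 1] : Fin 2 → MvPolynomial (Fin 2) R) =
      MvPolynomial.X := by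
    ext l : 1
    fin_cases l <;> rfl
  rw [h2, MvPolynomial.aeval_X_left]
  rfl

variable [CharP R p]

/-- Existence of the normal form. -/
theorem exists_form (F : MvPolynomial (Fin 2) R)
    (hs : MvPolynomial.aeval ![(MvPolynomial.X 1 : MvPolynomial (Fin 2) R), MvPolynomial.X 0] F = F)
    (hc : MvPolynomial.aeval ![MvPolynomial.X 0, MvPolynomial.X 1 + MvPolynomial.X 2] F
          + MvPolynomial.aeval ![MvPolynomial.X 1, MvPolynomial.X 2] F
          - MvPolynomial.aeval ![MvPolynomial.X 0 + MvPolynomial.X 1, MvPolynomial.X 2] F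
          - MvPolynomial.aeval ![MvPolynomial.X 0, MvPolynomial.X 1] F = (0 : MvPolynomial (Fin 3) R)) :
    ∃ (G : Polynomial R) (N : ℕ) (r : ℕ → R),
        F = Polynomial.aeval (MvPolynomial.X 0 + MvPolynomial.X 1 : MvPolynomial (Fin 2) R) G
              - Polynomial.aeval (MvPolynomial.X 0 : MvPolynomial (Fin 2) R) G
              - Polynomial.aeval (MvPolynomial.X 1 : MvPolynomial (Fin 2) R) G
            + ∑ i ∈ Finset.range N, MvPolynomial.C (r i) *
                MvPolynomial.aeval ![(MvPolynomial.X 0 : MvPolynomial (Fin 2) R) ^ p ^ i, MvPolynomial.X 1 ^ p ^ i]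
                  (S p R) ∧
        ∀ J : Ideal R, (∀ e, MvPolynomial.coeff e F ∈ J) → (∀ n, G.coeff n ∈ J) ∧ ∀ i, r i ∈ J := by
  rw [symm_iff] at hs
  rw [coc_iff] at hc
  set c : ℕ → ℕ → R := fun i j => MvPolynomial.coeff (ee i j) F with hcdef
  have h0c : ∀ n, 0 < n → c 0 n = 0 := by
    intro n hn
    have h1 := hc 0 0 n
    rw [if_pos rfl, if_neg (by omega), zero_add, zero_add, Nat.choose_zero_right] at h1
    simpa using h1
  have hc0 : ∀ n, 0 < n → c n 0 = 0 := fun n hn => (hs n 0).trans (h0c n hn)
  have hrel : ∀ n, Rel n (fun e => c e (n - e)) := by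
    intro n
    constructor
    · intro a e h1 h2 h3
      have h4 := hc a (e - a) (n - e)
      rw [if_neg (by omega), if_neg (by omega), add_zero, sub_zero, sub_eq_zero] at h4
      have e1 : e - a + (n - e) = n - a := by omega
      have e2 : a + (e - a) = e := by omega
      rw [e1, e2] at h4
      exact h4
    · intro e h1 h2
      have e3 : n - (n - e) = e := by omega
      rw [e3]
      exact hs _ _
  let D := F.totalDegree
  have hD : ∀ i j, D < i + j → c i j = 0 := by
    intro i j hij
    apply MvPolynomial.coeff_eq_zero_of_totalDegree_lt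
    refine lt_of_lt_of_le hij ?_
    rw [Finset.sum_subset (Finset.subset_univ _) (fun x _ hx => Finsupp.notMem_support_iff.1 hx), Fin.sum_univ_two]
    simp
  let r : ℕ → R := fun k => c (p ^ k) (p * p ^ k - p ^ k)
  let s : ℕ → ℕ → ℕ → R := fun k i j => if i + j = p * p ^ k ∧ 0 < i ∧ 0 < j then (h p k i : R) else 0
  have hg : ∀ n, ∃ g : R, (∀ J : Ideal R, (∀ e, MvPolynomial.coeff e F ∈ J) → g ∈ J) ∧ (D < n → g = 0) ∧
      ∀ i j, i + j = n → c i j = (n.choose i : R) * g - (if j = 0 then g else 0) - (if i = 0 then g else 0) +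
        ∑ k ∈ Finset.range (D + 1), r k * s k i j := by
    intro n
    by_cases hn0 : n = 0
    · subst hn0
      refine ⟨- c 0 0, fun J hJ => J.neg_mem (hJ _), fun h => absurd h (by omega), ?_⟩
      intro i j hij
      obtain ⟨rfl, rfl⟩ : i = 0 ∧ j = 0 := by omega
      have h1 : ∀ k, s k 0 0 = 0 := fun k => if_neg (by omega)
      simp [h1]
    by_cases hn1 : n = 1
    · subst hn1
      refine ⟨0, fun J _ => J.zero_mem, fun _ => rfl, ?_⟩
      intro i j hij
      have h1 : ∀ k, s k i j = 0 := fun k => if_neg (by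
        rintro ⟨h2, h3, h4⟩
        omega)
      have h2 : c i j = 0 := by
        rcases Nat.eq_zero_or_pos i with h3 | h3
        · rw [h3]
          exact h0c _ (by omega)
        · have : j = 0 := by omega
          rw [this]
          exact hc0 _ h3
      simp [h1, h2]
    by_cases hnp : ∃ k, n = p * p ^ k
    · obtain ⟨k, hk⟩ := hnp
      refine ⟨0, fun J _ => J.zero_mem, fun _ => rfl, ?_⟩
      intro i j hij
      have hsum : ∑ l ∈ Finset.range (D + 1), r l * s l i j = if k < D + 1 then r k * s k i j else 0 := by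
        have h1 : ∀ l, r l * s l i j = if k = l then r k * s k i j else 0 := by
          intro l
          split_ifs with h2
          · rw [h2]
          · have h3 : s l i j = 0 := if_neg (by
              rintro ⟨h4, -, -⟩
              rw [hij, hk, ← pow_succ', ← pow_succ'] at h4
              have := Nat.pow_right_injective hp.out.two_le h4
              omega)
            rw [h3, mul_zero]
        rw [Finset.sum_congr rfl (fun l _ => h1 l), Finset.sum_ite_eq]
        simp only [Finset.mem_range]
      rw [hsum]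
      have h1 : c i j = r k * s k i j := by
        rcases Nat.eq_zero_or_pos i with h3 | h3
        · have h4 : s k i j = 0 := if_neg (by omega)
          rw [h4, mul_zero, h3]
          exact h0c _ (by omega)
        rcases Nat.eq_zero_or_pos j with h3' | h3'
        · have h4 : s k i j = 0 := if_neg (by omega)
          rw [h4, mul_zero, h3']
          exact hc0 _ (by omega)
        have h4 : s k i j = (h p k i : R) := if_pos ⟨by omega, h3, h3'⟩
        have h5 := (hrel n).eq_h hk (e := i) h3 (by omega)
        have h6 : n - i = j := by omega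
        rw [h6, hk] at h5
        rw [h4, h5, mul_comm]
      rw [mul_zero, ite_self, ite_self, sub_zero, sub_zero, zero_add]
      by_cases h2 : k < D + 1
      · rw [if_pos h2, ← h1]
      · rw [if_neg h2]
        have h3 : c i j = 0 := by
          apply hD
          have : k < p ^ k := Nat.lt_pow_self hp.out.one_lt
          have h4 : p ^ k ≤ p * p ^ k := Nat.le_mul_of_pos_left _ hp.out.pos
          omega
        exact h3
    · obtain ⟨k, m, hm, hkm⟩ := Nat.exists_eq_pow_mul_and_not_dvd (n := n) hn0 p hp.out.ne_one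
      rw [mul_comm] at hkm
      have hm1 : 1 < m := by
        rcases Nat.lt_trichotomy m 1 with h1 | h1 | h1
        · rw [Nat.lt_one_iff] at h1
          rw [h1, zero_mul] at hkm
          exact absurd hkm hn0
        · exfalso
          rw [h1, one_mul] at hkm
          rcases k with _ | k
          · exact hn1 (by simpa using hkm)
          · exact hnp ⟨k, by rw [hkm, pow_succ']⟩
        · exact h1
      refine ⟨Ring.inverse (m : R) * c (p ^ k) (n - p ^ k), fun J hJ => J.mul_mem_left _ (hJ _), ?_, ?_⟩
      · intro h1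
        have h2 : p ^ k ≤ n := by
          rw [hkm]
          exact Nat.le_mul_of_pos_left _ (by omega)
        rw [hD _ _ (by omega), mul_zero]
      · intro i j hij
        have h1 : ∀ l, s l i j = 0 := fun l => if_neg (by
          rintro ⟨h2, -, -⟩
          exact hnp ⟨l, by omega⟩)
        have h2 : ∑ l ∈ Finset.range (D + 1), r l * s l i j = 0 := by simp [h1]
        rw [h2, add_zero]
        rcases Nat.eq_zero_or_pos i with h3 | h3
        · have h4 : j ≠ 0 := by omega
          rw [h3, h0c _ (by omega), if_neg h4, if_pos rfl]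
          simp
        rcases Nat.eq_zero_or_pos j with h3' | h3'
        · have h4 : i ≠ 0 := by omega
          have h5 : i = n := by omega
          rw [h3', hc0 _ (by omega), if_neg h4, if_pos rfl, h5]
          simp
        · rw [if_neg (by omega), if_neg (by omega), sub_zero, sub_zero]
          have h5 := (hrel n).eq_binom hkm hm1 hm (e := i) h3 (by omega)
          have h6 : n - i = j := by omega
          rw [h6] at h5
          exact h5
  choose g hgJ hgD hgc using hg
  refine ⟨∑ n ∈ Finset.range (D + 1), Polynomial.monomial n (g n), D + 1, r, ?_, ?_⟩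
  · have hG : ∀ n, (∑ n ∈ Finset.range (D + 1), Polynomial.monomial n (g n)).coeff n = g n := by
      intro n
      rw [Polynomial.finsetSum_coeff]
      simp only [Polynomial.coeff_monomial, Finset.sum_ite_eq', Finset.mem_range]
      split_ifs with h1
      · rfl
      · exact (hgD n (by omega)).symm
    ext e
    rw [eq_ee e]
    generalize e 0 = i
    generalize e 1 = j
    rw [MvPolynomial.coeff_add, MvPolynomial.coeff_sub, MvPolynomial.coeff_sub, coeff_aeval_add, coeff_aeval_X,
      coeff_aeval_Y, MvPolynomial.coeff_sum]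
    have h1 : ∀ k, MvPolynomial.coeff (ee i j) (MvPolynomial.C (r k) *
                MvPolynomial.aeval ![(MvPolynomial.X 0 : MvPolynomial (Fin 2) R) ^ p ^ k, MvPolynomial.X 1 ^ p ^ k]
                  (S p R)) = r k * s k i j := by
      intro k
      rw [MvPolynomial.coeff_C_mul, coeff_S_pow k i j (pow_pos hp.out.pos k)]
    simp only [h1, hG]
    have h2 := hgc (i + j) i j rfl
    change c i j = _
    rw [h2]
    congr 1
    congr 1
    · congr 1
      by_cases h3 : j = 0
      · rw [if_pos h3, if_pos h3, h3, add_zero]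
      · rw [if_neg h3, if_neg h3]
    · by_cases h3 : i = 0
      · rw [if_pos h3, if_pos h3, h3, zero_add]
      · rw [if_neg h3, if_neg h3]
  · intro J hJ
    refine ⟨fun n => ?_, fun i => hJ _⟩
    rw [Polynomial.finsetSum_coeff]
    refine Ideal.sum_mem _ fun k _ => ?_
    rw [Polynomial.coeff_monomial]
    split_ifs
    · exact hgJ _ J hJ
    · exact J.zero_mem

omit hp in
theorem h_zero (e : ℕ) : h p 0 e = p.choose e / p := by
  have := h_mul p 0 e (by simp)
  rwa [pow_zero, mul_one] at this

omit [CharP R p] in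
theorem symm_S : MvPolynomial.aeval ![(MvPolynomial.X 1 : MvPolynomial (Fin 2) R), MvPolynomial.X 0] (S p R) =
    S p R := by
  rw [symm_iff]
  intro i j
  rw [coeff_S, coeff_S]
  by_cases h1 : i + j = p ∧ 0 < i ∧ 0 < j
  · rw [if_pos h1, if_pos ⟨by omega, h1.2.2, h1.2.1⟩, h_zero, h_zero, ← h1.1, Nat.choose_symm_add]
  · rw [if_neg h1, if_neg (by omega)]

theorem coc_S : MvPolynomial.aeval ![MvPolynomial.X 0, MvPolynomial.X 1 + MvPolynomial.X 2] (S p R)
          + MvPolynomial.aeval ![MvPolynomial.X 1, MvPolynomial.X 2] (S p R)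
          - MvPolynomial.aeval ![MvPolynomial.X 0 + MvPolynomial.X 1, MvPolynomial.X 2] (S p R)
          - MvPolynomial.aeval ![MvPolynomial.X 0, MvPolynomial.X 1] (S p R) = (0 : MvPolynomial (Fin 3) R) := by
  rw [coc_iff]
  intro a b d
  rw [coeff_S, coeff_S, coeff_S, coeff_S]
  have hrel := rel_h (p := p) R 0
  rw [pow_zero, mul_one] at hrel
  rcases Nat.eq_zero_or_pos a with ha | ha
  · subst ha
    rw [if_neg (c := 0 + (b + d) = p ∧ 0 < 0 ∧ 0 < b + d) (by omega), if_pos rfl, zero_add]
    rcases Nat.eq_zero_or_pos d with hd | hd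
    · subst hd
      simp
    · rw [if_neg (c := d = 0) (by omega)]
      simp
  · rw [if_neg (c := a = 0) (by omega)]
    rcases Nat.eq_zero_or_pos d with hd | hd
    · subst hd
      rw [if_pos rfl, if_neg (c := a + b + 0 = p ∧ 0 < a + b ∧ 0 < 0) (by omega)]
      simp
    · rw [if_neg (c := d = 0) (by omega), add_zero, sub_zero]
      by_cases h1 : a + b + d = p
      · rw [if_pos ⟨by omega, by omega, by omega⟩, if_pos ⟨by omega, by omega, by omega⟩]
        have h2 := hrel.rel a (a + b) ha (by omega) (by omega)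
        have e1 : p - a = b + d := by omega
        have e2 : a + b - a = b := by omega
        rw [e1, e2] at h2
        rw [h2, sub_self]
      · rw [if_neg (by omega), if_neg (by omega)]
        simp

omit hp [CharP R p] in
theorem map_aeval2 {A B : Type*} [CommRing A] [Algebra R A] [CommRing B] [Algebra R B] (φ : A →ₐ[R] B) (f g : A)
    (P : MvPolynomial (Fin 2) R) : φ (MvPolynomial.aeval ![f, g] P) = MvPolynomial.aeval ![φ f, φ g] P := by
  rw [← AlgHom.comp_apply, MvPolynomial.comp_aeval]
  congr 2
  funext l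
  fin_cases l <;> rfl

omit [CharP R p] in
/-- `S` evaluated in an algebra is symmetric. -/
theorem eval_symm {B : Type*} [CommRing B] [Algebra R B] (x y : B) :
    MvPolynomial.aeval ![y, x] (S p R) = MvPolynomial.aeval ![x, y] (S p R) := by
  have h1 := congrArg (MvPolynomial.aeval ![x, y]) (symm_S (p := p) (R := R))
  rw [map_aeval2] at h1
  rw [← h1]
  simp

theorem eval_coc {B : Type*} [CommRing B] [Algebra R B] (x y z : B) :
    MvPolynomial.aeval ![x, y + z] (S p R) + MvPolynomial.aeval ![y, z] (S p R)
      - MvPolynomial.aeval ![x + y, z] (S p R) - MvPolynomial.aeval ![x, y] (S p R) = 0 := by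
  have h1 := congrArg (MvPolynomial.aeval ![x, y, z]) (coc_S (p := p) (R := R))
  rw [map_sub, map_sub, map_add, map_zero, map_aeval2, map_aeval2, map_aeval2, map_aeval2] at h1
  rw [← h1]
  simp

end K770.Cocycle
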