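import Mathlib.Algebra.MvPolynomial.Coeff
import Mathlib.Algebra.MvPolynomial.CommRing
import Mathlib.RingTheory.PowerSeries.Substitution
import Mathlib.RingTheory.PowerSeries.Trunc
import Mathlib.Data.Nat.Choose.Lucas

/-!
# Coefficients of `f(X+Y)` and `f(X) f(Y)`

* `coeff_aeval_add`: the coefficient of `X^i Y^j` in `f(X+Y)` is `binom(i+j, i) c_{i+j}`.
* `coeff_aeval_mul`: the coefficient of `X^i Y^j` in `f(X) f(Y)` is `c_i c_j`.
* `poly_iff`, `ps_iff`: `f(X+Y) = f(X) f(Y)` iff `binom(i+j, i) c_{i+j} = c_i c_j` for all `i, j`.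
* `lucas_pow`: `binom(q P + r, q' P + r') = binom(q, q') binom(r, r')` mod `p` for `P = p ^ n`.
-/

set_option autoImplicit false
universe u

namespace K770.Coeff

/-- The exponent `(i, j)`. -/
noncomputable def ee (i j : ℕ) : Fin 2 →₀ ℕ := Finsupp.single 0 i + Finsupp.single 1 j

@[simp] theorem ee_zero (i j : ℕ) : ee i j 0 = i := by simp [ee]
@[simp] theorem ee_one (i j : ℕ) : ee i j 1 = j := by simp [ee]

theorem eq_ee (e : Fin 2 →₀ ℕ) : e = ee (e 0) (e 1) := by
  ext i
  fin_cases i <;> simp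

theorem ee_inj {i j i' j' : ℕ} : ee i j = ee i' j' ↔ i = i' ∧ j = j' := by
  constructor
  · intro h
    exact ⟨by simpa using DFunLike.congr_fun h 0, by simpa using DFunLike.congr_fun h 1⟩
  · rintro ⟨rfl, rfl⟩; rfl

section Poly

variable {A : Type u} [CommRing A]

theorem coeff_add_pow' (i j d : ℕ) :
    MvPolynomial.coeff (ee i j) ((MvPolynomial.X 0 + MvPolynomial.X 1 : MvPolynomial (Fin 2) A) ^ d) =
      if i + j = d then ((i + j).choose i : A) else 0 := by
  rw [MvPolynomial.coeff_add_pow]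
  simp only [ee_zero, ee_one, Finset.mem_antidiagonal]
  split_ifs with h
  · rw [h]
  · exact Nat.cast_zero

theorem coeff_X_pow_mul (i j d d' : ℕ) :
    MvPolynomial.coeff (ee i j) (MvPolynomial.X 0 ^ d * MvPolynomial.X 1 ^ d' : MvPolynomial (Fin 2) A) =
      if i = d ∧ j = d' then 1 else 0 := by
  have : (MvPolynomial.X 0 ^ d * MvPolynomial.X 1 ^ d' : MvPolynomial (Fin 2) A) =
      MvPolynomial.monomial (ee d d') 1 := by
    rw [MvPolynomial.monomial_fin_two]
    simp
  rw [this, MvPolynomial.coeff_monomial]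
  congr 1
  rw [ee_inj]
  simp only [eq_comm]

theorem coeff_aeval_add (f : Polynomial A) (i j : ℕ) :
    MvPolynomial.coeff (ee i j)
      (Polynomial.aeval (MvPolynomial.X 0 + MvPolynomial.X 1 : MvPolynomial (Fin 2) A) f) =
      ((i + j).choose i : A) * f.coeff (i + j) := by
  rw [Polynomial.aeval_eq_sum_range, MvPolynomial.coeff_sum]
  simp only [MvPolynomial.coeff_smul, coeff_add_pow', smul_eq_mul, mul_ite, mul_zero]
  rw [Finset.sum_ite_eq]
  split_ifs with h
  · ring
  · rw [Finset.mem_range, not_lt] at h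
    rw [Polynomial.coeff_eq_zero_of_natDegree_lt (by omega), mul_zero]

theorem coeff_aeval_X (f : Polynomial A) (i j : ℕ) :
    MvPolynomial.coeff (ee i j)
      (Polynomial.aeval (MvPolynomial.X 0 : MvPolynomial (Fin 2) A) f) = if j = 0 then f.coeff i else 0 := by
  rw [Polynomial.aeval_eq_sum_range, MvPolynomial.coeff_sum]
  have : ∀ k, MvPolynomial.coeff (ee i j) (f.coeff k • (MvPolynomial.X 0 : MvPolynomial (Fin 2) A) ^ k) =
      if i = k then (if j = 0 then f.coeff k else 0) else 0 := by
    intro k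
    have h := coeff_X_pow_mul (A := A) i j k 0
    rw [pow_zero, mul_one] at h
    rw [MvPolynomial.coeff_smul, h, smul_eq_mul]
    by_cases h1 : i = k <;> by_cases h2 : j = 0 <;> simp [h1, h2]
  simp only [this]
  rw [Finset.sum_ite_eq]
  split_ifs with h h'
  · rfl
  · rfl
  · rw [Finset.mem_range, not_lt] at h
    rw [Polynomial.coeff_eq_zero_of_natDegree_lt (by omega)]
  · rfl

theorem coeff_aeval_Y (f : Polynomial A) (i j : ℕ) :
    MvPolynomial.coeff (ee i j)
      (Polynomial.aeval (MvPolynomial.X 1 : MvPolynomial (Fin 2) A) f) = if i = 0 then f.coeff j else 0 := by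
  rw [Polynomial.aeval_eq_sum_range, MvPolynomial.coeff_sum]
  have : ∀ k, MvPolynomial.coeff (ee i j) (f.coeff k • (MvPolynomial.X 1 : MvPolynomial (Fin 2) A) ^ k) =
      if j = k then (if i = 0 then f.coeff k else 0) else 0 := by
    intro k
    have h := coeff_X_pow_mul (A := A) i j 0 k
    rw [pow_zero, one_mul] at h
    rw [MvPolynomial.coeff_smul, h, smul_eq_mul]
    by_cases h1 : j = k <;> by_cases h2 : i = 0 <;> simp [h1, h2]
  simp only [this]
  rw [Finset.sum_ite_eq]
  split_ifs with h h'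
  · rfl
  · rfl
  · rw [Finset.mem_range, not_lt] at h
    rw [Polynomial.coeff_eq_zero_of_natDegree_lt (by omega)]
  · rfl

theorem coeff_aeval_mul (f g : Polynomial A) (i j : ℕ) :
    MvPolynomial.coeff (ee i j)
      (Polynomial.aeval (MvPolynomial.X 0 : MvPolynomial (Fin 2) A) f *
        Polynomial.aeval (MvPolynomial.X 1 : MvPolynomial (Fin 2) A) g) = f.coeff i * g.coeff j := by
  rw [Polynomial.aeval_eq_sum_range, Polynomial.aeval_eq_sum_range, Finset.sum_mul_sum, MvPolynomial.coeff_sum]
  simp only [MvPolynomial.coeff_sum, smul_mul_smul_comm, MvPolynomial.coeff_smul, coeff_X_pow_mul, smul_eq_mul,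
    mul_ite, mul_one, mul_zero]
  have : ∀ x y : ℕ, (if i = x ∧ j = y then f.coeff x * g.coeff y else 0) =
      if i = x then (if j = y then f.coeff x * g.coeff y else 0) else 0 := by
    intro x y
    by_cases h1 : i = x <;> by_cases h2 : j = y <;> simp [h1, h2]
  simp only [this, Finset.sum_ite_irrel, Finset.sum_const_zero, Finset.sum_ite_eq]
  split_ifs with h1 h2
  · rfl
  · rw [Finset.mem_range, not_lt] at h2
    rw [Polynomial.coeff_eq_zero_of_natDegree_lt (p := g) (by omega), mul_zero]
  · rw [Finset.mem_range, not_lt] at h1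
    rw [Polynomial.coeff_eq_zero_of_natDegree_lt (p := f) (by omega), zero_mul]

theorem poly_iff (f : Polynomial A) :
    Polynomial.aeval (MvPolynomial.X 0 + MvPolynomial.X 1 : MvPolynomial (Fin 2) A) f =
        Polynomial.aeval (MvPolynomial.X 0 : MvPolynomial (Fin 2) A) f *
          Polynomial.aeval (MvPolynomial.X 1 : MvPolynomial (Fin 2) A) f ↔
      ∀ i j : ℕ, ((i + j).choose i : A) * f.coeff (i + j) = f.coeff i * f.coeff j := by
  constructor
  · intro h i j
    rw [← coeff_aeval_add, h, coeff_aeval_mul]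
  · intro h
    ext e
    rw [eq_ee e, coeff_aeval_add, coeff_aeval_mul, h]

end Poly

section PS

variable {A : Type u} [CommRing A]

theorem hasSubst_add : PowerSeries.HasSubst (MvPowerSeries.X 0 + MvPowerSeries.X 1 : MvPowerSeries (Fin 2) A) :=
  PowerSeries.HasSubst.of_constantCoeff_zero (by simp)

theorem ps_coeff_add (χ : PowerSeries A) (i j : ℕ) :
    MvPowerSeries.coeff (ee i j)
      (PowerSeries.subst (MvPowerSeries.X 0 + MvPowerSeries.X 1 : MvPowerSeries (Fin 2) A) χ) =
      ((i + j).choose i : A) * PowerSeries.coeff (i + j) χ := by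
  rw [PowerSeries.coeff_subst hasSubst_add]
  have : ∀ d : ℕ, MvPowerSeries.coeff (ee i j)
      ((MvPowerSeries.X 0 + MvPowerSeries.X 1 : MvPowerSeries (Fin 2) A) ^ d) =
        if i + j = d then ((i + j).choose i : A) else 0 := by
    intro d
    rw [← coeff_add_pow', ← MvPolynomial.coeff_coe]
    simp
  simp only [this]
  rw [finsum_eq_single _ (i + j)]
  · simp [mul_comm]
  · intro d hd
    rw [if_neg (Ne.symm hd), smul_zero]

theorem ps_coeff_mul (χ ψ : PowerSeries A) (i j : ℕ) :
    MvPowerSeries.coeff (ee i j)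
      (PowerSeries.subst (MvPowerSeries.X 0 : MvPowerSeries (Fin 2) A) χ *
        PowerSeries.subst (MvPowerSeries.X 1 : MvPowerSeries (Fin 2) A) ψ) =
      PowerSeries.coeff i χ * PowerSeries.coeff j ψ := by
  classical
  rw [MvPowerSeries.coeff_mul]
  rw [Finset.sum_eq_single (ee i 0, ee 0 j)]
  · rw [PowerSeries.coeff_subst_single, PowerSeries.coeff_subst_single]
    simp [ee]
  · rintro ⟨a, b⟩ hab hne
    rw [PowerSeries.coeff_subst_single, PowerSeries.coeff_subst_single]
    by_cases h1 : a = Finsupp.single 0 (a 0)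
    · by_cases h2 : b = Finsupp.single 1 (b 1)
      · exfalso
        apply hne
        rw [Finset.mem_antidiagonal] at hab
        have e0 := DFunLike.congr_fun hab 0
        have e1 := DFunLike.congr_fun hab 1
        rw [h1, h2] at e0 e1
        simp at e0 e1
        rw [h1, h2, e0, e1]
        simp [ee]
      · rw [if_neg h2, mul_zero]
    · rw [if_neg h1, zero_mul]
  · intro h
    exfalso
    apply h
    rw [Finset.mem_antidiagonal]
    simp [ee]

theorem ps_iff (χ : PowerSeries A) :
    PowerSeries.subst (MvPowerSeries.X 0 + MvPowerSeries.X 1 : MvPowerSeries (Fin 2) A) χ =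
        PowerSeries.subst (MvPowerSeries.X 0 : MvPowerSeries (Fin 2) A) χ *
          PowerSeries.subst (MvPowerSeries.X 1 : MvPowerSeries (Fin 2) A) χ ↔
      ∀ i j : ℕ, ((i + j).choose i : A) * PowerSeries.coeff (i + j) χ =
        PowerSeries.coeff i χ * PowerSeries.coeff j χ := by
  constructor
  · intro h i j
    rw [← ps_coeff_add, h, ps_coeff_mul]
  · intro h
    ext e
    rw [eq_ee e, ps_coeff_add, ps_coeff_mul, h]

end PS

section Lucas

theorem lucas_pow {p : ℕ} [Fact p.Prime] (n N K : ℕ) :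
    (N.choose K : ZMod p) = ((N / p ^ n).choose (K / p ^ n) : ZMod p) * ((N % p ^ n).choose (K % p ^ n) : ZMod p) := by
  have h1 := Choose.choose_modEq_choose_mul_prod_range_choose (n := N) (k := K) (p := p) n
  have h2 := Choose.choose_modEq_choose_mul_prod_range_choose (n := N % p ^ n) (k := K % p ^ n) (p := p) n
  rw [← ZMod.intCast_eq_intCast_iff] at h1 h2
  have hp : 0 < p ^ n := pow_pos (Fact.out : p.Prime).pos n
  rw [Nat.div_eq_of_lt (Nat.mod_lt _ hp), Nat.div_eq_of_lt (Nat.mod_lt _ hp), Nat.choose_self, Nat.cast_one,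
    one_mul] at h2
  have h3 : ∏ i ∈ Finset.range n, (N % p ^ n / p ^ i % p).choose (K % p ^ n / p ^ i % p) =
      ∏ i ∈ Finset.range n, (N / p ^ i % p).choose (K / p ^ i % p) := by
    refine Finset.prod_congr rfl fun i hi => ?_
    rw [Finset.mem_range] at hi
    have key : ∀ M : ℕ, M % p ^ n / p ^ i % p = M / p ^ i % p := by
      intro M
      obtain ⟨k, rfl⟩ := Nat.exists_eq_add_of_lt hi
      have : p ^ (i + k + 1) = p ^ i * (p ^ k * p) := by ring
      rw [this, Nat.mod_mul_right_div_self, Nat.mod_mod_of_dvd]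
      exact Dvd.intro_left _ rfl
    rw [key, key]
  rw [h3] at h2
  push_cast at h1 h2
  rw [h1, h2]

theorem choose_add_mul_cast {p : ℕ} [Fact p.Prime] {A : Type u} [CommRing A] [CharP A p] (n q r q' r' : ℕ)
    (hr : r < p ^ n) (hr' : r' < p ^ n) :
    ((q * p ^ n + r).choose (q' * p ^ n + r') : A) = (q.choose q' : A) * (r.choose r' : A) := by
  have h := lucas_pow (p := p) n (q * p ^ n + r) (q' * p ^ n + r')
  have hp : 0 < p ^ n := pow_pos (Fact.out : p.Prime).pos n
  have e1 : ∀ a b : ℕ, b < p ^ n → (a * p ^ n + b) / p ^ n = a := by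
    intro a b hb
    rw [mul_comm, Nat.mul_add_div hp, Nat.div_eq_of_lt hb, add_zero]
  have e2 : ∀ a b : ℕ, b < p ^ n → (a * p ^ n + b) % p ^ n = b := by
    intro a b hb
    rw [mul_comm, Nat.mul_add_mod, Nat.mod_eq_of_lt hb]
  rw [e1 _ _ hr, e1 _ _ hr', e2 _ _ hr, e2 _ _ hr'] at h
  have := congrArg (ZMod.castHom (dvd_refl p) A) h
  simpa using this

end Lucas

end K770.Coeff
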