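import Groth.Agent.GaDual.K770.Char
import Mathlib.Data.Nat.Choose.Dvd

/-!
# Combinatorics of symmetric additive 2-cocycles in characteristic `p`

For a fixed degree `n`, `f e` is the coefficient of `X^e Y^(n-e)`.
* `Rel n f`: `binom(n-a, e-a) f a = binom(e, a) f e` for `1 ≤ a ≤ e < n`, and `f e = f (n-e)` for `1 ≤ e < n`.
* `Rel.vanish`: if `f q = 0` where `n = q m` (`p ∤ m`, `1 < m`) or `n = q p`, `q = p ^ k`, then `f = 0` on `1 ≤ e < n`.
* `Rel.eq_binom`, `Rel.eq_h`: the two kinds of solutions.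
-/

set_option autoImplicit false
universe u

namespace K770.Comb

open K770.Coeff K770.Char

variable {p : ℕ} [hp : Fact p.Prime] {R : Type u} [CommRing R] [CharP R p]

/-- The relations between the coefficients of degree `n` of a symmetric 2-cocycle. -/
structure Rel (n : ℕ) (f : ℕ → R) : Prop where
  rel : ∀ a e, 1 ≤ a → a ≤ e → e < n → ((n - a).choose (e - a) : R) * f a = (e.choose a : R) * f e
  symm : ∀ e, 1 ≤ e → e < n → f e = f (n - e)

omit hp [CharP R p] in
theorem Rel.sub {n : ℕ} {f g : ℕ → R} (hf : Rel n f) (hg : Rel n g) : Rel n (fun e => f e - g e) where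
  rel a e h1 h2 h3 := by
    rw [mul_sub, mul_sub, hf.rel a e h1 h2 h3, hg.rel a e h1 h2 h3]
  symm e h1 h2 := by
    rw [hf.symm e h1 h2, hg.symm e h1 h2]

omit hp [CharP R p] in
theorem Rel.mul {n : ℕ} {f : ℕ → R} (hf : Rel n f) (c : R) : Rel n (fun e => f e * c) where
  rel a e h1 h2 h3 := by
    rw [← mul_assoc, ← mul_assoc, hf.rel a e h1 h2 h3]
  symm e h1 h2 := by
    rw [hf.symm e h1 h2]

omit hp [CharP R p] in
theorem rel_binom (n : ℕ) : Rel n (fun e => (n.choose e : R)) where
  rel a e h1 h2 h3 := by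
    have := Nat.choose_mul (n := n) (k := e) (s := a) h2
    rw [mul_comm, mul_comm (e.choose a : R)]
    exact_mod_cast congrArg (Nat.cast (R := R)) this.symm
  symm e h1 h2 := by
    rw [Nat.choose_symm (by omega)]

section Vanish

variable {n : ℕ} {f : ℕ → R} (hf : Rel n f) {k m : ℕ}

include hf

theorem Rel.vanish_lt (hn : n = m * p ^ k) (hm : 1 < m) (h0 : f (p ^ k) = 0) {e : ℕ} (h1 : 1 ≤ e)
    (h2 : e < p ^ k) : f e = 0 := by
  have hpk : 0 < p ^ k := pow_pos hp.out.pos k
  have h3 : p ^ k < n := by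
    rw [hn]
    exact lt_mul_of_one_lt_left hpk hm
  have h4 := hf.rel e (p ^ k) h1 h2.le h3
  rw [h0, mul_zero] at h4
  have h5 : n - e = (m - 1) * p ^ k + (p ^ k - e) := by
    obtain ⟨m', rfl⟩ : ∃ m', m = m' + 1 := ⟨m - 1, by omega⟩
    rw [hn, Nat.add_sub_cancel, add_mul, one_mul]
    omega
  have h6 : ((n - e).choose (p ^ k - e) : R) = 1 := by
    rw [h5]
    have := choose_add_mul_cast (p := p) (A := R) k (m - 1) (p ^ k - e) 0 (p ^ k - e) (by omega) (by omega)
    rw [zero_mul, zero_add] at this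
    rw [this]
    simp
  rwa [h6, one_mul] at h4

theorem Rel.vanish_of_pow_dvd (hn : n = m * p ^ k) (hm : 1 < m) (h0 : f (p ^ k) = 0) {e : ℕ}
    (h2 : e < n) {j : ℕ} (hj : j ≤ k) {e' : ℕ} (he : e = e' * p ^ j) (he' : ¬ p ∣ e') : f e = 0 := by
  have hpj : 0 < p ^ j := pow_pos hp.out.pos j
  have h7 : 1 ≤ e' := by
    rcases Nat.eq_zero_or_pos e' with h | h
    · exact absurd (h ▸ dvd_zero p) he'
    · exact h
  have h3 : f (p ^ j) = 0 := by
    rcases hj.lt_or_eq with h | h
    · exact hf.vanish_lt hn hm h0 hpj (Nat.pow_lt_pow_right hp.out.one_lt h)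
    · rw [h, h0]
  have h4 := hf.rel (p ^ j) e hpj (by rw [he]; exact Nat.le_mul_of_pos_left _ h7) h2
  rw [h3, mul_zero] at h4
  have h5 : (e.choose (p ^ j) : R) = (e' : R) := by
    have := choose_add_mul_cast (p := p) (A := R) j e' 0 1 0 hpj hpj
    rw [add_zero, add_zero, one_mul] at this
    rw [he, this]
    simp
  rw [h5] at h4
  exact (isUnit_natCast (A := R) p he').mul_right_eq_zero.1 h4.symm

theorem Rel.vanish (hn : n = m * p ^ k) (hm : 1 < m) (hm' : ¬ p ∣ m ∨ m = p) (h0 : f (p ^ k) = 0) {e : ℕ}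
    (h1 : 1 ≤ e) (h2 : e < n) : f e = 0 := by
  obtain ⟨j, e', he', he⟩ := Nat.exists_eq_pow_mul_and_not_dvd (n := e) (by omega) p hp.out.ne_one
  rw [mul_comm] at he
  by_cases hj : j ≤ k
  · exact hf.vanish_of_pow_dvd hn hm h0 h2 hj he he'
  · rcases hm' with hm' | hm'
    · -- `p^(k+1) ∣ e`
      have h3 : p ^ (k + 1) ∣ e := by
        rw [he]
        exact Dvd.dvd.mul_left (pow_dvd_pow p (by omega)) _
      obtain ⟨t, ht⟩ := h3
      have h4 : n - e = (m - t * p) * p ^ k := by
        rw [hn, ht, Nat.sub_mul]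
        congr 1
        ring
      have h5 : ¬ p ∣ m - t * p := by
        intro h
        apply hm'
        have h6 : t * p ≤ m := by
          by_contra h7
          have h8 : m * p ^ k ≤ (t * p) * p ^ k := Nat.mul_le_mul_right _ (by omega)
          rw [← hn] at h8
          have h9 : e = (t * p) * p ^ k := by rw [ht]; ring
          omega
        have := Nat.dvd_add h (Dvd.intro_left t rfl)
        rwa [Nat.sub_add_cancel h6] at this
      rw [hf.symm e h1 h2]
      exact hf.vanish_of_pow_dvd hn hm h0 (by omega) le_rfl h4 h5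
    · exfalso
      have h3 : p ^ (k + 1) ∣ e := by
        rw [he]
        exact Dvd.dvd.mul_left (pow_dvd_pow p (by omega)) _
      have h4 := Nat.le_of_dvd (by omega) h3
      rw [hn, hm', ← pow_succ'] at h2
      omega

end Vanish

/-- Degree not a power of `p`. -/
theorem Rel.eq_binom {n : ℕ} {f : ℕ → R} (hf : Rel n f) {k m : ℕ} (hn : n = m * p ^ k) (hm : 1 < m)
    (hm' : ¬ p ∣ m) {e : ℕ} (h1 : 1 ≤ e) (h2 : e < n) :
    f e = (n.choose e : R) * (Ring.inverse (m : R) * f (p ^ k)) := by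
  have hpk : 0 < p ^ k := pow_pos hp.out.pos k
  have h3 : Rel n (fun e => f e - (n.choose e : R) * (Ring.inverse (m : R) * f (p ^ k))) :=
    hf.sub ((rel_binom n).mul _)
  have h4 := h3.vanish hn hm (Or.inl hm') (by
    have h5 : (n.choose (p ^ k) : R) = (m : R) := by
      have := choose_add_mul_cast (p := p) (A := R) k m 0 1 0 hpk hpk
      rw [add_zero, add_zero, one_mul] at this
      rw [hn, this]
      simp
    rw [h5, ← mul_assoc, Ring.mul_inverse_cancel _ (isUnit_natCast (A := R) p hm'), one_mul, sub_self]) h1 h2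
  exact sub_eq_zero.1 h4

/-- The coefficients of `((X+Y)^p - X^p - Y^p)/p` at `(X^q, Y^q)`, `q = p ^ k`, in degree `p q`. -/
def h (p k e : ℕ) : ℕ := if p ^ k ∣ e then p.choose (e / p ^ k) / p else 0

omit hp in
theorem h_mul (p k a : ℕ) (hpk : 0 < p ^ k) : h p k (a * p ^ k) = p.choose a / p := by
  rw [h, if_pos (Dvd.intro_left a rfl), Nat.mul_div_cancel _ hpk]

theorem choose_mul_div {p : ℕ} (hp : p.Prime) {a e : ℕ} (h1 : 1 ≤ a) (h2 : a ≤ e) (h3 : e < p) :
    (p - a).choose (e - a) * (p.choose a / p) = e.choose a * (p.choose e / p) := by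
  have h4 := Nat.choose_mul (n := p) (k := e) (s := a) h2
  obtain ⟨x, hx⟩ := hp.dvd_choose_self (k := a) (by omega) (by omega)
  obtain ⟨y, hy⟩ := hp.dvd_choose_self (k := e) (by omega) (by omega)
  rw [hx, hy, Nat.mul_div_cancel_left _ hp.pos, Nat.mul_div_cancel_left _ hp.pos]
  rw [hx, hy] at h4
  apply Nat.eq_of_mul_eq_mul_left hp.pos
  calc p * ((p - a).choose (e - a) * x) = p * x * (p - a).choose (e - a) := by ring
    _ = p * y * e.choose a := h4.symm
    _ = _ := by ring

variable (R) in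
theorem rel_h (k : ℕ) : Rel (p * p ^ k) (fun e => (h p k e : R)) where
  rel a e h1 h2 h3 := by
    have hpk : 0 < p ^ k := pow_pos hp.out.pos k
    have ha := Nat.div_add_mod' a (p ^ k)
    have he := Nat.div_add_mod' e (p ^ k)
    have ha' := Nat.mod_lt a hpk
    have he' := Nat.mod_lt e hpk
    by_cases h4 : p ^ k ∣ a
    · obtain ⟨a', rfl⟩ := exists_eq_mul_left_of_dvd h4
      by_cases h5 : p ^ k ∣ e
      · obtain ⟨e', rfl⟩ := exists_eq_mul_left_of_dvd h5
        rw [h_mul p k a' hpk, h_mul p k e' hpk, ← Nat.sub_mul, ← Nat.sub_mul]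
        have h6 : ∀ x y : ℕ, ((x * p ^ k).choose (y * p ^ k) : R) = (x.choose y : R) := by
          intro x y
          have := choose_add_mul_cast (p := p) (A := R) k x 0 y 0 hpk hpk
          rw [add_zero, add_zero] at this
          rw [this]
          simp
        rw [h6, h6]
        have h7 := choose_mul_div hp.out (a := a') (e := e')
          (Nat.pos_of_mul_pos_right (a := a') (b := p ^ k) (by omega))
          (Nat.le_of_mul_le_mul_right h2 hpk) (Nat.lt_of_mul_lt_mul_right h3)
        exact_mod_cast congrArg (Nat.cast (R := R)) h7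
      · have h6 : ((p * p ^ k - a' * p ^ k).choose (e - a' * p ^ k) : R) = 0 := by
          have h7 : e - a' * p ^ k = (e / p ^ k - a') * p ^ k + e % p ^ k := by
            have h8 : a' ≤ e / p ^ k := (Nat.le_div_iff_mul_le hpk).2 h2
            rw [Nat.sub_mul]
            have h9 : a' * p ^ k ≤ e / p ^ k * p ^ k := Nat.mul_le_mul_right _ h8
            omega
          have h8 := choose_add_mul_cast (p := p) (A := R) k (p - a') 0 (e / p ^ k - a') (e % p ^ k) hpk he'
          rw [add_zero] at h8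
          rw [← Nat.sub_mul, h7, h8, Nat.choose_eq_zero_of_lt (n := 0) (k := e % p ^ k)]
          · simp
          · exact Nat.pos_of_ne_zero fun h9 => h5 (Nat.dvd_of_mod_eq_zero h9)
        rw [h6, zero_mul, h, if_neg h5]
        simp
    · by_cases h5 : p ^ k ∣ e
      · obtain ⟨e', rfl⟩ := exists_eq_mul_left_of_dvd h5
        have h8 := choose_add_mul_cast (p := p) (A := R) k e' 0 (a / p ^ k) (a % p ^ k) hpk ha'
        rw [add_zero, ha, Nat.choose_eq_zero_of_lt (n := 0) (k := a % p ^ k)] at h8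
        · rw [h8, h, if_neg h4]
          simp
        · exact Nat.pos_of_ne_zero fun h9 => h4 (Nat.dvd_of_mod_eq_zero h9)
      · rw [h, h, if_neg h4, if_neg h5]
        simp
  symm e h1 h2 := by
    have hpk : 0 < p ^ k := pow_pos hp.out.pos k
    by_cases h4 : p ^ k ∣ e
    · obtain ⟨e', rfl⟩ := exists_eq_mul_left_of_dvd h4
      rw [← Nat.sub_mul, h_mul p k e' hpk, h_mul p k _ hpk, Nat.choose_symm]
      exact Nat.le_of_lt (Nat.lt_of_mul_lt_mul_right h2)
    · have h5 : ¬ p ^ k ∣ p * p ^ k - e := by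
        intro h5
        apply h4
        exact (Nat.dvd_sub_iff_right h2.le (Dvd.intro_left p rfl)).1 h5
      rw [h, h, if_neg h4, if_neg h5]

/-- Degree a power of `p`. -/
theorem Rel.eq_h {n : ℕ} {f : ℕ → R} (hf : Rel n f) {k : ℕ} (hn : n = p * p ^ k) {e : ℕ} (h1 : 1 ≤ e)
    (h2 : e < n) : f e = (h p k e : R) * f (p ^ k) := by
  have hpk : 0 < p ^ k := pow_pos hp.out.pos k
  subst hn
  have h3 : Rel (p * p ^ k) (fun e => f e - (h p k e : R) * f (p ^ k)) := hf.sub ((rel_h R k).mul _)
  have h4 := h3.vanish rfl hp.out.one_lt (Or.inr rfl) (by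
    have h5 := h_mul p k 1 hpk
    rw [one_mul, Nat.choose_one_right, Nat.div_self hp.out.pos] at h5
    rw [h5, Nat.cast_one, one_mul, sub_self]) h1 h2
  exact sub_eq_zero.1 h4

end K770.Comb
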