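import Groth.Agent.S2468
import Mathlib.FieldTheory.KummerPolynomial
import Mathlib.Algebra.CharP.Frobenius
import Mathlib.RingTheory.IntegralClosure.IntegrallyClosed

/-!
# Elements with vanishing differential are `p`-th powers
-/

set_option autoImplicit false
universe u

namespace K770.DZero

open Polynomial

variable (p : ℕ) [hp : Fact p.Prime] {K : Type u} [Field K] [CharP K p]

theorem pPower_surj : Function.Surjective (algebraMap (frobenius K p).fieldRange
    (EGA41.pPowerSubalgebra p (frobenius K p).fieldRange K)) := by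
  rintro ⟨x, hx⟩
  have h1 : EGA41.pPowerSubalgebra p (frobenius K p).fieldRange K ≤ ⊥ := by
    refine Algebra.adjoin_le ?_
    rintro _ ⟨b, rfl⟩
    exact Algebra.mem_bot.2 ⟨⟨b ^ p, ⟨b, rfl⟩⟩, rfl⟩
  obtain ⟨y, hy⟩ := Algebra.mem_bot.1 (h1 hx)
  exact ⟨y, Subtype.ext hy⟩

theorem isPIndependent {s : K} (hs : ¬ ∃ y, y ^ p = s) :
    EGA41.IsPIndependent p (frobenius K p).fieldRange (fun _ : PUnit.{u + 1} => s) := by
  set kp := (frobenius K p).fieldRange with hkp
  let a : kp := ⟨s ^ p, ⟨s, rfl⟩⟩
  have hirr : Irreducible (X ^ p - C a : kp[X]) := by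
    apply X_pow_sub_C_irreducible_of_prime hp.out
    intro b hb
    apply hs
    obtain ⟨y, hy⟩ := b.2
    refine ⟨y, ?_⟩
    have h1 : (b : K) ^ p = s ^ p := congrArg Subtype.val hb
    rw [← hy] at h1
    exact frobenius_inj K p h1
  have hmin : minpoly kp s = X ^ p - C a := by
    symm
    apply minpoly.eq_of_irreducible_of_monic hirr
    · simp [a]
      exact sub_self _
    · exact monic_X_pow_sub_C a hp.out.ne_zero
  have hdeg : (minpoly kp s).natDegree = p := by
    rw [hmin, natDegree_X_pow_sub_C]
  have hli := linearIndependent_pow (K := kp) s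
  rw [hdeg] at hli
  have h2 := hli.map_of_surjective_injective (R' := EGA41.pPowerSubalgebra p kp K)
    (algebraMap kp (EGA41.pPowerSubalgebra p kp K)) (AddMonoidHom.id K) (pPower_surj p)
    (fun m hm => hm) (fun r m => by
      rw [AddMonoidHom.id_apply, AddMonoidHom.id_apply, algebraMap_smul])
  let ι := {e : PUnit.{u + 1} →₀ ℕ // ∀ i, e i < p}
  let g : ι → Fin p := fun e => ⟨e.1 PUnit.unit, e.2 _⟩
  have hg : Function.Injective g := by
    rintro ⟨e, he⟩ ⟨e', he'⟩ h
    have h3 : e PUnit.unit = e' PUnit.unit := congrArg Fin.val h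
    exact Subtype.ext (Finsupp.ext fun _ => h3)
  have h3 := h2.comp g hg
  have h4 : ((AddMonoidHom.id K ∘ fun i : Fin p => s ^ (i : ℕ)) ∘ g) =
      (fun e : ι => EGA41.pMonomial (fun _ : PUnit.{u + 1} => s) e.1) := by
    funext e
    rw [EGA41.pMonomial, Finsupp.prod_fintype _ _ (fun _ => pow_zero _), Fintype.prod_subsingleton _ PUnit.unit]
    rfl
  rw [h4] at h3
  exact h3

theorem exists_pow_of_D_eq_zero {s : K} (h : KaehlerDifferential.D (frobenius K p).fieldRange K s = 0) :
    ∃ y, y ^ p = s := by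
  by_contra hs
  have h1 := (Groth.Agent.S2468.result p (k := (frobenius K p).fieldRange) (fun _ : PUnit.{u + 1} => s)).1.1
    (isPIndependent p hs)
  exact h1.ne_zero PUnit.unit h

theorem normal {A : Type u} [CommRing A] [IsDomain A] [IsIntegrallyClosed A] [CharP A p] (s : A)
    (hs : KaehlerDifferential.D ℤ A s = 0) : ∃ f : A, f ^ p = s := by
  let K := FractionRing A
  have : CharP K p := charP_of_injective_algebraMap (IsFractionRing.injective A K) p
  have h1 : KaehlerDifferential.D (frobenius K p).fieldRange K (algebraMap A K s) = 0 := by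
    have : @IsScalarTower ℤ (frobenius K p).fieldRange K Algebra.toSMul Algebra.toSMul Algebra.toSMul :=
      IsScalarTower.of_algebraMap_eq' (Subsingleton.elim _ _)
    have h2 := KaehlerDifferential.map_D ℤ (frobenius K p).fieldRange A K s
    rw [hs, map_zero] at h2
    exact h2.symm
  obtain ⟨y, hy⟩ := exists_pow_of_D_eq_zero p h1
  have h3 : IsIntegral A (y ^ p) := by
    rw [hy]
    exact isIntegral_algebraMap
  obtain ⟨f, hf⟩ := IsIntegrallyClosed.exists_algebraMap_eq_of_isIntegral_pow hp.out.pos h3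
  refine ⟨f, IsFractionRing.injective A K ?_⟩
  rw [map_pow, hf, hy]

end K770.DZero
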