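import Groth.Agent.GaDual.K770.KeyE
import Mathlib.Algebra.MvPolynomial.Nilpotent
import Mathlib.RingTheory.Polynomial.Nilpotent
import Mathlib.RingTheory.Polynomial.Basic
import Mathlib.RingTheory.MvPolynomial.Basic
import Mathlib.RingTheory.Nilpotent.Lemmas
import Mathlib.RingTheory.Finiteness.Ideal
import Mathlib.RingTheory.Finiteness.Nilpotent
import Mathlib.Algebra.CharP.Frobenius
import Mathlib.Algebra.CharP.Algebra
import Mathlib.Algebra.Algebra.ZMod

/-!
# Splitting multiplicative symmetric cocycles over a semiperfect ring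

`exists_split`: if `h ∈ 1 + I[X,Y]`, `I` nilpotent, is a multiplicative symmetric 2-cocycle over a ring of
characteristic `p` with surjective Frobenius, then `h` is a coboundary.
-/

set_option autoImplicit false
universe u

namespace K770.Split

open K770.Coeff K770.Char K770.Comb K770.Coc3 K770.Cocycle K770.Form K770.KeyE

variable {p : ℕ} [hp : Fact p.Prime] {R : Type u} [CommRing R]

section Gen

variable {R' : Type u} [CommRing R'] (φ : R →+* R')

theorem map_aeval {σ : Type*} (a b : MvPolynomial σ R) (F : MvPolynomial (Fin 2) R) :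
    MvPolynomial.map φ (MvPolynomial.aeval ![a, b] F) =
      MvPolynomial.aeval ![MvPolynomial.map φ a, MvPolynomial.map φ b] (MvPolynomial.map φ F) := by
  have h : (MvPolynomial.map φ).comp (MvPolynomial.aeval ![a, b] : MvPolynomial (Fin 2) R →ₐ[R] _).toRingHom =
      (MvPolynomial.aeval ![MvPolynomial.map φ a, MvPolynomial.map φ b] :
        MvPolynomial (Fin 2) R' →ₐ[R'] _).toRingHom.comp (MvPolynomial.map φ) := by
    apply MvPolynomial.ringHom_ext
    · intro r
      simp [MvPolynomial.algebraMap_eq]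
    · intro i
      fin_cases i <;> simp
  exact RingHom.congr_fun h F

theorem map_paeval {σ : Type*} (a : MvPolynomial σ R) (G : Polynomial R) :
    MvPolynomial.map φ (Polynomial.aeval a G) = Polynomial.aeval (MvPolynomial.map φ a) (G.map φ) := by
  have h : (MvPolynomial.map φ).comp (Polynomial.aeval a : Polynomial R →ₐ[R] MvPolynomial σ R).toRingHom =
      (Polynomial.aeval (MvPolynomial.map φ a) : Polynomial R' →ₐ[R'] MvPolynomial σ R').toRingHom.comp
        (Polynomial.mapRingHom φ) := by
    apply Polynomial.ringHom_ext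
    · intro r
      simp [MvPolynomial.algebraMap_eq]
    · simp
  exact RingHom.congr_fun h G

omit hp in
theorem map_S : MvPolynomial.map φ (S p R) = S p R' := by
  rw [S, S, map_sum]
  refine Finset.sum_congr rfl fun j _ => ?_
  simp

omit hp in
theorem map_form (G : Polynomial R) (N : ℕ) (r : ℕ → R) :
    MvPolynomial.map φ (form p G N r) = form p (G.map φ) N (fun i => φ (r i)) := by
  rw [form, form, map_add, map_sub, map_sub, map_paeval, map_paeval, map_paeval, map_sum, map_add,
    MvPolynomial.map_X, MvPolynomial.map_X]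
  congr 1
  refine Finset.sum_congr rfl fun i _ => ?_
  rw [map_mul, MvPolynomial.map_C, map_aeval, map_S, map_pow, map_pow, MvPolynomial.map_X, MvPolynomial.map_X]

end Gen

/-- Polynomials with coefficients in `I`. -/
noncomputable abbrev IP (σ : Type) (I : Ideal R) : Ideal (MvPolynomial σ R) := I.map (MvPolynomial.C : R →+* MvPolynomial σ R)

theorem aeval_mem_IP {σ : Type} {I : Ideal R} {F : MvPolynomial (Fin 2) R} (hF : F ∈ IP (Fin 2) I)
    (a b : MvPolynomial σ R) : MvPolynomial.aeval ![a, b] F ∈ IP σ I := by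
  have h := Ideal.mem_map_of_mem (MvPolynomial.aeval ![a, b] : MvPolynomial (Fin 2) R →ₐ[R] _).toRingHom hF
  rw [Ideal.map_map] at h
  have h2 : ((MvPolynomial.aeval ![a, b] : MvPolynomial (Fin 2) R →ₐ[R] MvPolynomial σ R).toRingHom).comp
      MvPolynomial.C = (MvPolynomial.C : R →+* MvPolynomial σ R) := by
    ext r
    simp
  rw [h2] at h
  exact h

theorem paeval_mem_IP {σ : Type} {I : Ideal R} {G : Polynomial R} (hG : ∀ n, G.coeff n ∈ I)
    (a : MvPolynomial σ R) : Polynomial.aeval a G ∈ IP σ I := by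
  rw [Polynomial.aeval_eq_sum_range]
  refine Ideal.sum_mem _ fun k _ => ?_
  rw [MvPolynomial.smul_eq_C_mul]
  exact Ideal.mul_mem_right _ _ (Ideal.mem_map_of_mem _ (hG k))

omit hp in
theorem S_homog {B : Type*} [CommRing B] [Algebra R B] (s a b : B) :
    MvPolynomial.aeval ![s * a, s * b] (S p R) = s ^ p * MvPolynomial.aeval ![a, b] (S p R) := by
  rw [S, map_sum, map_sum, Finset.mul_sum]
  refine Finset.sum_congr rfl fun j hj => ?_
  rw [Finset.mem_Ioo] at hj
  simp only [map_mul, map_pow, MvPolynomial.aeval_X, MvPolynomial.aeval_C, Matrix.cons_val_zero,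
    Matrix.cons_val_one]
  rw [mul_pow, mul_pow]
  have : s ^ p = s ^ j * s ^ (p - j) := by rw [← pow_add]; congr 1; omega
  rw [this]
  ring

section Cob

variable {I : Ideal R}

/-- `u(X+Y) = u(X) u(Y) (1 + F)` modulo `I^2`. -/
def Cob (I : Ideal R) (u : Polynomial R) (F : MvPolynomial (Fin 2) R) : Prop :=
  Polynomial.aeval (MvPolynomial.X 0 + MvPolynomial.X 1 : MvPolynomial (Fin 2) R) u -
    Polynomial.aeval (MvPolynomial.X 0 : MvPolynomial (Fin 2) R) u *
      Polynomial.aeval (MvPolynomial.X 1 : MvPolynomial (Fin 2) R) u * (1 + F) ∈ IP (Fin 2) (I ^ 2)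

theorem mul_mem_IP {I : Ideal R} {F F' : MvPolynomial (Fin 2) R} (hF : F ∈ IP (Fin 2) I) (hF' : F' ∈ IP (Fin 2) I) :
    F * F' ∈ IP (Fin 2) (I ^ 2) := by
  rw [IP, pow_two, Ideal.map_mul]
  exact Ideal.mul_mem_mul hF hF'

theorem Cob.mul {u u' : Polynomial R} {F F' : MvPolynomial (Fin 2) R} (h : Cob I u F) (h' : Cob I u' F')
    (hF : F ∈ IP (Fin 2) I) (hF' : F' ∈ IP (Fin 2) I) : Cob I (u * u') (F + F') := by
  rw [Cob] at *
  rw [map_mul, map_mul, map_mul]
  generalize Polynomial.aeval (MvPolynomial.X 0 + MvPolynomial.X 1 : MvPolynomial (Fin 2) R) u = a at *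
  generalize Polynomial.aeval (MvPolynomial.X 0 + MvPolynomial.X 1 : MvPolynomial (Fin 2) R) u' = a' at *
  generalize Polynomial.aeval (MvPolynomial.X 0 : MvPolynomial (Fin 2) R) u = b at *
  generalize Polynomial.aeval (MvPolynomial.X 0 : MvPolynomial (Fin 2) R) u' = b' at *
  generalize Polynomial.aeval (MvPolynomial.X 1 : MvPolynomial (Fin 2) R) u = c at *
  generalize Polynomial.aeval (MvPolynomial.X 1 : MvPolynomial (Fin 2) R) u' = c' at *
  have key : a * a' - b * b' * (c * c') * (1 + (F + F')) = (a - b * c * (1 + F)) * a' +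
      (b * c * (1 + F)) * (a' - b' * c' * (1 + F')) + b * c * b' * c' * (F * F') := by ring
  rw [key]
  exact Ideal.add_mem _ (Ideal.add_mem _ (Ideal.mul_mem_right _ _ h) (Ideal.mul_mem_left _ _ h'))
    (Ideal.mul_mem_left _ _ (mul_mem_IP hF hF'))

theorem Cob.one : Cob I 1 0 := by
  rw [Cob]
  simp

theorem Cob.prod {N : ℕ} {u : ℕ → Polynomial R} {F : ℕ → MvPolynomial (Fin 2) R} (h : ∀ i, Cob I (u i) (F i))
    (hF : ∀ i, F i ∈ IP (Fin 2) I) : Cob I (∏ i ∈ Finset.range N, u i) (∑ i ∈ Finset.range N, F i) := by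
  induction N with
  | zero => rw [Finset.prod_range_zero, Finset.sum_range_zero]; exact Cob.one
  | succ N ih =>
    rw [Finset.prod_range_succ, Finset.sum_range_succ]
    exact ih.mul (h N) (Ideal.sum_mem _ fun i _ => hF i) (hF N)

theorem Cob.oneAdd {G : Polynomial R} (hG : ∀ n, G.coeff n ∈ I) :
    Cob I (1 + G) (Polynomial.aeval (MvPolynomial.X 0 + MvPolynomial.X 1 : MvPolynomial (Fin 2) R) G
              - Polynomial.aeval (MvPolynomial.X 0 : MvPolynomial (Fin 2) R) G
              - Polynomial.aeval (MvPolynomial.X 1 : MvPolynomial (Fin 2) R) G) := by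
  rw [Cob, map_add, map_add, map_add, map_one, map_one, map_one]
  have h1 := paeval_mem_IP hG (MvPolynomial.X 0 + MvPolynomial.X 1 : MvPolynomial (Fin 2) R)
  have h2 := paeval_mem_IP hG (MvPolynomial.X 0 : MvPolynomial (Fin 2) R)
  have h3 := paeval_mem_IP hG (MvPolynomial.X 1 : MvPolynomial (Fin 2) R)
  generalize Polynomial.aeval (MvPolynomial.X 0 + MvPolynomial.X 1 : MvPolynomial (Fin 2) R) G = a at *
  generalize Polynomial.aeval (MvPolynomial.X 0 : MvPolynomial (Fin 2) R) G = b at *
  generalize Polynomial.aeval (MvPolynomial.X 1 : MvPolynomial (Fin 2) R) G = c at *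
  have key : 1 + a - (1 + b) * (1 + c) * (1 + (a - b - c)) =
      -(b * (a - b - c)) - c * (a - b - c) - b * c * (1 + (a - b - c)) := by ring
  rw [key]
  have h4 : a - b - c ∈ IP (Fin 2) I := Ideal.sub_mem _ (Ideal.sub_mem _ h1 h2) h3
  exact Ideal.sub_mem _ (Ideal.sub_mem _ (neg_mem (mul_mem_IP h2 h4)) (mul_mem_IP h3 h4))
    (Ideal.mul_mem_right _ _ (mul_mem_IP h2 h3))

variable [CharP R p]

/-- The Artin-Hasse factor. -/
theorem exists_AH {s : R} (hs : s ^ p ∈ I) (hnil : IsNilpotent s) (k : ℕ) :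
    ∃ u : Polynomial R, IsUnit u ∧ Cob I u (MvPolynomial.C (s ^ p) *
                MvPolynomial.aeval ![(MvPolynomial.X 0 : MvPolynomial (Fin 2) R) ^ p ^ k, MvPolynomial.X 1 ^ p ^ k]
                  (S p R)) := by
  obtain ⟨E, hE, hD⟩ := exists_E p R
  set t : Polynomial R := Polynomial.C s * Polynomial.X ^ p ^ k with ht
  have haev : ∀ x : MvPolynomial (Fin 2) R, Polynomial.aeval x (Polynomial.aeval t E) =
      Polynomial.aeval (MvPolynomial.C s * x ^ p ^ k) E := by
    intro x
    rw [← Polynomial.aeval_algHom_apply (Polynomial.aeval x), ht, map_mul, Polynomial.aeval_C, map_pow,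
      Polynomial.aeval_X]
    rfl
  refine ⟨Polynomial.aeval t E, ?_, ?_⟩
  · have h1 : Polynomial.aeval t E - 1 ∈ Ideal.span {t} :=
      aeval_sub_one_mem _ hE (Ideal.mem_span_singleton_self t)
    obtain ⟨v, hv⟩ := Ideal.mem_span_singleton'.1 h1
    have h2 : IsNilpotent (Polynomial.aeval t E - 1) := by
      rw [← hv, ht]
      have h3 : IsNilpotent (Polynomial.C s : Polynomial R) := hnil.map Polynomial.C
      have h4 : v * (Polynomial.C s * Polynomial.X ^ p ^ k) = Polynomial.C s * (v * Polynomial.X ^ p ^ k) := by ring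
      rw [h4]
      exact (Commute.all _ _).isNilpotent_mul_right h3
    have := h2.isUnit_one_add
    rwa [add_sub_cancel] at this
  · rw [Cob, haev, haev, haev]
    have hq : (MvPolynomial.X 0 + MvPolynomial.X 1 : MvPolynomial (Fin 2) R) ^ p ^ k =
        MvPolynomial.X 0 ^ p ^ k + MvPolynomial.X 1 ^ p ^ k := add_pow_char_pow (p := p) _ _ _
    rw [hq, mul_add]
    have h1 := eval_D (p := p) E (MvPolynomial.C s * (MvPolynomial.X 0 : MvPolynomial (Fin 2) R) ^ p ^ k)
      (MvPolynomial.C s * MvPolynomial.X 1 ^ p ^ k)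
    rw [S_homog, ← map_pow] at h1
    rw [← h1]
    have h2 := aeval_mem (Ideal.span {(MvPolynomial.C s : MvPolynomial (Fin 2) R)}) hD
      (u := MvPolynomial.C s * (MvPolynomial.X 0 : MvPolynomial (Fin 2) R) ^ p ^ k)
      (v := MvPolynomial.C s * MvPolynomial.X 1 ^ p ^ k)
      (Ideal.mul_mem_right _ _ (Ideal.mem_span_singleton_self _))
      (Ideal.mul_mem_right _ _ (Ideal.mem_span_singleton_self _))
    rw [Ideal.span_singleton_pow, Ideal.mem_span_singleton'] at h2
    obtain ⟨v, hv⟩ := h2
    rw [← hv, ← map_pow]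
    refine Ideal.mul_mem_left _ _ (Ideal.mem_map_of_mem _ ?_)
    rw [mul_comm 2 p, pow_mul]
    exact Ideal.pow_mem_pow hs 2

end Cob

theorem charP_quot [CharP R p] (J : Ideal R) [Nontrivial (R ⧸ J)] : CharP (R ⧸ J) p := by
  let _ : Algebra (ZMod p) R := ZMod.algebra R p
  exact charP_of_injective_algebraMap (algebraMap (ZMod p) (R ⧸ J)).injective p

/-- Existence of `U` killing the cocycle modulo `I^2`. -/
theorem exists_U [CharP R p] (hF : Function.Surjective (frobenius R p)) {I : Ideal R} (hI : IsNilpotent I)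
    (F : MvPolynomial (Fin 2) R) (hFI : F ∈ IP (Fin 2) I)
    (hsymm : MvPolynomial.aeval ![(MvPolynomial.X 1 : MvPolynomial (Fin 2) R), MvPolynomial.X 0] F = F)
    (hcoc : MvPolynomial.aeval ![(MvPolynomial.X 1 : MvPolynomial (Fin 3) R), MvPolynomial.X 2] (1 + F) *
        MvPolynomial.aeval ![MvPolynomial.X 0, MvPolynomial.X 1 + MvPolynomial.X 2] (1 + F) =
      MvPolynomial.aeval ![MvPolynomial.X 0 + MvPolynomial.X 1, MvPolynomial.X 2] (1 + F) *
        MvPolynomial.aeval ![MvPolynomial.X 0, MvPolynomial.X 1] (1 + F)) :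
    ∃ U : Polynomial R, IsUnit U ∧ Cob I U F := by
  obtain ⟨n, hn⟩ := hI
  have hnil : ∀ x ∈ I, IsNilpotent x := fun x hx => ⟨n, by
    have := Ideal.pow_mem_pow hx n
    rw [hn] at this
    exact this⟩
  have : Nontrivial R := CharP.nontrivial_of_char_ne_one (v := p) hp.out.ne_one
  have hne : I ^ 2 ≠ ⊤ := by
    intro h
    have h1 : I = ⊤ := top_le_iff.1 (h ▸ Ideal.pow_le_self two_ne_zero)
    rw [h1, Ideal.top_pow] at hn
    exact top_ne_bot hn
  have : Nontrivial (R ⧸ I ^ 2) := Ideal.Quotient.nontrivial_iff.2 hne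
  have : CharP (R ⧸ I ^ 2) p := charP_quot _
  set π := Ideal.Quotient.mk (I ^ 2) with hπ
  have hkill : ∀ {σ : Type} (P : MvPolynomial σ R), P ∈ IP σ (I ^ 2) → MvPolynomial.map π P = 0 := by
    intro σ P hP
    have := Ideal.mem_map_of_mem (MvPolynomial.map π) hP
    rw [Ideal.map_map] at this
    have h2 : Ideal.map ((MvPolynomial.map π).comp MvPolynomial.C : R →+* MvPolynomial σ (R ⧸ I ^ 2)) (I ^ 2) = ⊥ := by
      rw [eq_bot_iff, Ideal.map_le_iff_le_comap]
      intro x hx
      rw [Ideal.mem_comap, RingHom.comp_apply, MvPolynomial.map_C, Ideal.Quotient.eq_zero_iff_mem.2 hx, map_zero]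
      exact Ideal.zero_mem _
    rw [h2] at this
    exact this
  have hmem : ∀ {σ : Type} (P : MvPolynomial σ R), MvPolynomial.map π P = 0 → P ∈ IP σ (I ^ 2) := by
    intro σ P hP
    rw [IP, MvPolynomial.mem_map_C_iff]
    intro m
    have := congrArg (MvPolynomial.coeff m) hP
    rw [MvPolynomial.coeff_map, MvPolynomial.coeff_zero] at this
    exact Ideal.Quotient.eq_zero_iff_mem.1 this
  -- additive cocycle modulo `I^2`
  have hcoc' : MvPolynomial.aeval ![MvPolynomial.X 0, MvPolynomial.X 1 + MvPolynomial.X 2] (MvPolynomial.map π F)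
          + MvPolynomial.aeval ![MvPolynomial.X 1, MvPolynomial.X 2] (MvPolynomial.map π F)
          - MvPolynomial.aeval ![MvPolynomial.X 0 + MvPolynomial.X 1, MvPolynomial.X 2] (MvPolynomial.map π F)
          - MvPolynomial.aeval ![MvPolynomial.X 0, MvPolynomial.X 1] (MvPolynomial.map π F) =
            (0 : MvPolynomial (Fin 3) (R ⧸ I ^ 2)) := by
    have e1 := map_aeval π (MvPolynomial.X 0 : MvPolynomial (Fin 3) R) (MvPolynomial.X 1 + MvPolynomial.X 2) F
    have e2 := map_aeval π (MvPolynomial.X 1 : MvPolynomial (Fin 3) R) (MvPolynomial.X 2) F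
    have e3 := map_aeval π (MvPolynomial.X 0 + MvPolynomial.X 1 : MvPolynomial (Fin 3) R) (MvPolynomial.X 2) F
    have e4 := map_aeval π (MvPolynomial.X 0 : MvPolynomial (Fin 3) R) (MvPolynomial.X 1) F
    simp only [map_add, MvPolynomial.map_X] at e1 e2 e3 e4
    rw [← e1, ← e2, ← e3, ← e4, ← map_add, ← map_sub, ← map_sub]
    apply hkill
    have m1 := aeval_mem_IP hFI (MvPolynomial.X 0 : MvPolynomial (Fin 3) R) (MvPolynomial.X 1 + MvPolynomial.X 2)
    have m2 := aeval_mem_IP hFI (MvPolynomial.X 1 : MvPolynomial (Fin 3) R) (MvPolynomial.X 2)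
    have m3 := aeval_mem_IP hFI (MvPolynomial.X 0 + MvPolynomial.X 1 : MvPolynomial (Fin 3) R) (MvPolynomial.X 2)
    have m4 := aeval_mem_IP hFI (MvPolynomial.X 0 : MvPolynomial (Fin 3) R) (MvPolynomial.X 1)
    rw [map_add, map_add, map_add, map_add, map_one, map_one, map_one, map_one] at hcoc
    generalize MvPolynomial.aeval ![(MvPolynomial.X 0 : MvPolynomial (Fin 3) R),
      MvPolynomial.X 1 + MvPolynomial.X 2] F = a at *
    generalize MvPolynomial.aeval ![(MvPolynomial.X 1 : MvPolynomial (Fin 3) R), MvPolynomial.X 2] F = b at *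
    generalize MvPolynomial.aeval ![(MvPolynomial.X 0 + MvPolynomial.X 1 : MvPolynomial (Fin 3) R),
      MvPolynomial.X 2] F = c at *
    generalize MvPolynomial.aeval ![(MvPolynomial.X 0 : MvPolynomial (Fin 3) R), MvPolynomial.X 1] F = d at *
    have key : a + b - c - d = c * d - b * a := by linear_combination hcoc
    rw [key, IP, pow_two, Ideal.map_mul]
    exact Ideal.sub_mem _ (Ideal.mul_mem_mul m3 m4) (Ideal.mul_mem_mul m2 m1)
  have hsymm' : MvPolynomial.aeval ![(MvPolynomial.X 1 : MvPolynomial (Fin 2) (R ⧸ I ^ 2)), MvPolynomial.X 0]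
      (MvPolynomial.map π F) = MvPolynomial.map π F := by
    have e1 := map_aeval π (MvPolynomial.X 1 : MvPolynomial (Fin 2) R) (MvPolynomial.X 0) F
    simp only [MvPolynomial.map_X] at e1
    rw [← e1, hsymm]
  obtain ⟨G', N, r', hform, hJ⟩ := exists_form (p := p) (MvPolynomial.map π F) hsymm' hcoc'
  obtain ⟨hG'J, hr'J⟩ := hJ (I.map π) (by
    intro m
    rw [MvPolynomial.coeff_map]
    exact Ideal.mem_map_of_mem _ (MvPolynomial.mem_map_C_iff.1 hFI m))
  -- lifts
  have hsurj : Function.Surjective π := Ideal.Quotient.mk_surjective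
  have hlift : ∀ x ∈ I.map π, ∃ y ∈ I, π y = x := fun x hx => (Ideal.mem_map_iff_of_surjective π hsurj).1 hx
  choose r hrI hr using fun i => hlift _ (hr'J i)
  choose g hgI hg using fun i => hlift _ (hG'J i)
  set G : Polynomial R := ∑ i ∈ Finset.range (G'.natDegree + 1), Polynomial.monomial i (g i) with hG
  have hGc : ∀ n, G.coeff n ∈ I := by
    intro n
    rw [hG, Polynomial.finsetSum_coeff]
    refine Ideal.sum_mem _ fun i _ => ?_
    rw [Polynomial.coeff_monomial]
    split_ifs
    · exact hgI _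
    · exact I.zero_mem
  have hGm : G.map π = G' := by
    rw [hG, Polynomial.map_sum]
    conv_rhs => rw [Polynomial.as_sum_range G']
    refine Finset.sum_congr rfl fun i _ => ?_
    rw [Polynomial.map_monomial, hg]
  have hFform : F - form p G N r ∈ IP (Fin 2) (I ^ 2) := by
    apply hmem
    rw [map_sub, map_form, hGm, sub_eq_zero]
    rw [hform]
    simp only [hr]
    rfl
  -- p-th roots
  choose s hs using fun i => hF (r i)
  simp only [frobenius_def] at hs
  have hsnil : ∀ i, IsNilpotent (s i) := by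
    intro i
    have := hnil _ (hrI i)
    rw [← hs i] at this
    exact (IsNilpotent.pow_iff_pos hp.out.ne_zero).1 this
  choose u hu huC using fun i => exists_AH (p := p) (I := I) (s := s i) (by rw [hs i]; exact hrI i) (hsnil i) i
  refine ⟨(1 + G) * ∏ i ∈ Finset.range N, u i, ?_, ?_⟩
  · refine IsUnit.mul ?_ (IsUnit.prod_iff.2 fun i _ => hu i)
    have : IsNilpotent G := Polynomial.isNilpotent_iff.2 fun i => hnil _ (hGc i)
    exact this.isUnit_one_add
  · have h1 := Cob.oneAdd hGc
    have hSI : ∀ i, MvPolynomial.C (s i ^ p) *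
                MvPolynomial.aeval ![(MvPolynomial.X 0 : MvPolynomial (Fin 2) R) ^ p ^ i, MvPolynomial.X 1 ^ p ^ i]
                  (S p R) ∈ IP (Fin 2) I := by
      intro i
      rw [hs i]
      exact Ideal.mul_mem_right _ _ (Ideal.mem_map_of_mem _ (hrI i))
    have h2 := Cob.prod (N := N) huC hSI
    have h3 := h1.mul h2 (Ideal.sub_mem _ (Ideal.sub_mem _ (paeval_mem_IP hGc _) (paeval_mem_IP hGc _))
      (paeval_mem_IP hGc _)) (Ideal.sum_mem _ fun i _ => hSI i)
    have h4 : (Polynomial.aeval (MvPolynomial.X 0 + MvPolynomial.X 1 : MvPolynomial (Fin 2) R) G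
              - Polynomial.aeval (MvPolynomial.X 0 : MvPolynomial (Fin 2) R) G
              - Polynomial.aeval (MvPolynomial.X 1 : MvPolynomial (Fin 2) R) G) +
        ∑ i ∈ Finset.range N, MvPolynomial.C (s i ^ p) *
                MvPolynomial.aeval ![(MvPolynomial.X 0 : MvPolynomial (Fin 2) R) ^ p ^ i, MvPolynomial.X 1 ^ p ^ i]
                  (S p R) = form p G N r := by
      simp only [hs]
      rfl
    rw [h4] at h3
    rw [Cob] at h3 ⊢
    have h5 : ∀ A B : MvPolynomial (Fin 2) R, A - B * (1 + F) = (A - B * (1 + form p G N r)) -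
        B * (F - form p G N r) := by
      intro A B
      ring
    rw [h5]
    exact Ideal.sub_mem _ h3 (Ideal.mul_mem_left _ _ hFform)

/-- Multiplicative symmetric cocycles congruent to `1` modulo a nilpotent ideal are coboundaries. -/
theorem exists_split [CharP R p] (hF : Function.Surjective (frobenius R p)) (n : ℕ) :
    ∀ (I : Ideal R), I ^ 2 ^ n = ⊥ → ∀ (h : MvPolynomial (Fin 2) R), h - 1 ∈ IP (Fin 2) I →
    MvPolynomial.aeval ![(MvPolynomial.X 1 : MvPolynomial (Fin 2) R), MvPolynomial.X 0] h = h →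
    MvPolynomial.aeval ![(MvPolynomial.X 1 : MvPolynomial (Fin 3) R), MvPolynomial.X 2] h *
        MvPolynomial.aeval ![MvPolynomial.X 0, MvPolynomial.X 1 + MvPolynomial.X 2] h =
      MvPolynomial.aeval ![MvPolynomial.X 0 + MvPolynomial.X 1, MvPolynomial.X 2] h *
        MvPolynomial.aeval ![MvPolynomial.X 0, MvPolynomial.X 1] h →
    ∃ f : Polynomial R, IsUnit f ∧
      Polynomial.aeval (MvPolynomial.X 0 + MvPolynomial.X 1 : MvPolynomial (Fin 2) R) f =
        Polynomial.aeval (MvPolynomial.X 0 : MvPolynomial (Fin 2) R) f *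
          Polynomial.aeval (MvPolynomial.X 1 : MvPolynomial (Fin 2) R) f * h := by
  induction n with
  | zero =>
    intro I hI h hh _ _
    rw [pow_zero, pow_one] at hI
    rw [hI, IP, Ideal.map_bot, Ideal.mem_bot, sub_eq_zero] at hh
    refine ⟨1, isUnit_one, ?_⟩
    rw [hh]
    simp
  | succ n ih =>
    intro I hI h hh hsymm hcoc
    have hFh : h = 1 + (h - 1) := by ring
    obtain ⟨U, hU, hUC⟩ := exists_U (p := p) hF (I := I) ⟨_, hI⟩ (h - 1) hh (by
      rw [map_sub, map_one, hsymm]) (by rw [← hFh]; exact hcoc)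
    obtain ⟨V, hV⟩ := hU.exists_right_inv
    set h' : MvPolynomial (Fin 2) R := h * (Polynomial.aeval (MvPolynomial.X 0 : MvPolynomial (Fin 2) R) U *
          Polynomial.aeval (MvPolynomial.X 1 : MvPolynomial (Fin 2) R) U *
            Polynomial.aeval (MvPolynomial.X 0 + MvPolynomial.X 1 : MvPolynomial (Fin 2) R) V) with hh'
    have hev : ∀ {σ : Type} (a b : MvPolynomial σ R), MvPolynomial.aeval ![a, b] h' =
        MvPolynomial.aeval ![a, b] h * (Polynomial.aeval a U * Polynomial.aeval b U * Polynomial.aeval (a + b) V) := by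
      intro σ a b
      rw [hh', map_mul, map_mul, map_mul, ← Polynomial.aeval_algHom_apply, ← Polynomial.aeval_algHom_apply,
        ← Polynomial.aeval_algHom_apply, map_add, MvPolynomial.aeval_X, MvPolynomial.aeval_X]
      rfl
    have hUV : ∀ {σ : Type} (a : MvPolynomial σ R), Polynomial.aeval a U * Polynomial.aeval a V = 1 := by
      intro σ a
      rw [← map_mul, hV, map_one]
    obtain ⟨f, hf, hfh⟩ := ih (I ^ 2) (by rw [← pow_mul, ← pow_succ']; exact hI) h' (by
        rw [Cob, ← hFh] at hUC
        have h1 : h' - 1 = -(Polynomial.aeval (MvPolynomial.X 0 + MvPolynomial.X 1 : MvPolynomial (Fin 2) R) V *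
          (Polynomial.aeval (MvPolynomial.X 0 + MvPolynomial.X 1 : MvPolynomial (Fin 2) R) U -
            Polynomial.aeval (MvPolynomial.X 0 : MvPolynomial (Fin 2) R) U *
              Polynomial.aeval (MvPolynomial.X 1 : MvPolynomial (Fin 2) R) U * h)) := by
          have h2 := hUV (MvPolynomial.X 0 + MvPolynomial.X 1 : MvPolynomial (Fin 2) R)
          rw [hh']
          linear_combination h2
        rw [h1]
        exact neg_mem (Ideal.mul_mem_left _ _ hUC))
      (by
        rw [hev, hsymm, hh', add_comm (MvPolynomial.X 1 : MvPolynomial (Fin 2) R)]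
        ring)
      (by
        rw [hev, hev, hev, hev]
        generalize (MvPolynomial.X 0 : MvPolynomial (Fin 3) R) = x at *
        generalize (MvPolynomial.X 1 : MvPolynomial (Fin 3) R) = y at *
        generalize (MvPolynomial.X 2 : MvPolynomial (Fin 3) R) = z at *
        have e1 := hUV (y + z)
        have e2 := hUV (x + y)
        rw [add_assoc x y z]
        generalize MvPolynomial.aeval ![y, z] h = A at *
        generalize MvPolynomial.aeval ![x, y + z] h = B at *
        generalize MvPolynomial.aeval ![x + y, z] h = C at *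
        generalize MvPolynomial.aeval ![x, y] h = D at *
        generalize Polynomial.aeval x U = ux at *
        generalize Polynomial.aeval y U = uy at *
        generalize Polynomial.aeval z U = uz at *
        generalize Polynomial.aeval (x + (y + z)) V = v at *
        generalize Polynomial.aeval (y + z) U = uyz at *
        generalize Polynomial.aeval (y + z) V = vyz at *
        generalize Polynomial.aeval (x + y) U = uxy at *
        generalize Polynomial.aeval (x + y) V = vxy at *
        linear_combination (ux * uy * uz * v) * hcoc + (A * B * ux * uy * uz * v) * e1 -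
          (C * D * ux * uy * uz * v) * e2)
    refine ⟨f * U, hf.mul hU, ?_⟩
    have e1 := hUV (MvPolynomial.X 0 + MvPolynomial.X 1 : MvPolynomial (Fin 2) R)
    rw [map_mul, map_mul, map_mul, hfh, hh']
    linear_combination (Polynomial.aeval (MvPolynomial.X 0 : MvPolynomial (Fin 2) R) f *
          Polynomial.aeval (MvPolynomial.X 1 : MvPolynomial (Fin 2) R) f * h *
          Polynomial.aeval (MvPolynomial.X 0 : MvPolynomial (Fin 2) R) U *
          Polynomial.aeval (MvPolynomial.X 1 : MvPolynomial (Fin 2) R) U) * e1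

end K770.Split
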