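import Groth.Agent.GaDual.K770.FrobLift
import Groth.Agent.GaDual.K772.GaCoc
import Groth.Agent.GaDual.K771.PicExt
import Groth.Agent.S13380

/-!
# `Ext^1(G_a, G_m) = 0` over a ring of characteristic `p` with surjective Frobenius
-/

set_option autoImplicit false
universe u
open CategoryTheory CategoryTheory.Limits AlgebraicGeometry Opposite

noncomputable section

namespace K770.ExtGa

open Groth.Agent.Etdl.H432.Sec K771.Pts K772.Lift K772.GaCoc K771 K771.PicExt K771.RedExt
open Groth.Agent.Etdl.H494.Sp hiding ev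

variable (p : ℕ) [hp : Fact p.Prime] {R : Type u} [CommRing R] [CharP R p]

/-- The absolute Frobenius of the spectrum of a ring. -/
theorem frob_spec (A : Type u) [CommRing A] [CharP A p] :
    FrobSch.frob (Spec (CommRingCat.of A)) p = Spec.map (CommRingCat.ofHom (frobenius A p)) := by
  refine ext_of_isAffine ?_
  refine CommRingCat.hom_ext (RingHom.ext fun s => ?_)
  obtain ⟨a, rfl⟩ : ∃ a, (Scheme.ΓSpecIso (CommRingCat.of A)).inv.hom a = s :=
    ⟨(Scheme.ΓSpecIso (CommRingCat.of A)).hom.hom s, by simp⟩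
  have h2 := congrArg (fun t => CommRingCat.Hom.hom t a)
    (Scheme.ΓSpecIso_inv_naturality (CommRingCat.ofHom (frobenius A p)))
  refine (FrobSch.frob_appTop _ p _).trans (Eq.trans ?_ h2)
  change _ = (Scheme.ΓSpecIso (CommRingCat.of A)).inv.hom (frobenius A p a)
  rw [frobenius_def, map_pow]

variable (hF : Function.Surjective (frobenius R p))

/-- `∑ a_i x^i ↦ ∑ a_i^p x^i`. -/
abbrev Φ (R : Type u) [CommRing R] [CharP R p] : Polynomial R →+* Polynomial R := Polynomial.mapRingHom (frobenius R p)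

include hF in
theorem Φ_surjective : Function.Surjective (Φ p R) := Polynomial.map_surjective _ hF

/-- The kernel of `Φ`. -/
abbrev 𝔫 (R : Type u) [CommRing R] [CharP R p] : Ideal (Polynomial R) := RingHom.ker (Φ p R)

theorem nil : 𝔫 p R ≤ nilradical (Polynomial R) := by
  intro f hf
  rw [mem_nilradical]
  rw [Polynomial.isNilpotent_iff]
  intro i
  refine ⟨p, ?_⟩
  have h1 := congrArg (fun g => Polynomial.coeff g i) ((RingHom.mem_ker).1 hf)
  simpa [frobenius_def] using h1

/-- The quotient. -/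
def θ : Polynomial R ⧸ 𝔫 p R ≃+* Polynomial R := RingHom.quotientKerEquivOfSurjective (Φ_surjective p hF)

theorem θ_mk (b : Polynomial R) : θ p hF (Ideal.Quotient.mk _ b) = Φ p R b := rfl

theorem θ_symm (b : Polynomial R) : (θ p hF).symm (Φ p R b) = Ideal.Quotient.mk _ b := by
  rw [← θ_mk p hF, RingEquiv.symm_apply_apply]

include hF in
/-- Map to the twisted line. -/
theorem exists_k : ∃ k : sp (Spec.map (CommRingCat.ofHom (algebraMap R (Polynomial R)))) (Polynomial R ⧸ 𝔫 p R) ⟶
    Frob.tw p (sp (g0 R) (Polynomial R)), ∀ b : Polynomial R,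
      ro k (Frob.tf p (toO (g0 R) _ (Φ p R b))) = toO _ _ (Ideal.Quotient.mk _ b) := by
  have hw : Spec.map (CommRingCat.ofHom ((θ p hF).symm : Polynomial R →+* Polynomial R ⧸ 𝔫 p R)) ≫
      (Spec.map (CommRingCat.ofHom (algebraMap R (Polynomial R))) ≫ 𝟙 _) ≫ FrobSch.frob (Spec (CommRingCat.of R)) p =
      Spec.map (CommRingCat.ofHom (algebraMap (Polynomial R) (Polynomial R ⧸ 𝔫 p R))) ≫
        Spec.map (CommRingCat.ofHom (algebraMap R (Polynomial R))) := by
    rw [Category.comp_id, frob_spec, ← Spec.map_comp, ← Spec.map_comp, ← Spec.map_comp]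
    congr 1
    ext a
    change (θ p hF).symm (Polynomial.C (frobenius R p a)) = Ideal.Quotient.mk _ (Polynomial.C a)
    rw [← θ_symm p hF]
    congr 1
    exact (Polynomial.map_C _).symm
  refine ⟨Over.homMk (Spec.map (CommRingCat.ofHom ((θ p hF).symm : Polynomial R →+* Polynomial R ⧸ 𝔫 p R))) hw,
    fun b => ?_⟩
  have h2 := congrArg (fun t => CommRingCat.Hom.hom t (Φ p R b))
    (Scheme.ΓSpecIso_inv_naturality (CommRingCat.ofHom ((θ p hF).symm : Polynomial R →+* Polynomial R ⧸ 𝔫 p R)))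
  refine Eq.trans h2.symm ?_
  change (Scheme.ΓSpecIso (CommRingCat.of (Polynomial R ⧸ 𝔫 p R))).inv.hom ((θ p hF).symm (Φ p R b)) = _
  rw [θ_symm]
  rfl

/-- The affine line as an object over itself. -/
theorem exists_j : ∃ j : sp (g0 R) (Polynomial R) ⟶ sp (Spec.map (CommRingCat.ofHom (algebraMap R (Polynomial R))))
    (Polynomial R), ∀ b, ro j (toO _ _ b) = toO (g0 R) _ b := by
  have hid : CommRingCat.ofHom (algebraMap (Polynomial R) (Polynomial R)) = 𝟙 _ := rfl
  refine ⟨Over.homMk (𝟙 _) ?_, fun b => ?_⟩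
  · change 𝟙 _ ≫ Spec.map (CommRingCat.ofHom (algebraMap (Polynomial R) (Polynomial R))) ≫
      Spec.map (CommRingCat.ofHom (algebraMap R (Polynomial R))) = Spec.map _ ≫ 𝟙 _
    rw [hid, Spec.map_id, Category.id_comp, Category.id_comp, Category.comp_id]
  · change (𝟙 (Spec (CommRingCat.of (Polynomial R)))  : _ ⟶ _).appTop.hom _ = _
    simp
    rfl

section main

variable {E Q : EtFppf.AbF (Spec (CommRingCat.of R))} {α : Gm (Spec (CommRingCat.of R)) ⟶ E} {β : E ⟶ Q}
  {w : α ≫ β = 0} (hS : (ShortComplex.mk α β w).ShortExact) (f : Ga (Spec (CommRingCat.of R)) ⟶ Q)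

include hF hS in
/-- The universal value lifts. -/
theorem exists_t : ∃ t : Γs E (sp (g0 R) (Polynomial R)), m β _ t = m f _ (xu R) := by
  have hβ : Epi β := hS.epi_g
  have haff : IsAffine (sp (g0 R) (Polynomial R)).left := inferInstanceAs (IsAffine (Spec (CommRingCat.of (Polynomial R))))
  obtain ⟨e, he⟩ := Frob.exists_lift_tw p α β f (fun U => m_injective hS) (fun U e he => exists_m hS e he)
    (fun U c => m_m c w) (sp (g0 R) (Polynomial R)) (toO (g0 R) _ Polynomial.X)
  obtain ⟨k, hk⟩ := exists_k p hF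
  let q : Γs Q (sp (Spec.map (CommRingCat.ofHom (algebraMap R (Polynomial R)))) (Polynomial R)) :=
    m f _ (gas (toO _ _ Polynomial.X))
  obtain ⟨t, ht, -⟩ := exists_lift_of_nil (Spec.map (CommRingCat.ofHom (algebraMap R (Polynomial R)))) hS
    (𝔫 p R) (nil p) q (r E k e) (by
      have h1 : ro k (Frob.tf p (toO (g0 R) _ Polynomial.X)) = toO _ _ (Ideal.Quotient.mk _ Polynomial.X) := by
        have := hk Polynomial.X
        rwa [Φ, Polynomial.coe_mapRingHom, Polynomial.map_X] at this
      have h2 : ro (spMap (Spec.map (CommRingCat.ofHom (algebraMap R (Polynomial R)))) (Ideal.Quotient.mkₐ (Polynomial R) (𝔫 p R)))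
          (toO _ _ Polynomial.X) = toO _ _ (Ideal.Quotient.mk _ Polynomial.X) := by
        have h := ev_spMap (Spec.map (CommRingCat.ofHom (algebraMap R (Polynomial R)))) (𝟙 _)
          (Ideal.Quotient.mkₐ (Polynomial R) (𝔫 p R)) Polynomial.X
        rw [Category.id_comp, ev_apply, ev_apply, ro_id] at h
        exact h
      rw [m_r, he, ← m_r, r_gas, h1, ← m_r, r_gas, h2])
  obtain ⟨j, hj⟩ := exists_j (R := R)
  refine ⟨r E j t, ?_⟩
  rw [m_r, ht, ← m_r, r_gas, hj]
  rfl

include hF hS in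
theorem exists_lift : ∃ ψ : Ga (Spec (CommRingCat.of R)) ⟶ E, ψ ≫ β = f := by
  obtain ⟨t, ht⟩ := exists_t p hF hS f
  obtain ⟨h, hu, h0, hsymm, hcoc, hlift⟩ := exists_coc hS f t ht
  obtain ⟨v, hv, hv'⟩ := Groth.Agent.S13380.result p R hF h hu h0 hsymm hcoc
  let T : Over (Spec (CommRingCat.of R)) := Over.mk (𝟙 _)
  obtain ⟨e, he⟩ := hlift T (v.map (str T)) (hv.map (Polynomial.mapRingHom (str T))) (by
    have key : ∀ a : MvPolynomial (Fin 2) R, Polynomial.aeval (MvPolynomial.map (str T) a) (v.map (str T)) =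
        MvPolynomial.map (str T) (Polynomial.aeval a v) := by
      intro a
      rw [Polynomial.aeval_def, Polynomial.aeval_def, Polynomial.eval₂_map, Polynomial.hom_eval₂]
      congr 1
      ext b
      simp
    have h1 := congrArg (MvPolynomial.map (str T)) hv'
    rw [map_mul, map_mul, ← key, ← key, ← key, map_add, MvPolynomial.map_X, MvPolynomial.map_X] at h1
    exact h1)
  have hs : ∀ (W W' : Over (Spec (CommRingCat.of R))) (k : W' ⟶ W),
      k ≫ Over.mkIdTerminal.from W = Over.mkIdTerminal.from W' := fun W W' k => Over.mkIdTerminal.hom_ext _ _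
  refine ⟨mkH (fun W => HomEv.ev e (Over.mkIdTerminal.from W)) (fun W W' k y => ?_), ?_⟩
  · rw [HomEv.ev_r', hs]
  · refine hom_ext_m fun W y => ?_
    rw [m_comp, m_mkH, he]

end main

include hF in
theorem main : Subsingleton (Abelian.Ext (Ga (Spec (CommRingCat.of R))) (Gm (Spec (CommRingCat.of R))) 1) := by
  have hS := injSeq_shortExact (Gm (Spec (CommRingCat.of R)))
  exact ext_one_of_lift hS (Ga (Spec (CommRingCat.of R))) fun f => exists_lift p hF hS f

end K770.ExtGa
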