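import Groth.Agent.GaDual.K770.Cocycle
import Mathlib.RingTheory.MvPolynomial.Basic

/-!
# Evaluation of normal forms of symmetric 2-cocycles
-/

set_option autoImplicit false
universe u

namespace K770.Form

open K770.Coeff K770.Cocycle

variable {p : ℕ} [hp : Fact p.Prime] {R : Type u} [CommRing R]

/-- `G(X+Y) - G(X) - G(Y) + Σ_{i<N} r_i S(X^(p^i), Y^(p^i))`. -/
noncomputable def form (p : ℕ) (G : Polynomial R) (N : ℕ) (r : ℕ → R) : MvPolynomial (Fin 2) R :=
  Polynomial.aeval (MvPolynomial.X 0 + MvPolynomial.X 1 : MvPolynomial (Fin 2) R) G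
              - Polynomial.aeval (MvPolynomial.X 0 : MvPolynomial (Fin 2) R) G
              - Polynomial.aeval (MvPolynomial.X 1 : MvPolynomial (Fin 2) R) G
            + ∑ i ∈ Finset.range N, MvPolynomial.C (r i) *
                MvPolynomial.aeval ![(MvPolynomial.X 0 : MvPolynomial (Fin 2) R) ^ p ^ i, MvPolynomial.X 1 ^ p ^ i]
                  (S p R)

omit hp in
theorem aeval_form {B : Type*} [CommRing B] [Algebra R B] (G : Polynomial R) (N : ℕ) (r : ℕ → R) (x y : B) :
    MvPolynomial.aeval ![x, y] (form p G N r) = Polynomial.aeval (x + y) G - Polynomial.aeval x G -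
      Polynomial.aeval y G + ∑ i ∈ Finset.range N, algebraMap R B (r i) *
        MvPolynomial.aeval ![x ^ p ^ i, y ^ p ^ i] (S p R) := by
  rw [form, map_add, map_sub, map_sub, ← Polynomial.aeval_algHom_apply, ← Polynomial.aeval_algHom_apply,
    ← Polynomial.aeval_algHom_apply, map_sum, map_add, MvPolynomial.aeval_X, MvPolynomial.aeval_X]
  congr 1
  refine Finset.sum_congr rfl fun i _ => ?_
  rw [map_mul, MvPolynomial.aeval_C, map_aeval2, map_pow, map_pow, MvPolynomial.aeval_X, MvPolynomial.aeval_X]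
  rfl

theorem form_symm (G : Polynomial R) (N : ℕ) (r : ℕ → R) :
    MvPolynomial.aeval ![(MvPolynomial.X 1 : MvPolynomial (Fin 2) R), MvPolynomial.X 0] (form p G N r) =
      form p G N r := by
  have h1 : ∀ i : ℕ, algebraMap R (MvPolynomial (Fin 2) R) (r i) *
      MvPolynomial.aeval ![(MvPolynomial.X 1 : MvPolynomial (Fin 2) R) ^ p ^ i, MvPolynomial.X 0 ^ p ^ i] (S p R) =
      MvPolynomial.C (r i) *
      MvPolynomial.aeval ![(MvPolynomial.X 0 : MvPolynomial (Fin 2) R) ^ p ^ i, MvPolynomial.X 1 ^ p ^ i]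
        (S p R) := by
    intro i
    rw [eval_symm]
    rfl
  rw [aeval_form, form, add_comm (MvPolynomial.X 1 : MvPolynomial (Fin 2) R), Finset.sum_congr rfl (fun i _ => h1 i),
    sub_right_comm]

theorem form_coc [CharP R p] (G : Polynomial R) (N : ℕ) (r : ℕ → R) :
    MvPolynomial.aeval ![MvPolynomial.X 0, MvPolynomial.X 1 + MvPolynomial.X 2] (form p G N r)
          + MvPolynomial.aeval ![MvPolynomial.X 1, MvPolynomial.X 2] (form p G N r)
          - MvPolynomial.aeval ![MvPolynomial.X 0 + MvPolynomial.X 1, MvPolynomial.X 2] (form p G N r)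
          - MvPolynomial.aeval ![MvPolynomial.X 0, MvPolynomial.X 1] (form p G N r) =
            (0 : MvPolynomial (Fin 3) R) := by
  rw [aeval_form, aeval_form, aeval_form, aeval_form]
  generalize (MvPolynomial.X 0 : MvPolynomial (Fin 3) R) = x
  generalize (MvPolynomial.X 1 : MvPolynomial (Fin 3) R) = y
  generalize (MvPolynomial.X 2 : MvPolynomial (Fin 3) R) = z
  rw [add_assoc x y z]
  have h1 : ∑ i ∈ Finset.range N, algebraMap R (MvPolynomial (Fin 3) R) (r i) *
        MvPolynomial.aeval ![x ^ p ^ i, (y + z) ^ p ^ i] (S p R) +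
      ∑ i ∈ Finset.range N, algebraMap R (MvPolynomial (Fin 3) R) (r i) *
        MvPolynomial.aeval ![y ^ p ^ i, z ^ p ^ i] (S p R) -
      ∑ i ∈ Finset.range N, algebraMap R (MvPolynomial (Fin 3) R) (r i) *
        MvPolynomial.aeval ![(x + y) ^ p ^ i, z ^ p ^ i] (S p R) -
      ∑ i ∈ Finset.range N, algebraMap R (MvPolynomial (Fin 3) R) (r i) *
        MvPolynomial.aeval ![x ^ p ^ i, y ^ p ^ i] (S p R) = 0 := by
    rw [← Finset.sum_add_distrib, ← Finset.sum_sub_distrib, ← Finset.sum_sub_distrib]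
    refine Finset.sum_eq_zero fun i _ => ?_
    rw [← mul_add, ← mul_sub, ← mul_sub, add_pow_char_pow (p := p), add_pow_char_pow (p := p), eval_coc, mul_zero]
  linear_combination h1

end K770.Form
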