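import Groth.Prelude.Def_Frob
import Groth.Agent.GaDual.K771.Pts
import Groth.Agent.GaDual.K771.AffLocal

/-!
# Frobenius twists and extensions of `G_a` by `G_m`

`X` a scheme of characteristic `p`. For `T` over `X`, `tw p T` is `T` with structure morphism composed with the
absolute Frobenius of `X`, and `F p T : tw p T ⟶ T` is the absolute Frobenius of `T`.

For `0 → G_m → I → Q → 0` exact (fppf sheaves over `X`) and `f : G_a → Q`, `exists_G` constructs a natural additive
function `G T : O T → I (tw p T)` with `β (G T x) = f (x ^ p)`.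
-/

set_option autoImplicit false
universe u
open CategoryTheory CategoryTheory.Limits AlgebraicGeometry Opposite

noncomputable section

namespace K770.Frob

open Groth.Agent.Etdl.H432.Sec K771.Pts

variable {X : Scheme.{u}} (p : ℕ) [Fact p.Prime] [FrobSch.IsCharP X p]

/-- Twisted structure morphism. -/
abbrev tw (T : Over X) : Over X := (Over.map (FrobSch.frob X p)).obj T

/-- Functoriality of the twist. -/
abbrev tm {V T : Over X} (g : V ⟶ T) : tw p V ⟶ tw p T := (Over.map (FrobSch.frob X p)).map g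

omit [Fact p.Prime] in
theorem isCharP (T : Over X) : FrobSch.IsCharP T.left p := FrobSch.IsCharP.of_hom T.hom p

/-- The absolute Frobenius of `T`, over `X`. -/
def F (T : Over X) : tw p T ⟶ T :=
  haveI := isCharP p T
  Over.homMk (FrobSch.frob T.left p) (FrobSch.frob_comp p T.hom)

theorem F_left (T : Over X) : (F p T).left = (haveI := isCharP p T; FrobSch.frob T.left p) := rfl

theorem tm_F {V T : Over X} (g : V ⟶ T) : tm p g ≫ F p T = F p V ≫ g := by
  have := isCharP p T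
  have := isCharP p V
  ext : 1
  exact (FrobSch.frob_comp p g.left).symm

/-- Functions on `T` as functions on `tw p T`. -/
def tf {T : Over X} : O T ≃+* O (tw p T) := RingEquiv.refl _

theorem ro_tm {V T : Over X} (g : V ⟶ T) (x : O T) : ro (tm p g) (tf p x) = tf p (ro g x) := rfl

theorem ro_F (T : Over X) (x : O T) : ro (F p T) x = tf p (x ^ p) := by
  have := isCharP p T
  exact FrobSch.frob_appTop T.left p x

/-- Invertible functions on `T` as invertible functions on `tw p T`. -/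
def cg {T : Over X} : Γs (Gm X) T →+ Γs (Gm X) (tw p T) where
  toFun γ := gms (((isUnit_gm γ).map (tf p)).unit)
  map_zero' := by
    apply gm_injective
    rw [gm_gms, IsUnit.unit_spec, gm_zero, gm_zero, map_one]
  map_add' γ γ' := by
    apply gm_injective
    rw [gm_gms, IsUnit.unit_spec, gm_add, gm_add, gm_gms, gm_gms, IsUnit.unit_spec, IsUnit.unit_spec, map_mul]

theorem gm_cg {T : Over X} (γ : Γs (Gm X) T) : gm (cg p γ) = tf p (gm γ) := by
  change gm (gms (((isUnit_gm γ).map (tf p)).unit)) = _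
  rw [gm_gms, IsUnit.unit_spec]

theorem r_cg {V T : Over X} (g : V ⟶ T) (γ : Γs (Gm X) T) : r (Gm X) (tm p g) (cg p γ) = cg p (r (Gm X) g γ) := by
  apply gm_injective
  rw [gm_r, gm_cg, gm_cg, ro_tm, gm_r]

theorem r_F_gm {T : Over X} (γ : Γs (Gm X) T) : r (Gm X) (F p T) γ = cg p (p • γ) := by
  apply gm_injective
  rw [gm_r, gm_cg, ro_F, gm_nsmul]

theorem r_F_r {H : EtFppf.AbF X} {V T : Over X} (g : V ⟶ T) (s : Γs H T) :
    r H (tm p g) (r H (F p T) s) = r H (F p V) (r H g s) := by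
  rw [r_r, r_r, tm_F]

/-- Twists and common objects. -/
theorem exists_tw {Z U V T : Over X} (h : U ⟶ T) (h' : V ⟶ T) (a : Z ⟶ tw p U) (b : Z ⟶ tw p V)
    (hab : a ≫ tm p h = b ≫ tm p h') : ∃ (Z' : Over X) (k : Z ≅ tw p Z') (a' : Z' ⟶ U) (b' : Z' ⟶ V),
      a = k.hom ≫ tm p a' ∧ b = k.hom ≫ tm p b' ∧ a' ≫ h = b' ≫ h' := by
  have hl : a.left ≫ h.left = b.left ≫ h'.left := congrArg (fun t => CommaMorphism.left t) hab
  have hb : b.left ≫ V.hom = a.left ≫ U.hom := by
    rw [← Over.w h, ← Over.w h', ← Category.assoc, ← Category.assoc, hl]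
  let Z' : Over X := Over.mk (a.left ≫ U.hom)
  have hZ : Z.hom = a.left ≫ U.hom ≫ FrobSch.frob X p := (Over.w a).symm
  let k : Z ≅ tw p Z' := Over.isoMk (Iso.refl _) (by
    change 𝟙 Z.left ≫ (a.left ≫ U.hom) ≫ FrobSch.frob X p = Z.hom
    rw [hZ, Category.id_comp, Category.assoc])
  refine ⟨Z', k, Over.homMk a.left rfl, Over.homMk b.left hb, ?_, ?_, ?_⟩
  · ext : 1
    exact (Category.id_comp _).symm
  · ext : 1
    exact (Category.id_comp _).symm
  · ext : 1
    exact hl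

/-- Local existence along a twist. -/
def LocTw {T : Over X} (P : ∀ (V : Over X) (_ : V ⟶ T), Prop) : Prop :=
  ∀ t : T.left, ∃ (V : Over X) (h : V ⟶ T), Flat h.left ∧ LocallyOfFinitePresentation h.left ∧
      t ∈ Set.range h.left ∧ P V h

theorem ext_tw (H : EtFppf.AbF X) {T : Over X} (s t : Γs H (tw p T))
    (h : LocTw (T := T) (fun _ g => r H (tm p g) s = r H (tm p g) t)) : s = t := by
  refine ext_local H s t fun x => ?_
  obtain ⟨V, g, h1, h2, h3, h4⟩ := h x
  exact ⟨tw p V, tm p g, h1, h2, h3, h4⟩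

theorem LocTw.and {T : Over X} {P P' : ∀ (V : Over X) (_ : V ⟶ T), Prop} (h : LocTw P) (h' : LocTw P')
    (hP : ∀ {V W : Over X} (k : W ⟶ V) (g : V ⟶ T), P V g → P W (k ≫ g))
    (hP' : ∀ {V W : Over X} (k : W ⟶ V) (g : V ⟶ T), P' V g → P' W (k ≫ g)) :
    LocTw (fun V g => P V g ∧ P' V g) := by
  intro t
  obtain ⟨V, g, h1, h2, ⟨v, hv⟩, h4⟩ := h t
  obtain ⟨V', g', h1', h2', ⟨v', hv'⟩, h4'⟩ := h' t
  obtain ⟨Z, a, b, hab, hpb, hy⟩ := exists_pb g g'
  obtain ⟨y, hy1, hy2⟩ := hy v v' (hv.trans hv'.symm)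
  have ha1 : Flat a.left := MorphismProperty.of_isPullback hpb.flip h1'
  have ha2 : LocallyOfFinitePresentation a.left := MorphismProperty.of_isPullback hpb.flip h2'
  refine ⟨Z, a ≫ g, ?_, ?_, ⟨y, ?_⟩, hP a g h4, ?_⟩
  · rw [Over.comp_left]
    exact MorphismProperty.comp_mem _ _ _ ha1 h1
  · rw [Over.comp_left]
    exact MorphismProperty.comp_mem _ _ _ ha2 h2
  · rw [Over.comp_left, Scheme.Hom.comp_apply, hy1, hv]
  · rw [hab]
    exact hP' b g' h4'

theorem glueTw (H : EtFppf.AbF X) (D : ∀ V : Over X, O V → Γs H (tw p V) → Prop)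
    (huniq : ∀ V x v v', D V x v → D V x v' → v = v')
    (hres : ∀ {V W : Over X} (h : W ⟶ V) x v, D V x v → D W (ro h x) (r H (tm p h) v))
    (hex : ∀ (T : Over X) (x : O T), LocTw (T := T) (fun V h => ∃ v, D V (ro h x) v)) :
    ∃ G : ∀ T : Over X, O T → Γs H (tw p T), (∀ V x v, D V x v → G V x = v) ∧
      (∀ {T V : Over X} (h : V ⟶ T) x, r H (tm p h) (G T x) = G V (ro h x)) ∧
      (∀ T x, LocTw (T := T) (fun V h => D V (ro h x) (G V (ro h x)))) := by
  have h1 : ∀ (T : Over X) (x : O T), ∃ g : Γs H (tw p T), LocTw (T := T) (fun V h => D V (ro h x) (r H (tm p h) g)) := by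
    intro T x
    choose V h hfl hfp hr v hv using hex T x
    have hc : IsCov (fun t => tm p (h t)) := fun t => ⟨t, hfl t, hfp t, hr t⟩
    obtain ⟨g, hg⟩ := glue H hc v (fun i j Z a b hab => by
      obtain ⟨Z', k, a', b', rfl, rfl, hab'⟩ := exists_tw p (h i) (h j) a b hab
      rw [← r_r, ← r_r]
      congr 1
      refine huniq Z' (ro (a' ≫ h i) x) _ _ ?_ ?_
      · rw [← ro_ro]
        exact hres a' _ _ (hv i)
      · rw [hab', ← ro_ro]
        exact hres b' _ _ (hv j))
    refine ⟨g, fun t => ⟨V t, h t, hfl t, hfp t, hr t, ?_⟩⟩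
    dsimp only
    rw [hg]
    exact hv t
  choose G hG using h1
  have hDres : ∀ {T : Over X} (x : O T) (g : Γs H (tw p T)) {V W : Over X} (k : W ⟶ V) (h : V ⟶ T),
      D V (ro h x) (r H (tm p h) g) → D W (ro (k ≫ h) x) (r H (tm p (k ≫ h)) g) := by
    intro T x g V W k h hD
    have h2 := hres k _ _ hD
    rw [ro_ro, r_r, ← Functor.map_comp] at h2
    exact h2
  have hD : ∀ V x v, D V x v → G V x = v := by
    intro T x v hv
    refine ext_tw p H _ _ fun t => ?_
    obtain ⟨V, h, h1, h2, h3, h4⟩ := hG T x t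
    exact ⟨V, h, h1, h2, h3, huniq _ _ _ _ h4 (hres h _ _ hv)⟩
  have hR : ∀ {T V : Over X} (h : V ⟶ T) x, r H (tm p h) (G T x) = G V (ro h x) := by
    intro T V h x
    refine ext_tw p H _ _ fun t => ?_
    obtain ⟨W, k, h1, h2, ⟨w, hw⟩, h4⟩ := hG V (ro h x) t
    obtain ⟨W', k', h1', h2', ⟨w', hw'⟩, h4'⟩ := hG T x (h.left t)
    obtain ⟨Z, a, b, hab, hpb, hy⟩ := exists_pb (k ≫ h) k'
    obtain ⟨y, hy1, hy2⟩ := hy w w' (by rw [Over.comp_left, Scheme.Hom.comp_apply, hw, hw'])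
    have ha1 : Flat a.left := MorphismProperty.of_isPullback hpb.flip h1'
    have ha2 : LocallyOfFinitePresentation a.left := MorphismProperty.of_isPullback hpb.flip h2'
    refine ⟨Z, a ≫ k, ?_, ?_, ⟨y, ?_⟩, ?_⟩
    · rw [Over.comp_left]
      exact MorphismProperty.comp_mem _ _ _ ha1 h1
    · rw [Over.comp_left]
      exact MorphismProperty.comp_mem _ _ _ ha2 h2
    · rw [Over.comp_left, Scheme.Hom.comp_apply, hy1, hw]
    · refine huniq Z (ro (a ≫ k ≫ h) x) _ _ ?_ ?_
      · rw [r_r, ← Functor.map_comp, Category.assoc, hab]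
        exact hDres x _ b k' h4'
      · rw [← Category.assoc, ← ro_ro]
        exact hDres (ro h x) _ a k h4
  refine ⟨G, hD, hR, fun T x t => ?_⟩
  obtain ⟨V, h, h1, h2, h3, h4⟩ := hG T x t
  refine ⟨V, h, h1, h2, h3, ?_⟩
  dsimp only
  rw [← hR]
  exact h4

section Ext

variable {I Q : EtFppf.AbF X} (α : Gm X ⟶ I) (β : I ⟶ Q) (f : Ga X ⟶ Q)
  (hinj : ∀ (U : Over X), Function.Injective (m α U))
  (hex : ∀ (U : Over X) (e : Γs I U), m β U e = 0 → ∃ c : Γs (Gm X) U, m α U c = e)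
  (hαβ : ∀ (U : Over X) (c : Γs (Gm X) U), m β U (m α U c) = 0)

/-- `v = F (e) - p e` for a lift `e` of `f x`. -/
def D (V : Over X) (x : O V) (v : Γs I (tw p V)) : Prop :=
  ∃ (e : Γs I V) (γ : Γs (Gm X) V), m β V e = m f V (gas x) ∧ m α V γ = p • e ∧
    v = r I (F p V) e - m α (tw p V) (cg p γ)

include hinj hex in
theorem D_unique (V : Over X) (x : O V) (v v' : Γs I (tw p V)) (h : D p α β f V x v) (h' : D p α β f V x v') :
    v = v' := by
  obtain ⟨e, γ, h1, h2, rfl⟩ := h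
  obtain ⟨e', γ', h1', h2', rfl⟩ := h'
  obtain ⟨c, hc⟩ := hex V (e - e') (by rw [map_sub, h1, h1', sub_self])
  have he : e = e' + m α V c := by rw [hc]; abel
  have hγ : γ = γ' + p • c := by
    apply hinj V
    rw [map_add, map_nsmul, h2, h2', he, nsmul_add]
  rw [he, hγ, map_add, map_add, map_add, ← m_r, r_F_gm]
  abel

theorem D_res {V W : Over X} (h : W ⟶ V) (x : O V) (v : Γs I (tw p V)) (hv : D p α β f V x v) :
    D p α β f W (ro h x) (r I (tm p h) v) := by
  obtain ⟨e, γ, h1, h2, rfl⟩ := hv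
  refine ⟨r I h e, r (Gm X) h γ, ?_, ?_, ?_⟩
  · rw [m_r, h1, ← m_r, r_gas]
  · rw [m_r, h2, map_nsmul]
  · rw [map_sub, r_F_r, ← m_r, r_cg]

theorem D_add {V : Over X} (x y : O V) (v w : Γs I (tw p V)) (hv : D p α β f V x v) (hw : D p α β f V y w) :
    D p α β f V (x + y) (v + w) := by
  obtain ⟨e, γ, h1, h2, rfl⟩ := hv
  obtain ⟨e', γ', h1', h2', rfl⟩ := hw
  refine ⟨e + e', γ + γ', ?_, ?_, ?_⟩
  · rw [map_add, h1, h1', gas_add, map_add]
  · rw [map_add, h2, h2', nsmul_add]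
  · rw [map_add, map_add, map_add]
    abel

include hαβ in
theorem D_beta {V : Over X} (x : O V) (v : Γs I (tw p V)) (hv : D p α β f V x v) :
    m β (tw p V) v = m f (tw p V) (gas (tf p (x ^ p))) := by
  obtain ⟨e, γ, h1, h2, rfl⟩ := hv
  rw [map_sub, hαβ, sub_zero, m_r, h1, ← m_r, r_gas, ro_F]

include hex in
theorem D_exists [Epi β] (T : Over X) (x : O T) : LocTw (T := T) (fun V h => ∃ v, D p α β f V (ro h x) v) := by
  intro t
  obtain ⟨V, h, e, h1, h2, h3, h4⟩ := exists_lift β (m f T (gas x)) t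
  refine ⟨V, h, h1, h2, h3, ?_⟩
  have h5 : m β V (p • e) = 0 := by
    rw [map_nsmul, h4, ← m_r, ← map_nsmul, r_gas]
    have h6 : p • gas (ro h x) = (0 : Γs (Ga X) V) := by
      apply ga_injective
      have hp : (p : O V) = 0 := (isCharP p V).natCast_eq_zero
      have h7 : ∀ n : ℕ, ga (n • gas (ro h x)) = (n : O V) * ro h x := by
        intro n
        induction n with
        | zero => rw [zero_smul, ga_zero, Nat.cast_zero, zero_mul]
        | succ n ih => rw [succ_nsmul, ga_add, ih, ga_gas, Nat.cast_succ, add_mul, one_mul]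
      rw [h7, hp, zero_mul, ga_zero]
    rw [h6, map_zero]
  obtain ⟨γ, hγ⟩ := hex V _ h5
  exact ⟨_, e, γ, by rw [h4, ← m_r, r_gas], hγ, rfl⟩

include hinj hex hαβ in
/-- The descended relative Frobenius of the extension. -/
theorem exists_G [Epi β] : ∃ G : ∀ T : Over X, O T → Γs I (tw p T),
    (∀ T x y, G T (x + y) = G T x + G T y) ∧
    (∀ {T V : Over X} (h : V ⟶ T) x, r I (tm p h) (G T x) = G V (ro h x)) ∧
    (∀ T x, m β (tw p T) (G T x) = m f (tw p T) (gas (tf p (x ^ p)))) := by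
  obtain ⟨G, hG1, hG2, hG3⟩ := glueTw p I (D p α β f) (D_unique p α β f hinj hex)
    (fun h x v => D_res p α β f h x v) (D_exists p α β f hex)
  refine ⟨G, fun T x y => ?_, hG2, fun T x => ?_⟩
  · refine ext_tw p I _ _ fun t => ?_
    have h1 := (hG3 T x).and (hG3 T y) (fun {V W} k g hD => by
        have := D_res p α β f k _ _ hD
        rwa [ro_ro, hG2, ro_ro] at this)
      (fun {V W} k g hD => by
        have := D_res p α β f k _ _ hD
        rwa [ro_ro, hG2, ro_ro] at this)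
    obtain ⟨V, h, h2, h3, h4, h5, h6⟩ := h1 t
    refine ⟨V, h, h2, h3, h4, ?_⟩
    dsimp only
    rw [map_add, hG2, hG2, hG2, map_add]
    exact hG1 _ _ _ (D_add p α β f _ _ _ _ h5 h6)
  · refine ext_tw p Q _ _ fun t => ?_
    obtain ⟨V, h, h2, h3, h4, h5⟩ := hG3 T x t
    refine ⟨V, h, h2, h3, h4, ?_⟩
    dsimp only
    rw [← m_r, ← m_r, hG2, D_beta p α β f hαβ _ _ h5, r_gas, ro_tm, map_pow, map_pow, map_pow]

end Ext

end K770.Frob
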