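import Groth.Agent.GaDual.K770.Frob
import Groth.Agent.GaDual.K771.HomEv
import Groth.Agent.GaDual.K674.HTwo
import Groth.Agent.TateGlob.K828.BigCoh
import Groth.Agent.TateGlob.K828.Inj

/-!
# The absolute Frobenius kills the cohomology of the dual of `G_a`

`X` a scheme of characteristic `p`, `tw p T` the twist of `T` over `X` (structure morphism composed with the absolute
Frobenius of `X`), `F p T : tw p T ⟶ T` the absolute Frobenius of `T`.

* `r_F_gad`: restriction along `F p T` kills the sections of the dual of `G_a` (the Frobenius twist of a character of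
  `G_a` is trivial: its value at `y ^ p` is the `p`-th power of the value at `y`).
* `res_F`: if restriction along all `F p T` kills the sections of a sheaf `G`, it kills the cohomology of `G` in every
  degree, for every cohomology theory.
* `res_F_gad`, `res_V_gad`: in particular for the dual of `G_a`.
-/

set_option autoImplicit false
universe u
open CategoryTheory CategoryTheory.Limits AlgebraicGeometry Opposite

noncomputable section

namespace K770.FrobKill

open Groth.Agent.Etdl.H432.Sec K771.Pts K771.HomEv K770.Frob K828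

variable {X : Scheme.{u}} (p : ℕ) [hp : Fact p.Prime] [FrobSch.IsCharP X p]

/-! ### Sections -/

omit hp in
theorem nsmul_ga {W : Over X} (y : Γs (Ga X) W) : p • y = 0 := by
  apply ga_injective
  have hp0 : (p : O W) = 0 := (isCharP p W).natCast_eq_zero
  have h7 : ∀ n : ℕ, ga (n • y) = (n : O W) * ga y := by
    intro n
    induction n with
    | zero => rw [zero_smul, ga_zero, Nat.cast_zero, zero_mul]
    | succ n ih => rw [succ_nsmul, ga_add, ih, Nat.cast_succ, add_mul, one_mul]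
  rw [h7, hp0, zero_mul, ga_zero]

/-- The value at `y ^ p` of the Frobenius twist of a character is trivial. -/
theorem ev_F {T W : Over X} (s : Γs (hom (Ga X) (Gm X)) T) (h : W ⟶ T) (y : Γs (Ga X) W) :
    ev (r (hom (Ga X) (Gm X)) (F p T) s) (tm p h) (r (Ga X) (F p W) y) = 0 := by
  rw [ev_r]
  have h1 : ev s (tm p h ≫ F p T) (r (Ga X) (F p W) y) = ev s (F p W ≫ h) (r (Ga X) (F p W) y) := by
    rw [tm_F]
  rw [h1, ← ev_r', r_F_gm, ← map_nsmul, nsmul_ga, map_zero, map_zero]

theorem r_F_ga {W : Over X} (y : Γs (Ga X) W) : ga (r (Ga X) (F p W) y) = tf p (ga y ^ p) := by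
  rw [ga_r, ro_F]

/-- Every object over a twist is a twist. -/
theorem exists_tw_over {W T : Over X} (h : W ⟶ tw p T) :
    ∃ (W' : Over X) (k : W ≅ tw p W') (h' : W' ⟶ T), h = k.hom ≫ tm p h' := by
  obtain ⟨Z', k, a', b', h1, -, -⟩ := exists_tw p (𝟙 T) (𝟙 T) h h rfl
  exact ⟨Z', k, a', h1⟩

/-- Local `p`-th roots. -/
theorem exists_root (T : Over X) (x : O T) : LocTw (T := T) (fun _ h => ∃ y, y ^ p = ro h x) := by
  intro t
  have h0 : (p : Γ(X, ⊤)) = 0 := FrobSch.IsCharP.natCast_eq_zero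
  have := K771.FrobSeq.epi_frob (K674.HTwo.ga_frobGa (p := p) h0)
  obtain ⟨V, h, e, h1, h2, h3, h4⟩ := exists_lift (K674.HTwo.frobGa (p := p) h0) (gas x) t
  refine ⟨V, h, h1, h2, h3, ga e, ?_⟩
  rw [← K674.HTwo.ga_frobGa (p := p) h0, h4, ga_r, ga_gas]

/-- The Frobenius twist of a character of `G_a` is trivial. -/
theorem r_F_gad {T : Over X} (s : Γs (hom (Ga X) (Gm X)) T) : r (hom (Ga X) (Gm X)) (F p T) s = 0 := by
  have key : ∀ (W : Over X) (h : W ⟶ T) (x : Γs (Ga X) (tw p W)),
      ev (r (hom (Ga X) (Gm X)) (F p T) s) (tm p h) x = 0 := by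
    intro W h x
    refine ext_tw p (Gm X) _ _ fun t => ?_
    obtain ⟨V, g, h1, h2, h3, y, hy⟩ := exists_root p W ((tf p).symm (ga x)) t
    refine ⟨V, g, h1, h2, h3, ?_⟩
    have h4 : r (Ga X) (tm p g) x = r (Ga X) (F p V) (gas y) := by
      apply ga_injective
      rw [r_F_ga, ga_gas, hy, ga_r, ← ro_tm, RingEquiv.apply_symm_apply]
    have h5 : tm p g ≫ tm p h = tm p (g ≫ h) := (Functor.map_comp _ _ _).symm
    dsimp only
    rw [ev_r', h4, h5, ev_F, map_zero]
  refine ev_ext fun W h x => ?_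
  rw [ev_zero]
  obtain ⟨W', k, h', rfl⟩ := exists_tw_over p h
  have h6 := ev_r' (r (hom (Ga X) (Gm X)) (F p T) s) (tm p h') k.hom (r (Ga X) k.inv x)
  rw [key, map_zero, r_r, Iso.hom_inv_id, r_id] at h6
  exact h6.symm

/-! ### Cohomology -/

/-- Pullback along the absolute Frobenius. -/
abbrev fr (p : ℕ) [Fact p.Prime] (X : Scheme.{u}) [FrobSch.IsCharP X p] :
    BigSite.Ab Scheme.fppfPrecoverage X ⥤ BigSite.Ab Scheme.fppfPrecoverage X :=
  BigSite.pullBig Scheme.fppfPrecoverage (FrobSch.frob X p) AddCommGrpCat.{u + 1}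

/-- Restriction along the Frobenius as a morphism of sheaves. -/
def phi (G : BigSite.Ab Scheme.fppfPrecoverage X) : G ⟶ (fr p X).obj G :=
  ⟨{ app := fun T => G.obj.map (F p T.unop).op
     naturality := fun T T' g => by
      change G.obj.map g ≫ G.obj.map (F p T'.unop).op = G.obj.map (F p T.unop).op ≫ G.obj.map (tm p g.unop).op
      rw [← G.obj.map_comp, ← G.obj.map_comp]
      congr 1
      exact Quiver.Hom.unop_inj (tm_F p g.unop).symm }⟩

theorem phi_naturality {G G' : BigSite.Ab Scheme.fppfPrecoverage X} (a : G ⟶ G') :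
    a ≫ phi p G' = phi p G ≫ (fr p X).map a := by
  apply Sheaf.hom_ext
  apply NatTrans.ext
  funext T
  exact (a.hom.naturality (F p T.unop).op).symm

variable (𝓗 : CohT Scheme.fppfPrecoverage X)

/-- A class killed by `G ⟶ F^* G` is killed by restriction along the Frobenius. -/
theorem res_F_of_map (n : ℕ) : ∀ (G : BigSite.Ab Scheme.fppfPrecoverage X) (T : Over X) (x : 𝓗.H G n T),
    𝓗.map (phi p G) x = 0 → 𝓗.res (F p T) x = 0 := by
  induction n with
  | zero =>
    intro G T x hx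
    apply 𝓗.sec.injective
    have h1 : 𝓗.sec (𝓗.map (phi p G) x) = 0 := by rw [hx, map_zero]
    rw [𝓗.sec_map] at h1
    rw [𝓗.sec_res, map_zero]
    exact h1
  | succ n ih =>
    intro G T x hx
    obtain ⟨A, hA, rfl, hI⟩ := CohT.exists_injective_embedding G
    obtain ⟨y, rfl⟩ := 𝓗.exists_del hA x
    have hA' : (A.map (fr p X)).ShortExact := K828.Kit.pull_shortExact _ hA
    let φ : A ⟶ A.map (fr p X) :=
      { τ₁ := phi p A.X₁
        τ₂ := phi p A.X₂
        τ₃ := phi p A.X₃
        comm₁₂ := (phi_naturality p A.f).symm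
        comm₂₃ := (phi_naturality p A.g).symm }
    have h1 : 𝓗.del hA' (𝓗.map (phi p A.X₃) y) = 0 := (𝓗.del_nat hA hA' φ y).trans hx
    obtain ⟨z, hz⟩ : ∃ z : 𝓗.H ((fr p X).obj A.X₂) n T, 𝓗.map ((fr p X).map A.g) z = 𝓗.map (phi p A.X₃) y :=
      𝓗.exact₃ hA' _ h1
    have hI' : Injective ((fr p X).obj A.X₂) := K828.Inj.injective_pullBig _ _ A.X₂
    rw [← 𝓗.del_res]
    cases n with
    | zero =>
      let w : A.X₂.obj.obj (op (tw p T)) := 𝓗.sec (F := (fr p X).obj A.X₂) (T := T) z
      have h3 : A.g.hom.app (op (tw p T)) w = A.X₃.obj.map (F p T).op (𝓗.sec y) := by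
        have h4 := congrArg 𝓗.sec hz
        rw [𝓗.sec_map, 𝓗.sec_map] at h4
        exact h4
      have h2 : 𝓗.res (F p T) y = 𝓗.map A.g (𝓗.sec.symm w) := by
        apply 𝓗.sec.injective
        rw [𝓗.sec_res, 𝓗.sec_map, AddEquiv.apply_symm_apply, h3]
      rw [h2, 𝓗.del_map]
    | succ n =>
      have hz0 : z = 0 := 𝓗.inj ((fr p X).obj A.X₂) z
      rw [ih A.X₃ T y (by rw [← hz, hz0, map_zero]), map_zero]

/-- If restriction along the Frobenius kills the sections of `G`, it kills the cohomology of `G`. -/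
theorem res_F (G : BigSite.Ab Scheme.fppfPrecoverage X)
    (hG : ∀ (T : Over X) (s : G.obj.obj (op T)), G.obj.map (F p T).op s = 0) {n : ℕ} {T : Over X} (x : 𝓗.H G n T) :
    𝓗.res (F p T) x = 0 := by
  refine res_F_of_map p 𝓗 n G T x ?_
  have h1 : phi p G = 0 := by
    apply Sheaf.hom_ext
    apply NatTrans.ext
    funext T
    refine AddCommGrpCat.ext fun s => ?_
    exact hG T.unop s
  rw [h1]
  have h2 := 𝓗.map_map (A := ShortComplex.mk (𝟙 G) (0 : G ⟶ (fr p X).obj G) (Category.id_comp _)) x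
  rwa [𝓗.map_id] at h2

/-- The Frobenius kills the cohomology of the dual of `G_a`. -/
theorem res_F_gad {n : ℕ} {T : Over X} (x : 𝓗.H (hom (Ga X) (Gm X)) n T) : 𝓗.res (F p T) x = 0 :=
  res_F p 𝓗 _ (fun _ s => r_F_gad p s) x

/-- Restriction to `X`, viewed over itself by the Frobenius. -/
theorem res_V_gad {n : ℕ} (x : 𝓗.H (hom (Ga X) (Gm X)) n (Over.mk (𝟙 X))) (g : Over.mk (FrobSch.frob X p) ⟶ Over.mk (𝟙 X)) :
    𝓗.res g x = 0 := by
  let k : Over.mk (FrobSch.frob X p) ⟶ tw p (Over.mk (𝟙 X)) := Over.homMk (𝟙 X) (by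
    change 𝟙 X ≫ 𝟙 X ≫ FrobSch.frob X p = FrobSch.frob X p
    rw [Category.id_comp, Category.id_comp])
  have h1 : g = k ≫ F p (Over.mk (𝟙 X)) := Over.mkIdTerminal.hom_ext _ _
  rw [h1, 𝓗.res_comp, res_F_gad, map_zero]

end K770.FrobKill
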