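import Groth.Prelude.Def_Frob
import Groth.Agent.Etdl.H432.Sec

/-!
# Iterated Frobenius twists on the big fppf site

`fr p X n` the `n`-th power of the absolute Frobenius, `tw p n T`, `tm p n g`, `F p n T : tw p n T ⟶ T`.

`exists_lift_F`: if `β : A ⟶ M` is an epimorphism of abelian fppf sheaves whose kernel is killed by the restrictions
along all `F p n T`, then for every section `x` of `M` over `T` the section `r M (F p n T) x` lifts to `A`.
-/

set_option autoImplicit false
universe u
open CategoryTheory CategoryTheory.Limits AlgebraicGeometry Opposite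

noncomputable section

namespace K770.FrobN

open Groth.Agent.Etdl.H432.Sec

variable (p : ℕ) [Fact p.Prime]

/-- Powers of the absolute Frobenius. -/
def fr (X : Scheme.{u}) [FrobSch.IsCharP X p] : ℕ → (X ⟶ X)
  | 0 => 𝟙 X
  | n + 1 => fr X n ≫ FrobSch.frob X p

theorem fr_comp {X Y : Scheme.{u}} [FrobSch.IsCharP X p] [FrobSch.IsCharP Y p] (f : X ⟶ Y) (n : ℕ) :
    fr p X n ≫ f = f ≫ fr p Y n := by
  induction n with
  | zero => exact (Category.id_comp _).trans (Category.comp_id _).symm
  | succ n ih => rw [fr, fr, Category.assoc, FrobSch.frob_comp, reassoc_of% ih]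

theorem fr_appTop {X : Scheme.{u}} [FrobSch.IsCharP X p] (n : ℕ) (s : Γ(X, ⊤)) :
    (fr p X n).appTop.hom s = s ^ p ^ n := by
  induction n generalizing s with
  | zero =>
    rw [pow_zero, pow_one]
    change (𝟙 X : X ⟶ X).appTop.hom s = s
    simp
  | succ n ih =>
    change (fr p X n ≫ FrobSch.frob X p).appTop.hom s = _
    rw [Scheme.Hom.comp_appTop]
    change (fr p X n).appTop.hom ((FrobSch.frob X p).appTop.hom s) = _
    rw [ih]
    change (s ^ p) ^ p ^ n = _
    rw [← pow_mul, pow_succ']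

variable {X : Scheme.{u}} [FrobSch.IsCharP X p] (n : ℕ)

/-- Twisted structure morphism. -/
abbrev tw (T : Over X) : Over X := (Over.map (fr p X n)).obj T

/-- Functoriality of the twist. -/
abbrev tm {V T : Over X} (g : V ⟶ T) : tw p n V ⟶ tw p n T := (Over.map (fr p X n)).map g

omit [Fact p.Prime] in
theorem isCharP (T : Over X) : FrobSch.IsCharP T.left p := FrobSch.IsCharP.of_hom T.hom p

/-- The power of the absolute Frobenius of `T`, over `X`. -/
def F (T : Over X) : tw p n T ⟶ T :=
  haveI := isCharP p T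
  Over.homMk (fr p T.left n) (fr_comp p T.hom n)

theorem F_left (T : Over X) : (F p n T).left = (haveI := isCharP p T; fr p T.left n) := rfl

theorem tm_F {V T : Over X} (g : V ⟶ T) : tm p n g ≫ F p n T = F p n V ≫ g := by
  have := isCharP p T
  have := isCharP p V
  ext : 1
  exact (fr_comp p g.left n).symm

theorem r_F_r {H : EtFppf.AbF X} {V T : Over X} (g : V ⟶ T) (s : Γs H T) :
    r H (tm p n g) (r H (F p n T) s) = r H (F p n V) (r H g s) := by
  rw [r_r, r_r, tm_F]

/-- Twists and common objects. -/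
theorem exists_tw {Z U V T : Over X} (h : U ⟶ T) (h' : V ⟶ T) (a : Z ⟶ tw p n U) (b : Z ⟶ tw p n V)
    (hab : a ≫ tm p n h = b ≫ tm p n h') : ∃ (Z' : Over X) (k : Z ≅ tw p n Z') (a' : Z' ⟶ U) (b' : Z' ⟶ V),
      a = k.hom ≫ tm p n a' ∧ b = k.hom ≫ tm p n b' ∧ a' ≫ h = b' ≫ h' := by
  have hl : a.left ≫ h.left = b.left ≫ h'.left := congrArg (fun t => CommaMorphism.left t) hab
  have hb : b.left ≫ V.hom = a.left ≫ U.hom := by
    rw [← Over.w h, ← Over.w h', ← Category.assoc, ← Category.assoc, hl]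
  let Z' : Over X := Over.mk (a.left ≫ U.hom)
  have hZ : Z.hom = a.left ≫ U.hom ≫ fr p X n := (Over.w a).symm
  let k : Z ≅ tw p n Z' := Over.isoMk (Iso.refl _) (by
    change 𝟙 Z.left ≫ (a.left ≫ U.hom) ≫ fr p X n = Z.hom
    rw [hZ, Category.id_comp, Category.assoc])
  refine ⟨Z', k, Over.homMk a.left rfl, Over.homMk b.left hb, ?_, ?_, ?_⟩
  · ext : 1
    exact (Category.id_comp _).symm
  · ext : 1
    exact (Category.id_comp _).symm
  · ext : 1
    exact hl

/-- Frobenius pullbacks of sections of a quotient by a sheaf killed by Frobenius lift. -/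
theorem exists_lift_F {A M : EtFppf.AbF X} (β : A ⟶ M) [Epi β]
    (hker : ∀ (T : Over X) (a : Γs A T), m β T a = 0 → r A (F p n T) a = 0) (T : Over X) (x : Γs M T) :
    ∃ a : Γs A (tw p n T), m β (tw p n T) a = r M (F p n T) x := by
  choose V h a hfl hfp hr ha using fun t => exists_lift β x t
  have hc : IsCov (fun t => tm p n (h t)) := fun t => ⟨t, hfl t, hfp t, hr t⟩
  obtain ⟨v, hv⟩ := glue A hc (fun t => r A (F p n (V t)) (a t)) (fun i j Z b c hbc => by
    obtain ⟨Z', k, b', c', rfl, rfl, hbc'⟩ := exists_tw p n (h i) (h j) b c hbc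
    rw [← r_r, ← r_r, r_F_r, r_F_r]
    congr 1
    rw [← sub_eq_zero, ← map_sub]
    apply hker
    rw [map_sub, m_r, m_r, ha, ha, r_r, r_r, hbc', sub_self])
  refine ⟨v, sep M hc _ _ fun i => ?_⟩
  rw [← m_r, hv, m_r, ha, r_F_r]

end K770.FrobN
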