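import Groth.Agent.S0088
import Mathlib.RingTheory.PiTensorProduct
import Mathlib.RingTheory.Ideal.GoingUp
import Mathlib.AlgebraicGeometry.ResidueField
import Mathlib.FieldTheory.IsAlgClosed.AlgebraicClosure

/-!
# Tensor powers of an algebraic closure

`B = k̄ ⊗_k ⋯ ⊗_k k̄` is integral over `k̄` (any factor), so `Spec B` has closed points with residue fields `k̄` and no
étale cohomology in positive degrees; the Frobenius of `B` is surjective in characteristic `p`.
-/

set_option autoImplicit false
universe u
open CategoryTheory AlgebraicGeometry TensorProduct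

noncomputable section

namespace K770.TensorAC

/-- The étale cohomology of an integral algebra over an algebraically closed field vanishes in positive degrees. -/
theorem subsingleton_H_of_integral {k : Type u} [Field k] [IsAlgClosed k] (B : Type u) [CommRing B] [Algebra k B]
    [Algebra.IsIntegral k B] (F : EtCoh.Ab (Spec (CommRingCat.of B))) (i : ℕ) (hi : 1 ≤ i) :
    Subsingleton (EtCoh.H (Spec (CommRingCat.of B)) F i) := by
  have hmax : ∀ x : Spec (CommRingCat.of B), x.asIdeal.IsMaximal := by
    intro x
    have := x.2
    refine Ideal.isMaximal_of_isIntegral_of_isMaximal_comap (R := k) x.asIdeal ?_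
    have h1 : x.asIdeal.comap (algebraMap k B) = ⊥ := by
      rcases Ideal.eq_bot_or_top (x.asIdeal.comap (algebraMap k B)) with h | h
      · exact h
      · exact absurd ((Ideal.comap_eq_top_iff).1 h) x.2.ne_top
    rw [h1]
    exact Ideal.bot_isMaximal
  refine Groth.Agent.S0088.result (Spec (CommRingCat.of B)) (fun x => ?_) (fun x => ?_) F i hi
  · exact (PrimeSpectrum.isClosed_singleton_iff_isMaximal x).2 (hmax x)
  · have := hmax x
    have h1 : Function.Bijective (algebraMap k (B ⧸ x.asIdeal)) := by
      have : Field (B ⧸ x.asIdeal) := Ideal.Quotient.field _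
      exact IsAlgClosed.algebraMap_bijective_of_isIntegral (k := k) (K := B ⧸ x.asIdeal)
    let e1 : k ≃+* B ⧸ x.asIdeal := RingEquiv.ofBijective _ h1
    let e2 : (B ⧸ x.asIdeal) ≃+* x.asIdeal.ResidueField :=
      RingEquiv.ofBijective _ (Ideal.bijective_algebraMap_quotient_residueField x.asIdeal)
    let e3 : x.asIdeal.ResidueField ≃+* (Spec (CommRingCat.of B)).residueField x :=
      (Scheme.Spec.residueFieldIso (CommRingCat.of B) x).symm.commRingCatIsoToRingEquiv
    have h2 : IsAlgClosed ((Spec (CommRingCat.of B)).residueField x) :=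
      IsAlgClosed.of_ringEquiv _ _ ((e1.trans e2).trans e3)
    infer_instance

variable (k : Type u) [Field k] (n : ℕ)

/-- The tensor power. -/
abbrev B : Type u := PiTensorProduct k (fun _ : Fin n => AlgebraicClosure k)

instance isIntegral : Algebra.IsIntegral k (B k n) := by
  classical
  constructor
  intro x
  induction x using PiTensorProduct.induction_on with
  | smul_tprod r f =>
    have h1 : PiTensorProduct.tprod k f = ∏ i : Fin n, PiTensorProduct.singleAlgHom (R := k)
        (A := fun _ : Fin n => AlgebraicClosure k) i (f i) := by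
      have h2 : f = ∏ i : Fin n, Pi.mulSingle i (f i) := by
        exact (Finset.univ_prod_mulSingle f).symm
      conv_lhs => rw [h2]
      rw [PiTensorProduct.tprod_prod]
      rfl
    rw [h1]
    refine IsIntegral.smul r (IsIntegral.prod _ fun i _ => ?_)
    exact (Algebra.IsIntegral.isIntegral (R := k) (f i)).map _
  | add x y hx hy => exact hx.add hy

/-- The first factor. -/
@[reducible] def algFirst (hn : 0 < n) : Algebra (AlgebraicClosure k) (B k n) :=
  (PiTensorProduct.singleAlgHom (R := k) (A := fun _ : Fin n => AlgebraicClosure k) ⟨0, hn⟩).toRingHom.toAlgebra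

theorem subsingleton_H (hn : 0 < n) (F : EtCoh.Ab (Spec (CommRingCat.of (B k n)))) (i : ℕ) (hi : 1 ≤ i) :
    Subsingleton (EtCoh.H (Spec (CommRingCat.of (B k n))) F i) := by
  let _ := algFirst k n hn
  have : IsScalarTower k (AlgebraicClosure k) (B k n) := IsScalarTower.of_algebraMap_eq' (by
    ext x
    exact ((PiTensorProduct.singleAlgHom (R := k) (A := fun _ : Fin n => AlgebraicClosure k) ⟨0, hn⟩).commutes x).symm)
  have : Algebra.IsIntegral (AlgebraicClosure k) (B k n) := Algebra.IsIntegral.tower_top k
  exact subsingleton_H_of_integral (k := AlgebraicClosure k) (B k n) F i hi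

/-- The multiplication map. -/
def mulHom : B k n →ₐ[k] AlgebraicClosure k :=
  PiTensorProduct.liftAlgHom (MultilinearMap.mkPiAlgebra k (Fin n) (AlgebraicClosure k))
    (by simp) (fun x y => by simp [Finset.prod_mul_distrib])

instance nontrivial : Nontrivial (B k n) := (mulHom k n).toRingHom.domain_nontrivial

instance charP (p : ℕ) [CharP k p] : CharP (B k n) p :=
  charP_of_injective_algebraMap (algebraMap k (B k n)).injective p

theorem tprod_eq (f : Fin n → AlgebraicClosure k) :
    (PiTensorProduct.tprod k f : B k n) = ∏ i : Fin n, PiTensorProduct.singleAlgHom (R := k)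
        (A := fun _ : Fin n => AlgebraicClosure k) i (f i) := by
  conv_lhs => rw [← Finset.univ_prod_mulSingle f]
  rw [PiTensorProduct.tprod_prod]
  rfl

theorem frobenius_surjective (p : ℕ) [Fact p.Prime] [CharP k p] (hn : 0 < n) :
    Function.Surjective (frobenius (B k n) p) := by
  classical
  have hroot : ∀ a : AlgebraicClosure k, ∃ b, b ^ p = a := fun a =>
    IsAlgClosed.exists_pow_nat_eq a (Fact.out : p.Prime).pos
  intro x
  induction x using PiTensorProduct.induction_on with
  | smul_tprod r f =>
    choose g hg using fun i => hroot (f i)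
    obtain ⟨t, ht⟩ := hroot (algebraMap k (AlgebraicClosure k) r)
    let ι := fun i => PiTensorProduct.singleAlgHom (R := k) (A := fun _ : Fin n => AlgebraicClosure k) i
    refine ⟨ι ⟨0, hn⟩ t * ∏ i, ι i (g i), ?_⟩
    rw [frobenius_def, mul_pow, ← map_pow, ht, ← Finset.prod_pow, tprod_eq, AlgHom.commutes, Algebra.smul_def]
    congr 1
    refine Finset.prod_congr rfl fun i _ => ?_
    rw [← map_pow, hg]
  | add x y hx hy =>
    obtain ⟨a, rfl⟩ := hx
    obtain ⟨b, rfl⟩ := hy
    exact ⟨a + b, map_add _ _ _⟩

end K770.TensorAC
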