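import Groth.Agent.GaDual.K770.InfVan
import Groth.Agent.GaDual.K770.TensorAC
import Groth.Agent.S0353

/-!
# Infinitesimal groups: base change and the vanishing over tensor powers of an algebraic closure
-/

set_option autoImplicit false
universe u
open CategoryTheory CategoryTheory.Limits MonoidalCategory CartesianMonoidalCategory MonObj AlgebraicGeometry Opposite

noncomputable section

namespace K770.InfBC

/-- The base change of a group scheme with one point along an extension of fields has one point. -/
theorem subsingleton_bc {k K : Type u} [Field k] [Field K] (f : Spec (CommRingCat.of K) ⟶ Spec (CommRingCat.of k))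
    (G : Over (Spec (CommRingCat.of k))) [GrpObj G] [Subsingleton G.left] : Subsingleton (Red.bc f G).left := by
  let e0 : Spec (CommRingCat.of k) ⟶ G.left := (η[G] : 𝟙_ _ ⟶ G).left
  have he : e0 ≫ G.hom = 𝟙 _ := Over.w (η[G] : 𝟙_ _ ⟶ G)
  have hs : Surjective e0 := ⟨fun x => ⟨default, Subsingleton.elim _ _⟩⟩
  have h1 := (IsPullback.of_hasPullback e0 (pullback.fst G.hom f)).flip
  have h2 := (IsPullback.of_hasPullback G.hom f).flip
  have h3 := h1.paste_horiz h2
  rw [he] at h3
  have h4 : IsIso (pullback.snd e0 (pullback.fst G.hom f) ≫ pullback.snd G.hom f) := h3.isIso_fst_of_isIso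
  have h5 : Subsingleton (pullback e0 (pullback.fst G.hom f) : Scheme.{u}) :=
    (Scheme.homeoOfIso (asIso (pullback.snd e0 (pullback.fst G.hom f) ≫ pullback.snd G.hom f))).toEquiv.subsingleton
  have h6 : Surjective (pullback.snd e0 (pullback.fst G.hom f)) := inferInstance
  exact h6.surj.subsingleton

/-- Restriction in two steps. -/
theorem subsingleton_HU_comp {S T : Scheme.{u}} (f : T ⟶ S) {U : Scheme.{u}} (g : U ⟶ T) (h : U ⟶ S) (hgf : g ≫ f = h)
    (G : Over S) [GrpObj G] [IsCommMonObj G] (j : ℕ)
    (hH : Subsingleton (BigSite.HU Scheme.fppfPrecoverage (CGrpSh.pts Scheme.fppfPrecoverage (Red.bc f G)) j (Over.mk g))) :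
    Subsingleton (BigSite.HU Scheme.fppfPrecoverage (CGrpSh.pts Scheme.fppfPrecoverage G) j (Over.mk h)) := by
  let γ : Over.mk h ⟶ Over.mk f := Over.homMk g hgf
  have e1 := HRes.pullIso Scheme.fppfPrecoverage (CGrpSh.pts Scheme.fppfPrecoverage G) γ
  have e2 := (BigSite.pullBig Scheme.fppfPrecoverage g AddCommGrpCat.{u + 1}).mapIso (SmoothVan.pullPts f G)
  exact SmoothVan.subsingleton_H_of_iso (e1.symm ≪≫ e2) j hH

theorem main (k : Type u) [Field k]
    (G : Over (Spec (CommRingCat.of k))) [GrpObj G] [IsCommMonObj G] [IsFinite G.hom] [Subsingleton G.left]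
    (n j : ℕ) (hn : 0 < n) (hj : 0 < j) :
    Subsingleton (BigSite.HU Scheme.fppfPrecoverage (CGrpSh.pts Scheme.fppfPrecoverage G) j
      (Over.mk (Spec.map (CommRingCat.ofHom (algebraMap k (TensorAC.B k n)))))) := by
  rcases CharP.exists k with ⟨p, hp⟩
  rcases CharP.char_is_prime_or_zero k p with hprime | rfl
  · have : Fact p.Prime := ⟨hprime⟩
    let K := AlgebraicClosure k
    have : CharP K p := charP_of_injective_algebraMap (algebraMap k K).injective p
    let s : K →+* TensorAC.B k n :=
      (PiTensorProduct.singleAlgHom (R := k) (A := fun _ : Fin n => AlgebraicClosure k) ⟨0, hn⟩).toRingHom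
    let f : Spec (CommRingCat.of K) ⟶ Spec (CommRingCat.of k) := Spec.map (CommRingCat.ofHom (algebraMap k K))
    have h1 : Spec.map (CommRingCat.ofHom s) ≫ f = Spec.map (CommRingCat.ofHom (algebraMap k (TensorAC.B k n))) := by
      rw [← Spec.map_comp]
      congr 1
      ext x
      exact (PiTensorProduct.singleAlgHom (R := k) (A := fun _ : Fin n => AlgebraicClosure k) ⟨0, hn⟩).commutes x
    have hfin : IsFinite (Red.bc f G).hom := inferInstanceAs (IsFinite (pullback.snd G.hom f))
    have hsub : Subsingleton (Red.bc f G).left := subsingleton_bc f G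
    exact subsingleton_HU_comp f (Spec.map (CommRingCat.ofHom s)) _ h1 G j
      (InfVan.main p K (TensorAC.B k n) s (TensorAC.frobenius_surjective k n p hn)
        (fun F i hi => TensorAC.subsingleton_H k n hn F i hi) (Red.bc f G) j hj)
  · have : CharZero k := CharP.charP_to_charZero k
    have hsm : Smooth G.hom := Groth.Agent.S0353.result k G
    exact SmoothVan.subsingleton_HU G _ j (fun F => TensorAC.subsingleton_H k n hn F j hj)

end K770.InfBC
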