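import Mathlib.RingTheory.Smooth.Basic
import Mathlib.RingTheory.RingHom.Smooth
import Mathlib.RingTheory.FinitePresentation
import Mathlib.RingTheory.Nilpotent.Lemmas
import Mathlib.RingTheory.Finiteness.Nilpotent
import Mathlib.RingTheory.Noetherian.Nilpotent
import Mathlib.RingTheory.Ideal.Quotient.Operations

/-!
# Lifting homomorphisms from smooth algebras along surjections with nil kernel
-/

set_option autoImplicit false

namespace K770.NilLift

open MvPolynomial

variable {R A C D : Type*} [CommRing R] [CommRing A] [CommRing C] [CommRing D] [Algebra R A] [Algebra R C] [Algebra R D]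

/-- A homomorphism from a smooth algebra lifts along a surjection with nil kernel. -/
theorem exists_lift [Algebra.FormallySmooth R A] [Algebra.FinitePresentation R A] (g : C →ₐ[R] D)
    (hg : Function.Surjective g) (hnil : ∀ c, g c = 0 → IsNilpotent c) (u : A →ₐ[R] D) :
    ∃ v : A →ₐ[R] C, g.comp v = u := by
  obtain ⟨n, f, hf, S, hS⟩ := Algebra.FinitePresentation.out (R := R) (A := A)
  choose c hc using fun i : Fin n => hg (u (f (X i)))
  let w : MvPolynomial (Fin n) R →ₐ[R] C := aeval c
  have hw : g.comp w = u.comp f := by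
    ext i
    simp [w, hc]
  have hwz : ∀ z, f z = 0 → g (w z) = 0 := by
    intro z hz
    have := AlgHom.congr_fun hw z
    rw [AlgHom.comp_apply, AlgHom.comp_apply, hz, map_zero] at this
    exact this
  let J : Ideal C := (Ideal.span (S : Set (MvPolynomial (Fin n) R))).map (w : MvPolynomial (Fin n) R →+* C)
  have hJfg : J.FG := Ideal.FG.map ⟨S, rfl⟩ _
  have hJg : ∀ x ∈ J, g x = 0 := by
    have h1 : J ≤ RingHom.ker (g : C →+* D) := by
      refine Ideal.map_le_iff_le_comap.2 ?_
      rw [hS]
      intro z hz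
      rw [Ideal.mem_comap, RingHom.mem_ker]
      exact hwz z hz
    exact fun x hx => h1 hx
  have hJnil : IsNilpotent J := by
    rw [Ideal.FG.isNilpotent_iff_le_nilradical hJfg]
    exact fun x hx => hnil x (hJg x hx)
  have hker : ∀ z, f z = 0 → Ideal.Quotient.mkₐ R J (w z) = 0 := by
    intro z hz
    rw [Ideal.Quotient.mkₐ_eq_mk, Ideal.Quotient.eq_zero_iff_mem]
    refine Ideal.mem_map_of_mem (w : MvPolynomial (Fin n) R →+* C) ?_
    rw [hS]
    exact hz
  have hker' : RingHom.ker f.toRingHom ≤ RingHom.ker ((Ideal.Quotient.mkₐ R J).comp w).toRingHom :=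
    fun z hz => hker z hz
  let u' : A →ₐ[R] C ⧸ J := AlgHom.liftOfSurjective f hf ((Ideal.Quotient.mkₐ R J).comp w) hker'
  have hu' : u'.comp f = (Ideal.Quotient.mkₐ R J).comp w := AlgHom.liftOfSurjective_comp f hf _ hker'
  obtain ⟨v, hv⟩ := Algebra.FormallySmooth.exists_lift J hJnil u'
  refine ⟨v, ?_⟩
  let g' : C ⧸ J →ₐ[R] D := Ideal.Quotient.liftₐ J g hJg
  have hg' : g'.comp (Ideal.Quotient.mkₐ R J) = g := by
    ext x
    rfl
  rw [← hg', AlgHom.comp_assoc, hv]
  refine AlgHom.ext fun a => ?_
  obtain ⟨z, rfl⟩ := hf a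
  have h1 : u' (f z) = Ideal.Quotient.mkₐ R J (w z) := AlgHom.congr_fun hu' z
  rw [AlgHom.comp_apply, h1]
  exact AlgHom.congr_fun hw z

omit [Algebra R A] [Algebra R C] [Algebra R D] in
/-- Version for ring homomorphisms. -/
theorem exists_lift_ringHom (f : R →+* A) (hf : f.Smooth) (g : C →+* D)
    (hg : Function.Surjective g) (hnil : ∀ c, g c = 0 → IsNilpotent c) (r : R →+* C) (u : A →+* D)
    (h : u.comp f = g.comp r) : ∃ v : A →+* C, g.comp v = u ∧ v.comp f = r := by
  algebraize [f]
  have h1 : Algebra.Smooth R A := hf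
  have h2 := h1.1
  have h3 := h1.2
  let _ : Algebra R C := r.toAlgebra
  let _ : Algebra R D := (g.comp r).toAlgebra
  let g' : C →ₐ[R] D := { g with commutes' := fun _ => rfl }
  let u' : A →ₐ[R] D := { u with commutes' := fun x => RingHom.congr_fun h x }
  obtain ⟨v, hv⟩ := exists_lift g' hg hnil u'
  refine ⟨v, RingHom.ext fun x => AlgHom.congr_fun hv x, RingHom.ext fun x => v.commutes x⟩

end K770.NilLift
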