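import Groth.Agent.GaDual.K770.FrobN
import Groth.Agent.GaDual.K770.NilLift
import Groth.Agent.S0115
import Mathlib.FieldTheory.Perfect
import Mathlib.AlgebraicGeometry.Noetherian
import Mathlib.AlgebraicGeometry.Morphisms.Finite

/-!
# Infinitesimal groups are killed by Frobenius; lifting points of smooth schemes along Frobenius
-/

set_option autoImplicit false
universe u
open CategoryTheory CategoryTheory.Limits MonoidalCategory CartesianMonoidalCategory MonObj AlgebraicGeometry Opposite

noncomputable section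

namespace K770.InfKill

open K770.FrobN Groth.Agent.Etdl.H432.Sec

variable (p : ℕ) [Fact p.Prime]

/-- The absolute Frobenius of an affine scheme. -/
theorem fr_spec (A : Type u) [CommRing A] [CharP A p] (n : ℕ) (φ : A →+* A) (hφ : ∀ a, φ a = a ^ p ^ n) :
    fr p (Spec (CommRingCat.of A)) n = Spec.map (CommRingCat.ofHom φ) := by
  refine ext_of_isAffine ?_
  refine CommRingCat.hom_ext (RingHom.ext fun s => ?_)
  obtain ⟨a, rfl⟩ : ∃ a, (Scheme.ΓSpecIso (CommRingCat.of A)).inv.hom a = s :=
    ⟨(Scheme.ΓSpecIso (CommRingCat.of A)).hom.hom s, by simp⟩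
  have h2 := congrArg (fun t => CommRingCat.Hom.hom t a)
    (Scheme.ΓSpecIso_inv_naturality (CommRingCat.ofHom φ))
  refine (fr_appTop p n _).trans (Eq.trans ?_ h2)
  change _ = (Scheme.ΓSpecIso (CommRingCat.of A)).inv.hom (φ a)
  rw [hφ, map_pow]

/-- An infinitesimal group is killed by a power of Frobenius. -/
theorem exists_kill (K : Type u) [Field K] [CharP K p] (I : Over (Spec (CommRingCat.of K))) [GrpObj I]
    [IsFinite I.hom] [Subsingleton I.left] :
    ∃ N, ∀ (T : Over (Spec (CommRingCat.of K))) (c : T ⟶ I), F p N T ≫ c = toUnit _ ≫ η[I] := by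
  have hchar : FrobSch.IsCharP I.left p := FrobSch.IsCharP.of_hom I.hom p
  have haff : IsAffine I.left := isAffine_of_isAffineHom I.hom
  have hnoe : IsLocallyNoetherian I.left := LocallyOfFiniteType.isLocallyNoetherian I.hom
  let C := Γ(I.left, ⊤)
  have hC : IsNoetherianRing C := IsLocallyNoetherian.component_noetherian ⟨⊤, isAffineOpen_top I.left⟩
  let ε : C →+* Γ(Spec (CommRingCat.of K), ⊤) := (η[I] : 𝟙_ _ ⟶ I).left.appTop.hom
  let st : Γ(Spec (CommRingCat.of K), ⊤) →+* C := I.hom.appTop.hom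
  have hε : ∀ x, ε (st x) = x := by
    intro x
    have h1 : (η[I] : 𝟙_ _ ⟶ I).left ≫ I.hom = 𝟙 _ := Over.w (η[I] : 𝟙_ _ ⟶ I)
    have h2 := congrArg (fun t => t.appTop.hom x) h1
    rw [Scheme.Hom.comp_appTop] at h2
    refine h2.trans ?_
    simp
  have hnt : Nontrivial Γ(Spec (CommRingCat.of K), ⊤) :=
    (Scheme.ΓSpecIso (CommRingCat.of K)).commRingCatIsoToRingEquiv.symm.injective.nontrivial
  have hnil : ∀ c : C, ε c = 0 → c ∈ nilradical C := by
    intro c hc
    rw [mem_nilradical]
    by_cases h : (I.left.basicOpen c : Set I.left) = ∅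
    · exact (Scheme.isNilpotent_iff_basicOpen_eq_bot_of_isCompact isCompact_univ c).2 (SetLike.coe_injective h)
    · exfalso
      obtain ⟨x, hx⟩ := Set.nonempty_iff_ne_empty.2 h
      have h1 : IsUnit c := by
        refine I.left.toRingedSpace.isUnit_of_isUnit_germ ⊤ c fun y hy => ?_
        obtain rfl : y = x := Subsingleton.elim _ _
        exact (I.left.mem_basicOpen c y trivial).1 hx
      have h2 := h1.map ε
      rw [hc] at h2
      exact not_isUnit_zero h2
  obtain ⟨N, hN⟩ := IsNoetherianRing.isNilpotent_nilradical C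
  have hpow : ∀ c : C, ε c = 0 → c ^ p ^ N = 0 := by
    intro c hc
    have h1 : c ^ N ∈ nilradical C ^ N := Ideal.pow_mem_pow (hnil c hc) N
    rw [hN] at h1
    have h2 : c ^ N = 0 := h1
    exact pow_eq_zero_of_le (Nat.lt_pow_self (Fact.out : p.Prime).one_lt).le h2
  have key : fr p I.left N = I.hom ≫ fr p (Spec (CommRingCat.of K)) N ≫ (η[I] : 𝟙_ _ ⟶ I).left := by
    refine ext_of_isAffine ?_
    refine CommRingCat.hom_ext (RingHom.ext fun c => ?_)
    have h1 : (I.hom ≫ fr p (Spec (CommRingCat.of K)) N ≫ (η[I] : 𝟙_ _ ⟶ I).left).appTop.hom c =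
        st ((ε c) ^ p ^ N) := by
      rw [Scheme.Hom.comp_appTop, Scheme.Hom.comp_appTop]
      exact congrArg st (fr_appTop p N (ε c))
    rw [h1]
    refine (fr_appTop p N c).trans ?_
    have h2 : ((p : ℕ) : C) = 0 := hchar.natCast_eq_zero
    have h3 : (c - st (ε c)) ^ p ^ N = 0 := hpow _ (by rw [map_sub, hε, sub_self])
    have h4 : c ^ p ^ N = (c - st (ε c)) ^ p ^ N + (st (ε c)) ^ p ^ N := by
      rcases subsingleton_or_nontrivial C with hC' | hC'
      · exact Subsingleton.elim _ _
      · have : CharP C p := (CharP.charP_iff_prime_eq_zero Fact.out).2 h2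
        rw [← add_pow_char_pow, sub_add_cancel]
    rw [h4, h3, zero_add, map_pow]
  refine ⟨N, fun T c => ?_⟩
  have hT := FrobN.isCharP p T
  ext : 1
  change fr p T.left N ≫ c.left = (toUnit (tw p N T)).left ≫ (η[I] : 𝟙_ _ ⟶ I).left
  rw [fr_comp, key, ← Category.assoc, Over.w c, Over.toUnit_left, ← Category.assoc]
  rfl

/-- Points of a smooth affine scheme over a perfect field with values in a semiperfect ring are Frobenius pullbacks. -/
theorem exists_untwist (K : Type u) [Field K] [CharP K p] [PerfectRing K p] (B : Type u) [CommRing B] [CharP B p]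
    (s : K →+* B) (hF : Function.Surjective (frobenius B p)) (M : Over (Spec (CommRingCat.of K))) [Smooth M.hom]
    [IsAffine M.left] (N : ℕ) (x : Over.mk (Spec.map (CommRingCat.ofHom s)) ⟶ M) :
    ∃ (T' : Over (Spec (CommRingCat.of K))) (k : Over.mk (Spec.map (CommRingCat.ofHom s)) ≅ tw p N T') (x' : T' ⟶ M),
      x = k.hom ≫ F p N T' ≫ x' := by
  let C : CommRingCat := Γ(M.left, ⊤)
  obtain ⟨φ, hφ⟩ := Spec.map_surjective (M.left.isoSpec.inv ≫ M.hom)
  obtain ⟨ξ, hξ⟩ := Spec.map_surjective (x.left ≫ M.left.isoSpec.hom)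
  have hsm : φ.hom.Smooth := by
    have : Smooth (Spec.map φ) := by rw [hφ]; infer_instance
    exact (HasRingHomProperty.Spec_iff (P := @Smooth)).1 this
  have hξφ : ξ.hom.comp φ.hom = s := by
    have h1 : Spec.map (φ ≫ ξ) = Spec.map (CommRingCat.ofHom s) := by
      rw [Spec.map_comp, hφ, hξ, Category.assoc, Iso.hom_inv_id_assoc]
      exact Over.w x
    exact congrArg CommRingCat.Hom.hom (Spec.map_injective h1)
  let θ : B →+* B := iterateFrobenius B p N
  let ψ : K →+* K := (iterateFrobeniusEquiv K p N).symm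
  have hθ : ∀ b, θ b = b ^ p ^ N := fun b => iterateFrobenius_def _ _ _
  have hθs : Function.Surjective θ := by
    have h1 : ⇑θ = (⇑(frobenius B p))^[N] := coe_iterateFrobenius _ _ _
    rw [h1]
    exact hF.iterate N
  have hψ : ∀ a, (ψ a) ^ p ^ N = a := by
    intro a
    rw [← iterateFrobeniusEquiv_def]
    exact (iterateFrobeniusEquiv K p N).apply_symm_apply a
  obtain ⟨v, hv1, hv2⟩ := K770.NilLift.exists_lift_ringHom φ.hom hsm θ hθs
    (fun c hc => ⟨p ^ N, by rw [← hθ]; exact hc⟩) (s.comp ψ) ξ.hom (by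
      rw [hξφ]
      ext a
      rw [RingHom.comp_apply, RingHom.comp_apply, hθ, ← map_pow, hψ])
  let T' : Over (Spec (CommRingCat.of K)) := Over.mk (Spec.map (CommRingCat.ofHom (s.comp ψ)))
  have hk : Spec.map (CommRingCat.ofHom s) = Spec.map (CommRingCat.ofHom (s.comp ψ)) ≫ fr p (Spec (CommRingCat.of K)) N := by
    rw [fr_spec p K N (iterateFrobenius K p N) (fun a => iterateFrobenius_def _ _ _), ← Spec.map_comp]
    congr 1
    ext a
    change s a = s (ψ (iterateFrobenius K p N a))
    rw [iterateFrobenius_def, map_pow, hψ]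
  let k : Over.mk (Spec.map (CommRingCat.ofHom s)) ≅ tw p N T' := Over.isoMk (Iso.refl _) (by
    change 𝟙 _ ≫ Spec.map (CommRingCat.ofHom (s.comp ψ)) ≫ fr p (Spec (CommRingCat.of K)) N = Spec.map (CommRingCat.ofHom s)
    rw [Category.id_comp, hk])
  let x' : T' ⟶ M := Over.homMk (Spec.map (CommRingCat.ofHom v) ≫ M.left.isoSpec.inv) (by
    change (Spec.map (CommRingCat.ofHom v) ≫ M.left.isoSpec.inv) ≫ M.hom = Spec.map (CommRingCat.ofHom (s.comp ψ))
    rw [Category.assoc, ← hφ, ← Spec.map_comp]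
    congr 1
    exact CommRingCat.hom_ext hv2)
  refine ⟨T', k, x', ?_⟩
  ext : 1
  change x.left = 𝟙 _ ≫ fr p (Spec (CommRingCat.of B)) N ≫ Spec.map (CommRingCat.ofHom v) ≫ M.left.isoSpec.inv
  rw [Category.id_comp, fr_spec p B N θ hθ, ← Spec.map_comp_assoc, ← cancel_mono M.left.isoSpec.hom, Category.assoc,
    Iso.inv_hom_id, Category.comp_id, ← hξ]
  congr 1
  exact CommRingCat.hom_ext hv1.symm

end K770.InfKill
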