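import Groth.Agent.S18315
import Groth.Agent.AbSch.K453.Slice
import Groth.Prelude.Def_BigSite

/-!
# Vanishing of the fppf cohomology of smooth groups over schemes without étale cohomology
-/

set_option autoImplicit false
universe u
open CategoryTheory AlgebraicGeometry

noncomputable section

namespace K770.SmoothVan

/-- Restriction of the sheaf of points along a morphism. -/
def pullPts {X Y : Scheme.{u}} (f : Y ⟶ X) (G : Over X) [GrpObj G] [IsCommMonObj G] :
    (BigSite.pullBig Scheme.fppfPrecoverage f AddCommGrpCat.{u + 1}).obj (CGrpSh.pts Scheme.fppfPrecoverage G) ≅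
      CGrpSh.pts Scheme.fppfPrecoverage (Red.bc f G) :=
  K453.Slice.ptsIso Scheme.fppfPrecoverage (Over.mk f) G

theorem subsingleton_H_of_iso {K : Precoverage Scheme.{u}} {X : Scheme.{u}} {F F' : BigSite.Ab K X} (e : F ≅ F') (j : ℕ)
    (h : Subsingleton (BigSite.H K X F' j)) : Subsingleton (BigSite.H K X F j) := by
  refine @Function.Injective.subsingleton _ _ (Sheaf.H.map e.hom j) ?_ h
  intro x y hxy
  have h1 := congrArg (Sheaf.H.map e.inv j) hxy
  rwa [← Sheaf.H.map_comp_apply, ← Sheaf.H.map_comp_apply, e.hom_inv_id, Sheaf.H.map_id_apply,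
    Sheaf.H.map_id_apply] at h1

/-- `H^j(U, G) = 0` for smooth `G` if the étale cohomology of `U` vanishes in degree `j`. -/
theorem subsingleton_HU {X : Scheme.{u}} (G : Over X) [GrpObj G] [IsCommMonObj G] [Smooth G.hom] (U : Over X) (j : ℕ)
    (h : ∀ F : EtCoh.Ab U.left, Subsingleton (EtCoh.H U.left F j)) :
    Subsingleton (BigSite.HU Scheme.fppfPrecoverage (CGrpSh.pts Scheme.fppfPrecoverage G) j U) := by
  have hsm : Smooth (Red.bc U.hom G).hom := by
    change Smooth (Limits.pullback.snd G.hom U.hom)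
    infer_instance
  obtain ⟨e⟩ := Groth.Agent.S18315.result U.left (Red.bc U.hom G) j
  have h1 := h ((EtFppf.aPush U.left).obj (CGrpSh.pts Scheme.fppfPrecoverage (Red.bc U.hom G)))
  have h2 : Subsingleton (EtFppf.HF U.left (CGrpSh.pts Scheme.fppfPrecoverage (Red.bc U.hom G)) j) :=
    e.symm.toEquiv.subsingleton
  exact subsingleton_H_of_iso (pullPts U.hom G) j h2

end K770.SmoothVan
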