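import Groth.Agent.TateLoc.K809.UnitSch
import Groth.Agent.TateLoc.K809.QuotFin
import Groth.Agent.TateLoc.K809.SeqExact
import Groth.Agent.TateLoc.K809.Les
import Groth.Agent.GaDual.K770.InfKill
import Groth.Agent.GaDual.K770.SmoothVan
import Groth.Prelude.Def_HRes

/-!
# Vanishing of the cohomology of infinitesimal groups over semiperfect rings without étale cohomology
-/

set_option autoImplicit false
universe u
open CategoryTheory CategoryTheory.Limits MonoidalCategory CartesianMonoidalCategory MonObj AlgebraicGeometry Opposite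

noncomputable section

namespace K770.InfVan

open K770.FrobN K770.InfKill Groth.Agent.Etdl.H432.Sec

/-- Surjectivity on sections over a scheme isomorphic to the spectrum of a semiperfect ring. -/
theorem surj (p : ℕ) [Fact p.Prime] (K : Type u) [Field K] [CharP K p] [PerfectRing K p] (B : Type u) [CommRing B]
    [CharP B p] (s : K →+* B) (hF : Function.Surjective (frobenius B p)) {I A M : Over (Spec (CommRingCat.of K))}
    [GrpObj I] [IsCommMonObj I] [IsFinite I.hom] [Subsingleton I.left]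
    [GrpObj A] [IsCommMonObj A] [GrpObj M] [IsCommMonObj M] [Smooth M.hom] [IsAffine M.left]
    (v : I ⟶ A) [IsMonHom v] (q : A ⟶ M) [IsMonHom q] (w : v ≫ q = 1)
    (hS : (CGrpSh.seq Scheme.fppfPrecoverage v q w).ShortExact)
    (T : Over (Spec (CommRingCat.of K))) (e : T ≅ Over.mk (Spec.map (CommRingCat.ofHom s))) :
    Function.Surjective (m (CGrpSh.seq Scheme.fppfPrecoverage v q w).g T) := by
  have hepi := hS.epi_g
  have hmono := hS.mono_f
  obtain ⟨N, hN⟩ := exists_kill p K I
  have hker : ∀ (T : Over (Spec (CommRingCat.of K))) (a : Γs (CGrpSh.seq Scheme.fppfPrecoverage v q w).X₂ T),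
      m (CGrpSh.seq Scheme.fppfPrecoverage v q w).g T a = 0 →
        r (CGrpSh.seq Scheme.fppfPrecoverage v q w).X₂ (F p N T) a = 0 := by
    intro T a ha
    obtain ⟨c, rfl⟩ := K731.Basic.exists_of_exact_of_mono (CGrpSh.seq Scheme.fppfPrecoverage v q w) hS.exact a ha
    have h1 : r (CGrpSh.seq Scheme.fppfPrecoverage v q w).X₁ (F p N T) c = 0 := by
      apply ULift.ext
      change Additive.ofMul (F p N T ≫ c.down.toMul) = 0
      rw [hN T c.down.toMul, ← Hom.one_def]
      rfl
    change r (CGrpSh.seq Scheme.fppfPrecoverage v q w).X₂ (F p N T) (m (CGrpSh.seq Scheme.fppfPrecoverage v q w).f T c) = 0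
    rw [← m_r, h1, map_zero]
  intro x
  let x0 : Over.mk (Spec.map (CommRingCat.ofHom s)) ⟶ M := e.inv ≫ x.down.toMul
  obtain ⟨T', k, x', hx'⟩ := exists_untwist p K B s hF M N x0
  let xs : Γs (CGrpSh.seq Scheme.fppfPrecoverage v q w).X₃ T' := ULift.up (Additive.ofMul x')
  obtain ⟨a, ha⟩ := exists_lift_F p N (CGrpSh.seq Scheme.fppfPrecoverage v q w).g hker T' xs
  refine ⟨r _ (e.hom ≫ k.hom) a, ?_⟩
  rw [m_r, ha, r_r]
  apply ULift.ext
  change Additive.ofMul (((e.hom ≫ k.hom) ≫ F p N T') ≫ x') = x.down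
  have h2 : ((e.hom ≫ k.hom) ≫ F p N T') ≫ x' = x.down.toMul := by
    rw [Category.assoc, Category.assoc, ← hx']
    change e.hom ≫ e.inv ≫ x.down.toMul = _
    rw [Iso.hom_inv_id_assoc]
  rw [h2]
  rfl

theorem H0_surj {Y : Scheme.{u}} {F G : BigSite.Ab Scheme.fppfPrecoverage Y} (f : F ⟶ G)
    (h : Function.Surjective (f.hom.app (op (Over.mk (𝟙 Y))))) : Function.Surjective (Sheaf.H.map f 0) := by
  intro x
  let hT : IsTerminal (Over.mk (𝟙 Y)) := Over.mkIdTerminal
  obtain ⟨a, ha⟩ := h (Sheaf.H.equiv₀ _ hT x)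
  refine ⟨(Sheaf.H.equiv₀ _ hT).symm a, ?_⟩
  rw [Sheaf.H.equiv₀_symm_naturality, ha, AddEquiv.symm_apply_apply]

theorem main (p : ℕ) [Fact p.Prime] (K : Type u) [Field K] [CharP K p] [PerfectRing K p] (B : Type u) [CommRing B]
    [CharP B p] (s : K →+* B) (hF : Function.Surjective (frobenius B p))
    (hB : ∀ (G : EtCoh.Ab (Spec (CommRingCat.of B))) (i : ℕ), 1 ≤ i → Subsingleton (EtCoh.H (Spec (CommRingCat.of B)) G i))
    (I : Over (Spec (CommRingCat.of K))) [GrpObj I] [IsCommMonObj I] [IsFinite I.hom] [Subsingleton I.left]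
    (j : ℕ) (hj : 0 < j) :
    Subsingleton (BigSite.HU Scheme.fppfPrecoverage (CGrpSh.pts Scheme.fppfPrecoverage I) j
      (Over.mk (Spec.map (CommRingCat.ofHom s)))) := by
  have hfl : Flat I.hom := inferInstance
  have hfp : LocallyOfFinitePresentation I.hom := inferInstance
  obtain ⟨A, gA, cA, v, hv, hm, hs, ha⟩ := K809.UnitSch.exists_emb (CommRingCat.of K) I
  have hA : IsAffineHom A.hom := inferInstance
  obtain ⟨M, gM, cM, q, hq, hfin, hsur, haM, hk, -⟩ :=
    K809.QuotFin.exists_quot (I := I) (G := A) v ⟨‹_›, ‹_›, ‹_›⟩ hA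
  have hM : IsAffine M.left := haM ha
  obtain ⟨q1, q2, q3⟩ := hfin
  have hsm : Smooth M.hom := by
    have : Smooth (q.left ≫ M.hom) := by rw [Over.w]; exact hs
    exact Groth.Agent.S0115.result q.left M.hom
  have w : v ≫ q = 1 := by
    have := hk.w
    rw [this]
    rfl
  have hex := K809.SeqExact.shortExact v q w hk
  let U : Over (Spec (CommRingCat.of K)) := Over.mk (Spec.map (CommRingCat.ofHom s))
  let P := BigSite.pullBig Scheme.fppfPrecoverage U.hom AddCommGrpCat.{u + 1}
  have hP := hex.map_of_exact P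
  let Z : BigSite.Ab Scheme.fppfPrecoverage U.left :=
    (constantSheaf (QuotSh.J Scheme.fppfPrecoverage U.left) AddCommGrpCat.{u + 1}).obj (AddCommGrpCat.of (ULift ℤ))
  obtain ⟨n, rfl⟩ : ∃ n, j = n + 1 := ⟨j - 1, by omega⟩
  have hA1 : Subsingleton (Abelian.Ext Z (((CGrpSh.seq Scheme.fppfPrecoverage v q w).map P).X₂) (n + 1)) :=
    SmoothVan.subsingleton_HU A U (n + 1) (fun G => hB G (n + 1) (by omega))
  rcases Nat.eq_zero_or_pos n with rfl | hn
  · have hsurj : Function.Surjective (Sheaf.H.map ((CGrpSh.seq Scheme.fppfPrecoverage v q w).map P).g 0) :=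
      H0_surj _ (surj p K B s hF v q w hex ((Over.map U.hom).obj (Over.mk (𝟙 U.left)))
        (Over.isoMk (Iso.refl _) (by
          change 𝟙 _ ≫ U.hom = 𝟙 _ ≫ U.hom
          rfl)))
    refine subsingleton_of_forall_eq 0 fun x => ?_
    obtain ⟨y, rfl⟩ := (K809.Les.exact₁ Z hP 0 x).1 (Subsingleton.elim _ _)
    obtain ⟨z, rfl⟩ := hsurj y
    exact (K809.Les.exact₃ Z hP 0 _).2 ⟨z, rfl⟩
  · have hM1 : Subsingleton (Abelian.Ext Z (((CGrpSh.seq Scheme.fppfPrecoverage v q w).map P).X₃) n) :=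
      SmoothVan.subsingleton_HU M U n (fun G => hB G n (by omega))
    exact K809.Les.subsingleton_left Z hP hM1 hA1

end K770.InfVan
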