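import Groth.Agent.GaDual.K770.Form
import Mathlib.RingTheory.MvPolynomial.Ideal
import Mathlib.NumberTheory.Wilson

/-!
# A truncated Artin-Hasse exponential

`exists_E`: over a ring of characteristic `p` there is a polynomial `E` with `E(0) = 1` and
`E(X+Y) = E(X) E(Y) (1 + S(X,Y))` up to terms of total degree `≥ 2p`.
-/

set_option autoImplicit false
universe u

namespace K770.KeyE

open K770.Coeff K770.Char K770.Comb K770.Coc3 K770.Cocycle K770.Form

variable {p : ℕ} [hp : Fact p.Prime] {R : Type u} [CommRing R]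

section Order

theorem degree_ee (i j : ℕ) : (ee i j).degree = i + j := by
  rw [Finsupp.degree_eq_sum, Fin.sum_univ_two]; simp

theorem degree_e3 (a b d : ℕ) : (e3 a b d).degree = a + b + d := by
  rw [Finsupp.degree_eq_sum, Fin.sum_univ_three]; simp

/-- Polynomials in two variables of order `≥ n`. -/
noncomputable abbrev m2 (R : Type u) [CommRing R] : Ideal (MvPolynomial (Fin 2) R) := MvPolynomial.idealOfVars (Fin 2) R

noncomputable abbrev m3 (R : Type u) [CommRing R] : Ideal (MvPolynomial (Fin 3) R) := MvPolynomial.idealOfVars (Fin 3) R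

theorem mem_m2_pow {n : ℕ} {P : MvPolynomial (Fin 2) R} :
    P ∈ m2 R ^ n ↔ ∀ i j, i + j < n → MvPolynomial.coeff (ee i j) P = 0 := by
  rw [MvPolynomial.mem_pow_idealOfVars_iff']
  constructor
  · intro h i j hij
    exact h _ (by rwa [degree_ee])
  · intro h e he
    rw [eq_ee e] at he ⊢
    rw [degree_ee] at he
    exact h _ _ he

theorem mem_m3_pow {n : ℕ} {P : MvPolynomial (Fin 3) R} :
    P ∈ m3 R ^ n ↔ ∀ a b d, a + b + d < n → MvPolynomial.coeff (e3 a b d) P = 0 := by
  rw [MvPolynomial.mem_pow_idealOfVars_iff']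
  constructor
  · intro h a b d hij
    exact h _ (by rwa [degree_e3])
  · intro h e he
    rw [eq_e3 e] at he ⊢
    rw [degree_e3] at he
    exact h _ _ _ he

theorem X_mem_m3 (i : Fin 3) : (MvPolynomial.X i : MvPolynomial (Fin 3) R) ∈ m3 R :=
  Ideal.subset_span ⟨i, rfl⟩

theorem X_mem_m2 (i : Fin 2) : (MvPolynomial.X i : MvPolynomial (Fin 2) R) ∈ m2 R :=
  Ideal.subset_span ⟨i, rfl⟩

theorem aeval_mem {B : Type*} [CommRing B] [Algebra R B] (I : Ideal B) {n : ℕ} {P : MvPolynomial (Fin 2) R} (hP : P ∈ m2 R ^ n)
    {u v : B} (hu : u ∈ I) (hv : v ∈ I) : MvPolynomial.aeval ![u, v] P ∈ I ^ n := by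
  have h1 : Ideal.map (MvPolynomial.aeval ![u, v] : MvPolynomial (Fin 2) R →ₐ[R] B) (m2 R) ≤ I := by
    change Ideal.map _ (Ideal.span (Set.range MvPolynomial.X)) ≤ I
    rw [Ideal.map_span, Ideal.span_le]
    rintro _ ⟨_, ⟨i, rfl⟩, rfl⟩
    rw [MvPolynomial.aeval_X]
    fin_cases i
    · exact hu
    · exact hv
  have h2 := Ideal.mem_map_of_mem (MvPolynomial.aeval ![u, v] : MvPolynomial (Fin 2) R →ₐ[R] B) hP
  rw [Ideal.map_pow] at h2
  exact Ideal.pow_right_mono h1 n h2

theorem aeval_sub_one_mem {B : Type*} [CommRing B] [Algebra R B] (I : Ideal B) {E : Polynomial R} (hE : E.coeff 0 = 1)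
    {t : B} (ht : t ∈ I) : Polynomial.aeval t E - 1 ∈ I := by
  have h1 : E = Polynomial.divX E * Polynomial.X + 1 := by
    conv_lhs => rw [← Polynomial.divX_mul_X_add E, hE, map_one]
  rw [h1, map_add, map_mul, map_one, Polynomial.aeval_X, add_sub_cancel_right]
  exact I.mul_mem_left _ ht

theorem S_mem (p : ℕ) (R : Type u) [CommRing R] : S p R ∈ m2 R ^ p := by
  rw [mem_m2_pow]
  intro i j hij
  rw [coeff_S, if_neg (by omega)]

end Order

/-- The defect. -/
noncomputable def D (p : ℕ) (E : Polynomial R) : MvPolynomial (Fin 2) R :=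
  Polynomial.aeval (MvPolynomial.X 0 + MvPolynomial.X 1 : MvPolynomial (Fin 2) R) E -
    Polynomial.aeval (MvPolynomial.X 0 : MvPolynomial (Fin 2) R) E *
      Polynomial.aeval (MvPolynomial.X 1 : MvPolynomial (Fin 2) R) E * (1 + S p R)

omit hp in
theorem eval_D {B : Type*} [CommRing B] [Algebra R B] (E : Polynomial R) (s t : B) :
    MvPolynomial.aeval ![s, t] (D p E) = Polynomial.aeval (s + t) E - Polynomial.aeval s E * Polynomial.aeval t E *
      (1 + MvPolynomial.aeval ![s, t] (S p R)) := by
  rw [D, map_sub, map_mul, map_mul, ← Polynomial.aeval_algHom_apply, ← Polynomial.aeval_algHom_apply,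
    ← Polynomial.aeval_algHom_apply, map_add, map_add, map_one, MvPolynomial.aeval_X, MvPolynomial.aeval_X]
  rfl

theorem D_symm (E : Polynomial R) (i j : ℕ) :
    MvPolynomial.coeff (ee i j) (D p E) = MvPolynomial.coeff (ee j i) (D p E) := by
  have h1 : MvPolynomial.aeval ![(MvPolynomial.X 1 : MvPolynomial (Fin 2) R), MvPolynomial.X 0] (D p E) = D p E := by
    rw [eval_D, symm_S, add_comm, mul_comm (Polynomial.aeval _ E)]
    rfl
  exact (symm_iff _).1 h1 i j

variable [CharP R p]

/-- The coboundary of the defect in degree `n`, `p ≤ n < 2p`. -/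
theorem D_coc {E : Polynomial R} (hE : E.coeff 0 = 1) {n : ℕ} (hD : D p E ∈ m2 R ^ n) (hn : n < 2 * p) :
    MvPolynomial.aeval ![MvPolynomial.X 0, MvPolynomial.X 1 + MvPolynomial.X 2] (D p E)
          + MvPolynomial.aeval ![MvPolynomial.X 1, MvPolynomial.X 2] (D p E)
          - MvPolynomial.aeval ![MvPolynomial.X 0 + MvPolynomial.X 1, MvPolynomial.X 2] (D p E)
          - MvPolynomial.aeval ![MvPolynomial.X 0, MvPolynomial.X 1] (D p E) ∈ m3 R ^ (n + 1) := by
  have hX := X_mem_m3 (R := R) 0
  have hY := X_mem_m3 (R := R) 1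
  have hZ := X_mem_m3 (R := R) 2
  generalize (MvPolynomial.X 0 : MvPolynomial (Fin 3) R) = x at hX ⊢
  generalize (MvPolynomial.X 1 : MvPolynomial (Fin 3) R) = y at hY ⊢
  generalize (MvPolynomial.X 2 : MvPolynomial (Fin 3) R) = z at hZ ⊢
  have e1 := eval_D (p := p) E x y
  have e2 := eval_D (p := p) E (x + y) z
  have e3 := eval_D (p := p) E y z
  have e4 := eval_D (p := p) E x (y + z)
  have hS := eval_coc (p := p) (R := R) x y z
  have hD1 := aeval_mem (m3 R) hD hX hY
  have hD3 := aeval_mem (m3 R) hD hY hZ
  have hS1 := aeval_mem (m3 R) (S_mem p R) hX hY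
  have hS2 := aeval_mem (m3 R) (S_mem p R) ((m3 R).add_mem hX hY) hZ
  have hS3 := aeval_mem (m3 R) (S_mem p R) hY hZ
  have hS4 := aeval_mem (m3 R) (S_mem p R) hX ((m3 R).add_mem hY hZ)
  have hp0 : m3 R ^ p ≤ m3 R := Ideal.pow_le_self hp.out.ne_zero
  have hz1 := aeval_sub_one_mem (m3 R) hE hZ
  have hx1 := aeval_sub_one_mem (m3 R) hE hX
  rw [← add_assoc] at e4
  generalize MvPolynomial.aeval ![x, y] (D p E) = D1 at *
  generalize MvPolynomial.aeval ![x + y, z] (D p E) = D2 at *
  generalize MvPolynomial.aeval ![y, z] (D p E) = D3 at *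
  generalize MvPolynomial.aeval ![x, y + z] (D p E) = D4 at *
  generalize MvPolynomial.aeval ![x, y] (S p R) = S1 at *
  generalize MvPolynomial.aeval ![x + y, z] (S p R) = S2 at *
  generalize MvPolynomial.aeval ![y, z] (S p R) = S3 at *
  generalize MvPolynomial.aeval ![x, y + z] (S p R) = S4 at *
  generalize Polynomial.aeval (x + y + z) E = exyz at *
  generalize Polynomial.aeval (x + y) E = exy at *
  generalize Polynomial.aeval (y + z) E = eyz at *
  generalize Polynomial.aeval x E = ex at *
  generalize Polynomial.aeval y E = ey at *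
  generalize Polynomial.aeval z E = ez at *
  have key : D4 + D3 - D2 - D1 = ex * ey * ez * (S1 * S2 - S3 * S4) + D1 * (ez * (1 + S2) - 1) -
      D3 * (ex * (1 + S4) - 1) := by
    linear_combination (-ex * ey * ez) * hS + e4 - e2 + (ex * (1 + S4)) * e3 - (ez * (1 + S2)) * e1
  rw [key]
  have hle : m3 R ^ (p + p) ≤ m3 R ^ (n + 1) := Ideal.pow_le_pow_right (by omega)
  refine Ideal.sub_mem _ (Ideal.add_mem _ ?_ ?_) ?_
  · refine Ideal.mul_mem_left _ _ (Ideal.sub_mem _ (hle ?_) (hle ?_))
    · rw [pow_add]
      exact Ideal.mul_mem_mul hS1 hS2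
    · rw [pow_add]
      exact Ideal.mul_mem_mul hS3 hS4
  · rw [pow_succ]
    refine Ideal.mul_mem_mul hD1 ?_
    have : ez * (1 + S2) - 1 = (ez - 1) + ez * S2 := by ring
    rw [this]
    exact Ideal.add_mem _ hz1 (Ideal.mul_mem_left _ _ (hp0 hS2))
  · rw [pow_succ]
    refine Ideal.mul_mem_mul hD3 ?_
    have : ex * (1 + S4) - 1 = (ex - 1) + ex * S4 := by ring
    rw [this]
    exact Ideal.add_mem _ hx1 (Ideal.mul_mem_left _ _ (hp0 hS4))

theorem step {E : Polynomial R} (hE : E.coeff 0 = 1) {n : ℕ} (hD : D p E ∈ m2 R ^ n) (hpn : p < n) (hn : n < 2 * p) :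
    ∃ E' : Polynomial R, E'.coeff 0 = 1 ∧ D p E' ∈ m2 R ^ (n + 1) := by
  have hcoc := mem_m3_pow.1 (D_coc hE hD hn)
  set c : ℕ → ℕ → R := fun i j => MvPolynomial.coeff (ee i j) (D p E) with hc
  have hr : ∀ a b d, a + b + d = n → ((b + d).choose b : R) * c a (b + d) + (if a = 0 then c b d else 0) -
      ((a + b).choose a : R) * c (a + b) d - (if d = 0 then c a b else 0) = 0 := by
    intro a b d habd
    have := hcoc a b d (by omega)
    rw [MvPolynomial.coeff_sub, MvPolynomial.coeff_sub, MvPolynomial.coeff_add, coeff_1, coeff_2, coeff_3,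
      coeff_4] at this
    exact this
  have h0 : c 0 n = 0 := by
    have h1 := hr 0 0 n (by omega)
    rw [if_pos rfl, if_neg (by omega), zero_add, zero_add, Nat.choose_zero_right] at h1
    simpa using h1
  have hrel : Rel n (fun e => c e (n - e)) := by
    constructor
    · intro a e h1 h2 h3
      have h4 := hr a (e - a) (n - e) (by omega)
      rw [if_neg (by omega), if_neg (by omega), add_zero, sub_zero, sub_eq_zero] at h4
      have e1 : e - a + (n - e) = n - a := by omega
      have e2 : a + (e - a) = e := by omega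
      rw [e1, e2] at h4
      exact h4
    · intro e h1 h2
      have e3 : n - (n - e) = e := by omega
      rw [e3]
      exact D_symm _ _ _
  have hpn' : ¬ p ∣ n := by
    rintro ⟨k, hk⟩
    have h1 : 1 < k := by
      by_contra h
      have : k ≤ 1 := by omega
      have := Nat.mul_le_mul_left p this
      omega
    have h2 : k < 2 := by
      by_contra h
      have : 2 ≤ k := by omega
      have := Nat.mul_le_mul_left p this
      omega
    omega
  obtain ⟨g, hg⟩ : ∃ g : R, ∀ i j, 1 ≤ i → 1 ≤ j → i + j = n → c i j = (n.choose i : R) * g := by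
    refine ⟨Ring.inverse (n : R) * c (p ^ 0) (n - p ^ 0), fun i j hi hj hij => ?_⟩
    have h1 := hrel.eq_binom (k := 0) (m := n) (by simp) (by have := hp.out.two_le; omega) hpn' (e := i) hi (by omega)
    have h2 : n - i = j := by omega
    rw [h2] at h1
    exact h1
  refine ⟨E - Polynomial.C g * Polynomial.X ^ n, ?_, ?_⟩
  · rw [Polynomial.coeff_sub, hE, Polynomial.coeff_C_mul_X_pow, if_neg (by omega), sub_zero]
  · set x : MvPolynomial (Fin 2) R := MvPolynomial.X 0 with hx
    set y : MvPolynomial (Fin 2) R := MvPolynomial.X 1 with hy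
    set G : MvPolynomial (Fin 2) R := MvPolynomial.C g with hG
    have hD' : D p (E - Polynomial.C g * Polynomial.X ^ n) = (D p E - G * ((x + y) ^ n - x ^ n - y ^ n)) +
        (G * x ^ n * (Polynomial.aeval y E * (1 + S p R) - 1) + G * y ^ n * (Polynomial.aeval x E * (1 + S p R) - 1) -
          G ^ 2 * x ^ n * y ^ n * (1 + S p R)) := by
      have h1 : ∀ t : MvPolynomial (Fin 2) R, Polynomial.aeval t (E - Polynomial.C g * Polynomial.X ^ n) =
          Polynomial.aeval t E - G * t ^ n := by
        intro t
        rw [map_sub, map_mul, Polynomial.aeval_C, map_pow, Polynomial.aeval_X]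
        rfl
      rw [D, D, h1, h1, h1]
      ring
    rw [hD']
    have hxm : x ∈ m2 R := X_mem_m2 0
    have hym : y ∈ m2 R := X_mem_m2 1
    have hSm : S p R ∈ m2 R := Ideal.pow_le_self hp.out.ne_zero (S_mem p R)
    have hxn : x ^ n ∈ m2 R ^ n := Ideal.pow_mem_pow hxm n
    have hyn : y ^ n ∈ m2 R ^ n := Ideal.pow_mem_pow hym n
    refine Ideal.add_mem _ ?_ (Ideal.sub_mem _ (Ideal.add_mem _ ?_ ?_) ?_)
    · rw [mem_m2_pow]
      intro i j hij
      rw [MvPolynomial.coeff_sub, hG, MvPolynomial.coeff_C_mul, MvPolynomial.coeff_sub, MvPolynomial.coeff_sub,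
        coeff_add_pow']
      have h2 := coeff_X_pow_mul (A := R) i j n 0
      have h3 := coeff_X_pow_mul (A := R) i j 0 n
      rw [pow_zero, mul_one] at h2
      rw [pow_zero, one_mul] at h3
      rw [h2, h3]
      by_cases h4 : i + j = n
      · rw [if_pos h4]
        by_cases h5 : i = 0
        · have h6 : j = n := by omega
          rw [h5, h6, if_neg (by omega), if_pos ⟨rfl, rfl⟩, zero_add, Nat.choose_zero_right]
          have : MvPolynomial.coeff (ee 0 n) (D p E) = 0 := h0
          rw [this]
          simp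
        · by_cases h5' : j = 0
          · have h6 : i = n := by omega
            rw [h5', h6, if_pos ⟨rfl, rfl⟩, if_neg (by omega), add_zero, Nat.choose_self]
            have : MvPolynomial.coeff (ee n 0) (D p E) = 0 := (D_symm _ _ _).trans h0
            rw [this]
            simp
          · rw [if_neg (by omega), if_neg (by omega), sub_zero, sub_zero]
            have := hg i j (by omega) (by omega) h4
            rw [h4, mul_comm g, ← this, sub_self]
      · rw [if_neg h4, if_neg (by omega), if_neg (by omega)]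
        rw [mem_m2_pow.1 hD i j (by omega)]
        simp
    · rw [pow_succ]
      refine Ideal.mul_mem_mul (Ideal.mul_mem_left _ _ hxn) ?_
      have h1 : Polynomial.aeval y E * (1 + S p R) - 1 = (Polynomial.aeval y E - 1) + Polynomial.aeval y E * S p R := by
        ring
      rw [h1]
      exact Ideal.add_mem _ (aeval_sub_one_mem _ hE hym) (Ideal.mul_mem_left _ _ hSm)
    · rw [pow_succ]
      refine Ideal.mul_mem_mul (Ideal.mul_mem_left _ _ hyn) ?_
      have h1 : Polynomial.aeval x E * (1 + S p R) - 1 = (Polynomial.aeval x E - 1) + Polynomial.aeval x E * S p R := by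
        ring
      rw [h1]
      exact Ideal.add_mem _ (aeval_sub_one_mem _ hE hxm) (Ideal.mul_mem_left _ _ hSm)
    · refine Ideal.mul_mem_right _ _ ?_
      rw [pow_succ]
      refine Ideal.mul_mem_mul (Ideal.mul_mem_left _ _ hxn) ?_
      exact Ideal.pow_le_self (by omega) hyn

theorem base : ∃ E : Polynomial R, E.coeff 0 = 1 ∧ D p E ∈ m2 R ^ (p + 1) := by
  have hp0 := hp.out.pos
  refine ⟨expp p (1 : R) 0, ?_, ?_⟩
  · rw [coeff_expp_zero, e, if_pos hp0]
    simp
  · have hE0 : (expp p (1 : R) 0).coeff 0 = 1 := by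
      rw [coeff_expp_zero, e, if_pos hp0]
      simp
    set E := expp p (1 : R) 0 with hE
    set x : MvPolynomial (Fin 2) R := MvPolynomial.X 0 with hx
    set y : MvPolynomial (Fin 2) R := MvPolynomial.X 1 with hy
    have h1 : D p E = (Polynomial.aeval (x + y) E - Polynomial.aeval x E * Polynomial.aeval y E - S p R) -
        ((Polynomial.aeval x E - 1) * Polynomial.aeval y E + (Polynomial.aeval y E - 1)) * S p R := by
      rw [D]
      ring
    rw [h1]
    refine Ideal.sub_mem _ ?_ ?_
    · rw [mem_m2_pow]
      intro i j hij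
      rw [MvPolynomial.coeff_sub, MvPolynomial.coeff_sub, coeff_aeval_add, coeff_aeval_mul, coeff_S, hE,
        coeff_expp_zero, coeff_expp_zero, coeff_expp_zero]
      by_cases h2 : i + j = p
      · by_cases h3 : 0 < i ∧ 0 < j
        · have hi : i < p := by omega
          have hj : j < p := by omega
          rw [if_pos ⟨h2, h3.1, h3.2⟩, h2]
          have h4 : e p (1 : R) p = 0 := if_neg (lt_irrefl p)
          rw [h4, mul_zero, zero_sub]
          rw [← neg_add', neg_eq_zero]
          apply ((isUnit_factorial (A := R) p hi).mul (isUnit_factorial (A := R) p hj)).mul_left_cancel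
          have h5 : ((i.factorial : R) * (j.factorial : R)) * (e p (1 : R) i * e p 1 j) = 1 := by
            calc _ = ((i.factorial : R) * e p 1 i) * ((j.factorial : R) * e p 1 j) := by ring
              _ = 1 := by rw [factorial_mul_e p _ hi, factorial_mul_e p _ hj, one_pow, one_pow, one_mul]
          have h6 : ((i.factorial : R) * (j.factorial : R)) * (h p 0 i : R) = -1 := by
            have h7 : i.factorial * j.factorial * h p 0 i = (p - 1).factorial := by
              rw [h_zero]
              obtain ⟨k, hk⟩ := hp.out.dvd_choose_self (k := i) (by omega) hi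
              rw [hk, Nat.mul_div_cancel_left _ hp0]
              have h8 := Nat.choose_mul_factorial_mul_factorial (Nat.le_add_right i j)
              rw [Nat.add_sub_cancel_left, h2, hk] at h8
              have h9 : p.factorial = p * (p - 1).factorial := (Nat.mul_factorial_pred hp.out.ne_zero).symm
              rw [h9] at h8
              apply Nat.eq_of_mul_eq_mul_left hp0
              rw [← h8]
              ring
            have h8 := congrArg (Nat.cast (R := R)) h7
            push_cast at h8
            rw [h8]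
            have h9 := congrArg (ZMod.castHom (dvd_refl p) R) (ZMod.wilsons_lemma p)
            rw [map_natCast, map_neg, map_one] at h9
            exact h9
          rw [mul_add, h5, h6, mul_zero, add_neg_cancel]
        · rw [if_neg (fun h => h3 h.2)]
          have h4 : e p (1 : R) p = 0 := if_neg (lt_irrefl p)
          rw [h2, h4, mul_zero, zero_sub, sub_zero, neg_eq_zero]
          by_cases h5 : i = 0
          · have : j = p := by omega
            rw [this, h4, mul_zero]
          · have : i = p := by omega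
            rw [this, h4, zero_mul]
      · rw [if_neg (fun h => h2 h.1), sub_zero]
        have hij' : i + j < p := by omega
        have hi : i < p := by omega
        have hj : j < p := by omega
        rw [sub_eq_zero]
        apply ((isUnit_factorial (A := R) p hi).mul (isUnit_factorial (A := R) p hj)).mul_left_cancel
        have h5 : ((i.factorial : R) * (j.factorial : R)) * (e p (1 : R) i * e p 1 j) = 1 := by
          calc _ = ((i.factorial : R) * e p 1 i) * ((j.factorial : R) * e p 1 j) := by ring
            _ = 1 := by rw [factorial_mul_e p _ hi, factorial_mul_e p _ hj, one_pow, one_pow, one_mul]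
        rw [h5]
        have h8 := Nat.choose_mul_factorial_mul_factorial (Nat.le_add_right i j)
        rw [Nat.add_sub_cancel_left] at h8
        have h9 := congrArg (Nat.cast (R := R)) h8
        push_cast at h9
        calc _ = (((i + j).choose i : R) * (i.factorial : R) * (j.factorial : R)) * e p 1 (i + j) := by ring
          _ = 1 := by rw [h9, factorial_mul_e p _ hij', one_pow]
    · rw [pow_succ']
      refine Ideal.mul_mem_mul ?_ (S_mem p R)
      exact Ideal.add_mem _ (Ideal.mul_mem_right _ _ (aeval_sub_one_mem _ hE0 (X_mem_m2 0)))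
        (aeval_sub_one_mem _ hE0 (X_mem_m2 1))

variable (p R) in
theorem exists_E : ∃ E : Polynomial R, E.coeff 0 = 1 ∧ D p E ∈ m2 R ^ (2 * p) := by
  have h : ∀ k, p + 1 + k ≤ 2 * p → ∃ E : Polynomial R, E.coeff 0 = 1 ∧ D p E ∈ m2 R ^ (p + 1 + k) := by
    intro k
    induction k with
    | zero => intro _; exact base
    | succ k ih =>
      intro hk
      obtain ⟨E, hE, hD⟩ := ih (by omega)
      exact step (n := p + 1 + k) hE hD (by omega) (by omega)
  have hp2 := hp.out.two_le
  have := h (p - 1) (by omega)
  have h2 : p + 1 + (p - 1) = 2 * p := by omega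
  rwa [h2] at this

end K770.KeyE
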