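import Groth.Agent.GaDual.K770.DvrP
import Groth.Agent.GaDual.K770.PsiPrim
import Mathlib.FieldTheory.Relrank

/-!
# `PB p R t` for fields and discrete valuation rings with `[k : k^p] = p`

`exists_PB`: a field or discrete valuation ring of characteristic `p` whose fraction field has degree `p` over its
subfield of `p`-th powers is free over its subring of `p`-th powers on `1, t, ..., t^(p-1)` for some `t`.
-/

set_option autoImplicit false
universe u

namespace K770.PsiPrim

open Finset

variable {p : ℕ} [hp : Fact p.Prime]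

theorem PB.of_existsUnique {R : Type u} [CommRing R] {t : R}
    (h : ∀ r : R, ∃! c : Fin p → R, r = ∑ i : Fin p, t ^ (i : ℕ) * c i ^ p) : PB p R t where
  gen r := by
    obtain ⟨c, hc, -⟩ := h r
    refine ⟨fun i => if hi : i < p then c ⟨i, hi⟩ else 0, ?_⟩
    rw [hc, ← Fin.sum_univ_eq_sum_range (fun i => (if hi : i < p then c ⟨i, hi⟩ else 0) ^ p * t ^ i) p]
    refine Finset.sum_congr rfl fun i _ => ?_
    rw [dif_pos i.2, mul_comm]
  ind a ha i hi := by
    have h1 : (0 : R) = ∑ i : Fin p, t ^ (i : ℕ) * (fun i : Fin p => a i) i ^ p := by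
      rw [← ha, ← Fin.sum_univ_eq_sum_range (fun i => a i ^ p * t ^ i) p]
      exact Finset.sum_congr rfl fun i _ => mul_comm _ _
    have h2 : (0 : R) = ∑ i : Fin p, t ^ (i : ℕ) * (fun _ : Fin p => (0 : R)) i ^ p := by
      symm
      exact Finset.sum_eq_zero fun i _ => by
        change t ^ (i : ℕ) * (0 : R) ^ p = 0
        rw [zero_pow hp.out.ne_zero, mul_zero]
    exact congrFun ((h 0).unique h1 h2) ⟨i, hi⟩

/-- Existence of `t` from the hypotheses of the row. -/
theorem exists_PB (R : Type u) [CommRing R] [IsDomain R] [CharP R p] (hR : IsField R ∨ IsDiscreteValuationRing R)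
    (kp : Subfield (FractionRing R)) (hkp : ∀ x : FractionRing R, x ∈ kp ↔ ∃ y : FractionRing R, y ^ p = x)
    (hdeg : Module.finrank kp (FractionRing R) = p) : ∃ t : R, PB p R t := by
  have hcK : CharP (FractionRing R) p :=
    charP_of_injective_algebraMap (IsFractionRing.injective R (FractionRing R)) p
  have hkp' : kp = (frobenius (FractionRing R) p).fieldRange := by
    ext x
    rw [hkp]
    rfl
  rw [hkp'] at hdeg
  rcases hR with hR | hR
  · let _ : Field R := hR.toField
    have e : Function.Bijective (algebraMap R (FractionRing R)) := by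
      refine ⟨IsFractionRing.injective R (FractionRing R), fun x => ?_⟩
      obtain ⟨a, b, hb, rfl⟩ := IsFractionRing.div_surjective (A := R) x
      refine ⟨a / b, ?_⟩
      rw [map_div₀]
    obtain ⟨s, hs⟩ : ∃ s : FractionRing R, ¬ ∃ y, y ^ p = s := by
      by_contra hcon
      push Not at hcon
      have h1 : (frobenius (FractionRing R) p).fieldRange = ⊤ := by
        rw [eq_top_iff]
        intro x _
        obtain ⟨y, hy⟩ := hcon x
        exact ⟨y, hy⟩
      have h2 : Module.finrank (frobenius (FractionRing R) p).fieldRange (FractionRing R) = 1 := by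
        rw [h1]
        rw [← Subfield.relfinrank_top_right, Subfield.relfinrank_self]
      exact hp.out.one_lt.ne (h2.symm.trans hdeg)
    obtain ⟨t, ht⟩ := e.2 s
    refine ⟨t, PB.of_existsUnique fun r => ?_⟩
    obtain ⟨y, hy⟩ := DvrP.exists_coeff p hs hdeg (algebraMap R _ r)
    choose c hc using fun i => e.2 (y i)
    refine ⟨c, ?_, fun c' hc' => ?_⟩
    · apply e.1
      rw [hy, map_sum]
      refine Finset.sum_congr rfl fun i _ => ?_
      rw [map_mul, map_pow, map_pow, hc, ht]
    · have h1 := DvrP.coeff_unique p hs (y := fun i => algebraMap R _ (c' i)) (y' := y) (by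
        rw [← hy]
        have h2 : r = ∑ i : Fin p, t ^ (i : ℕ) * c' i ^ p := hc'
        conv_rhs => rw [h2]
        rw [map_sum]
        refine Finset.sum_congr rfl fun i _ => ?_
        rw [map_mul, map_pow, map_pow, ht])
      funext i
      apply e.1
      rw [hc]
      exact congrFun h1 i
  · obtain ⟨π, hπ⟩ := IsDiscreteValuationRing.exists_irreducible R
    exact ⟨π, PB.of_existsUnique (DvrP.exists_unique_coeff p hπ hdeg)⟩

end K770.PsiPrim
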