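import Groth.Agent.Sga3B.GaPts
import Groth.Agent.GaDual.K770.AffUnit

/-!
# Points of `𝔾_m` and `𝔾_a` over `S`; `𝔾_a` and the affine line

* `gmPt X z`, `gmFn_gmPt`, `gmFn_injective`, `gmFn_mul`, `gmFn_one`, `isUnit_gmFn`, `gmFn_comp`.
* `gaTo S : (Ga S).left ⟶ 𝔸(PUnit; S)`, `ofGa`, mutually inverse.
* `unit_Ga`: over a reduced scheme the invertible functions on `𝔾_a` come from the base.
-/

set_option autoImplicit false
universe u
open CategoryTheory MonoidalCategory CartesianMonoidalCategory MonObj GrpObj AlgebraicGeometry Limits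

namespace K770.Pts

open Groth.Agent.Sga3B.DSPts Groth.Agent.Sga3B.GaPts

section gm

variable {S : Scheme.{u}}

/-- the point of `𝔾_m` with coordinate `z` -/
noncomputable def gmPt (X : Over S) (z : Γ(X.left, ⊤)ˣ) : X ⟶ Red.Gm S :=
  dsEquiv X ℤ ((Units.coeHom _).comp (zpowersHom _ z))

@[simp] lemma gmFn_gmPt (X : Over S) (z : Γ(X.left, ⊤)ˣ) : Red.gmFn (gmPt X z) = z := by
  rw [Groth.Agent.Sga3B.GaPts.gmFn_eq, gmPt, dsChar_dsEquiv]
  simp [zpowersHom_apply]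

lemma gmFn_injective (X : Over S) : Function.Injective (Red.gmFn : (X ⟶ Red.Gm S) → _) := by
  intro x y h
  rw [Groth.Agent.Sga3B.GaPts.gmFn_eq, Groth.Agent.Sga3B.GaPts.gmFn_eq] at h
  rw [← dsEquiv_dsChar x, ← dsEquiv_dsChar y]
  congr 1
  exact MonoidHom.ext_mint h

lemma gmFn_mul {X : Over S} (x y : X ⟶ Red.Gm S) : Red.gmFn (x * y) = Red.gmFn x * Red.gmFn y := by
  rw [Groth.Agent.Sga3B.GaPts.gmFn_eq, Groth.Agent.Sga3B.GaPts.gmFn_eq,
    Groth.Agent.Sga3B.GaPts.gmFn_eq, dsChar_mul]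
  rfl

@[simp] lemma gmFn_one {X : Over S} : Red.gmFn (1 : X ⟶ Red.Gm S) = 1 := by
  have h : (1 : X ⟶ Red.Gm S) = gmPt X 1 := by
    rw [gmPt]
    have : ((Units.coeHom Γ(X.left, ⊤)).comp (zpowersHom _ 1)) = 1 := by
      refine MonoidHom.ext_mint ?_
      simp
    rw [this, map_one]
  rw [h, gmFn_gmPt, Units.val_one]

lemma isUnit_gmFn {X : Over S} (x : X ⟶ Red.Gm S) : IsUnit (Red.gmFn x) := by
  have h : Red.gmFn x * Red.gmFn x⁻¹ = 1 := by
    rw [← gmFn_mul, mul_inv_cancel, gmFn_one]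
  exact IsUnit.of_mul_eq_one _ h

lemma gmFn_comp {X X' : Over S} (h : X' ⟶ X) (x : X ⟶ Red.Gm S) :
    Red.gmFn (h ≫ x) = h.left.appTop (Red.gmFn x) := by
  rw [Red.gmFn, Red.gmFn, Over.comp_left, Category.assoc, Scheme.Hom.comp_appTop]
  rfl

lemma exists_gmPt {X : Over S} {z : Γ(X.left, ⊤)} (hz : IsUnit z) : ∃ x : X ⟶ Red.Gm S, Red.gmFn x = z :=
  ⟨gmPt X hz.unit, by rw [gmFn_gmPt]; rfl⟩

end gm

section line

variable (S : Scheme.{u})

/-- The affine line, as a scheme over `S`. -/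
noncomputable abbrev A1 : Over S := Over.mk (𝔸(PUnit.{u + 1}; S) ↘ S)

/-- `𝔾_a ⟶ 𝔸¹`. -/
noncomputable def gaTo : Red.Ga S ⟶ A1 S :=
  Over.homMk (AffineSpace.homOfVector (Red.Ga S).hom (fun _ => Red.gaFn (𝟙 (Red.Ga S))))
    (AffineSpace.homOfVector_over _ _)

/-- `𝔸¹ ⟶ 𝔾_a`. -/
noncomputable def ofA1 : A1 S ⟶ Red.Ga S := gaPt (A1 S) (AffineSpace.coord S PUnit.unit)

theorem gaTo_ofA1 : gaTo S ≫ ofA1 S = 𝟙 (Red.Ga S) := by
  apply gaFn_injective
  rw [gaFn_comp, ofA1, gaFn_gaPt]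
  exact AffineSpace.homOfVector_appTop_coord _ _ _

theorem ofA1_gaTo : ofA1 S ≫ gaTo S = 𝟙 (A1 S) := by
  ext : 1
  refine AffineSpace.hom_ext ?_ fun i => ?_
  · rw [Over.comp_left, Category.assoc]
    change (ofA1 S).left ≫ (gaTo S).left ≫ (A1 S).hom = _
    rw [Over.w, Over.w]
    exact (Category.id_comp _).symm
  · have h1 : (gaTo S).left.appTop (AffineSpace.coord S i) = Red.gaFn (𝟙 (Red.Ga S)) :=
      AffineSpace.homOfVector_appTop_coord _ _ _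
    rw [Over.comp_left, Scheme.Hom.comp_appTop, CommRingCat.comp_apply, h1, ← gaFn_comp, Category.comp_id, ofA1,
      gaFn_gaPt]
    simp

/-- `𝔾_a` is the affine line. -/
noncomputable def gaIso : Red.Ga S ≅ A1 S where
  hom := gaTo S
  inv := ofA1 S
  hom_inv_id := gaTo_ofA1 S
  inv_hom_id := ofA1_gaTo S

variable {S}

/-- Over a reduced scheme, the invertible functions on `𝔾_a` come from the base. -/
theorem unit_Ga [IsReduced S] (w : Γ((Red.Ga S).left, ⊤)) (hw : IsUnit w) :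
    ∃ v : Γ(S, ⊤), IsUnit v ∧ (Red.Ga S).hom.appTop v = w := by
  have hw' : IsUnit ((ofA1 S).left.appTop w) := hw.map (ofA1 S).left.appTop.hom
  refine ⟨(K770.AffUnit.zs _ S).appTop ((ofA1 S).left.appTop w), hw'.map (K770.AffUnit.zs _ S).appTop.hom, ?_⟩
  have h1 := K770.AffUnit.main PUnit.{u + 1} ((ofA1 S).left.appTop w) hw'
  have h2 : (Red.Ga S).hom = (gaTo S).left ≫ (𝔸(PUnit.{u + 1}; S) ↘ S) := (Over.w (gaTo S)).symm
  rw [h2, Scheme.Hom.comp_appTop, CommRingCat.comp_apply, h1, ← CommRingCat.comp_apply, ← Scheme.Hom.comp_appTop,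
    ← Over.comp_left, gaTo_ofA1]
  simp

/-- `Hom(𝔾_a, 𝔾_m) = 1` over a reduced base. -/
theorem hom_eq_one [IsReduced S] (φ : Red.Ga S ⟶ Red.Gm S) [IsMonHom φ] : φ = 1 := by
  apply gmFn_injective
  rw [gmFn_one]
  obtain ⟨v, -, hv⟩ := unit_Ga (Red.gmFn φ) (isUnit_gmFn φ)
  -- evaluate at the unit section
  have h1 : (1 : Over.mk (𝟙 S) ⟶ Red.Ga S) ≫ φ = 1 := MonObj.one_comp (X := Over.mk (𝟙 S)) φ
  have h2 := congrArg Red.gmFn h1
  rw [gmFn_comp, gmFn_one, ← hv, ← CommRingCat.comp_apply, ← Scheme.Hom.comp_appTop, Over.w] at h2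
  have h3 : v = 1 := by simpa using h2
  rw [← hv, h3, map_one]

end line

end K770.Pts
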